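import Mathlib
import Cfsg.Agent.Lib.Helper2.PGroup
import Cfsg.Agent.Lib.Helper1.UniqueInv

set_option autoImplicit false
universe u
namespace Cfsg.Agent.Lib.Helper8

open scoped commutatorElement

/-- A group of order 4 and exponent 2 with an injective endomorphism of odd order which is not
the identity: the endomorphism permutes the non-identity elements cyclically. -/
theorem h8_v4_odd_aut {V : Type u} [Group V] [Finite V] (hV : Nat.card V = 4)
    (hexp : ∀ v : V, v ^ 2 = 1) (f : V →* V) (hinj : Function.Injective f) (q : ℕ) (hq : Odd q)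
    (hfq : ∀ v, f^[q] v = v) (hne : ∃ v, f v ≠ v) :
    ∀ a : V, a ≠ 1 → f a ≠ 1 ∧ f a ≠ a ∧ f (f a) = a * f a ∧
      ∀ v : V, v = 1 ∨ v = a ∨ v = f a ∨ v = a * f a := by
  classical
  have hinv : ∀ x : V, x⁻¹ = x := fun x =>
    inv_eq_of_mul_eq_one_left (by rw [← pow_two]; exact hexp x)
  have hcov : ∀ a b : V, a ≠ 1 → b ≠ 1 → b ≠ a → ∀ v : V, v = 1 ∨ v = a ∨ v = b ∨ v = a * b := by
    intro a b ha hb hba v
    have : Fintype V := Fintype.ofFinite V
    have n1 : b ∉ ({a * b} : Finset V) := by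
      rw [Finset.mem_singleton]
      intro h
      exact ha (by simpa using h)
    have n2 : a ∉ ({b, a * b} : Finset V) := by
      simp only [Finset.mem_insert, Finset.mem_singleton, not_or]
      exact ⟨fun h => hba h.symm, fun h => hb (by simpa using h)⟩
    have n3 : (1 : V) ∉ ({a, b, a * b} : Finset V) := by
      simp only [Finset.mem_insert, Finset.mem_singleton, not_or]
      refine ⟨fun h => ha h.symm, fun h => hb h.symm, fun h => ?_⟩
      apply hba
      rw [eq_inv_of_mul_eq_one_right h.symm, hinv]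
    have h1 : ({1, a, b, a * b} : Finset V).card = 4 := by
      rw [Finset.card_insert_of_notMem n3, Finset.card_insert_of_notMem n2,
        Finset.card_insert_of_notMem n1, Finset.card_singleton]
    have h2 : ({1, a, b, a * b} : Finset V) = Finset.univ := by
      apply Finset.eq_univ_of_card
      rw [h1, ← Nat.card_eq_fintype_card, hV]
    have h3 := Finset.mem_univ v
    rw [← h2] at h3
    simpa using h3
  have hf1 : f 1 = 1 := map_one f
  have hodd : ∀ w : V, f (f w) = w → f w = w := by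
    intro w hw
    obtain ⟨k, rfl⟩ := hq
    have h1 : (f^[2])^[k] w = w := Function.iterate_fixed (show f^[2] w = w from hw) k
    have h2 := hfq w
    have h3 : f^[2 * k + 1] w = f (f^[2 * k] w) := Function.iterate_succ_apply' f (2 * k) w
    rw [h3, Function.iterate_mul, h1] at h2
    exact h2
  have hfix : ∀ a : V, a ≠ 1 → f a ≠ a := by
    intro a ha hfa
    obtain ⟨w, hw⟩ := hne
    have hw1 : w ≠ 1 := fun h => hw (by rw [h, hf1])
    have hwa : w ≠ a := fun h => hw (by rw [h, hfa])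
    have hfw1 : f w ≠ 1 := fun h => hw1 (hinj (h.trans hf1.symm))
    have hfwa : f w ≠ a := fun h => hwa (hinj (h.trans hfa.symm))
    rcases hcov a w ha hw1 hwa (f w) with h | h | h | h
    · exact hfw1 h
    · exact hfwa h
    · exact hw h
    · apply hw
      apply hodd
      rw [h, map_mul, hfa, h, ← mul_assoc, ← pow_two, hexp, one_mul]
  intro a ha
  have hb1 : f a ≠ 1 := fun h => ha (hinj (h.trans hf1.symm))
  have hba : f a ≠ a := hfix a ha
  refine ⟨hb1, hba, ?_, hcov a (f a) ha hb1 hba⟩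
  have hfb1 : f (f a) ≠ 1 := fun h => hb1 (hinj (h.trans hf1.symm))
  have hfbb : f (f a) ≠ f a := hfix (f a) hb1
  have hfba : f (f a) ≠ a := fun h => hba (hodd a h)
  rcases hcov a (f a) ha hb1 hba (f (f a)) with h | h | h | h
  · exact absurd h hfb1
  · exact absurd h hfba
  · exact absurd h hfbb
  · exact h

/-- An automorphism of prime order `q` fixing a coset `xD` of a `γ`-invariant subgroup `D` with
`q ∤ |D|` fixes an element of that coset. -/
theorem h8_coset_fixed_point {P : Type u} [Group P] [Finite P] (D : Subgroup P) (q : ℕ)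
    [hq : Fact q.Prime] (hqD : ¬ q ∣ Nat.card D) (γ : MulAut P) (hγq : ∀ x, (γ ^ q) x = x)
    (hγD : ∀ u ∈ D, γ u ∈ D) (x : P) (hx : x⁻¹ * γ x ∈ D) : ∃ u ∈ D, γ (x * u) = x * u := by
  classical
  have : Fintype D := Fintype.ofFinite D
  let g : D → D := fun u => ⟨x⁻¹ * γ (x * u.1), by
    rw [map_mul, ← mul_assoc]; exact D.mul_mem hx (hγD u.1 u.2)⟩
  obtain ⟨g', hg'⟩ : ∃ g' : Function.End D, ∀ u, g' u = g u := ⟨g, fun _ => rfl⟩
  have hiter : ∀ (n : ℕ) (u : D), ((g' ^ n) u).1 = x⁻¹ * (γ ^ n) (x * u.1) := by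
    intro n
    induction n with
    | zero =>
      intro u
      rw [pow_zero, pow_zero]
      show u.1 = x⁻¹ * (x * u.1)
      rw [inv_mul_cancel_left]
    | succ n ih =>
      intro u
      rw [pow_succ']
      show (g' ((g' ^ n) u)).1 = x⁻¹ * (γ ^ (n + 1)) (x * u.1)
      rw [hg']
      show x⁻¹ * γ (x * ((g' ^ n) u).1) = x⁻¹ * (γ ^ (n + 1)) (x * u.1)
      rw [ih, pow_succ', MulAut.mul_apply, mul_inv_cancel_left]
  have hgq : g' ^ q ^ 1 = 1 := by
    rw [pow_one]
    funext u
    apply Subtype.ext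
    show ((g' ^ q) u).1 = u.1
    rw [hiter, hγq, inv_mul_cancel_left]
  have hmod := Equiv.Perm.card_fixedPoints_modEq (f := g') (p := q) (n := 1) hgq
  by_contra hno
  push Not at hno
  have hempty : IsEmpty (Function.fixedPoints g') := by
    constructor
    rintro ⟨u, hu⟩
    apply hno u.1 u.2
    have h1 : (g' u).1 = u.1 := congrArg Subtype.val hu
    rw [hg'] at h1
    have h2 : x⁻¹ * γ (x * u.1) = u.1 := h1
    exact eq_mul_of_inv_mul_eq h2
  have h0 : ∀ (inst : Fintype (Function.fixedPoints g')),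
      @Fintype.card _ inst = 0 := fun inst => @Fintype.card_eq_zero _ inst hempty
  rw [h0, Nat.modEq_zero_iff_dvd, ← Nat.card_eq_fintype_card] at hmod
  exact hqD hmod

/-- Burnside: an automorphism of odd prime order of a `2`-group which is trivial modulo the
commutator subgroup is trivial. -/
theorem h8_aut_trivial_of_trivial_mod {P : Type u} [Group P] [Finite P] (hP : IsPGroup 2 P)
    (q : ℕ) [hq : Fact q.Prime] (hq2 : q ≠ 2) (γ : MulAut P) (hγq : γ ^ q = 1)
    (hγ : ∀ x : P, x⁻¹ * γ x ∈ commutator P) : γ = 1 := by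
  have hchar : ∀ u ∈ commutator P, γ u ∈ commutator P := by
    intro u hu
    have h1 := Subgroup.characteristic_iff_map_eq.1
      (inferInstance : (commutator P).Characteristic) γ
    rw [← h1]
    exact Subgroup.mem_map_of_mem _ hu
  have hqD : ¬ q ∣ Nat.card (commutator P) := by
    obtain ⟨k, hk⟩ := IsPGroup.iff_card.1 (hP.to_subgroup (commutator P))
    rw [hk]
    intro h
    exact hq2 ((Nat.prime_dvd_prime_iff_eq hq.out Nat.prime_two).1 (hq.out.dvd_of_dvd_pow h))
  have hF : ∀ x, x ∈ MonoidHom.eqLocus γ.toMonoidHom (MonoidHom.id P) ↔ γ x = x :=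
    fun x => Iff.rfl
  have hsup : MonoidHom.eqLocus γ.toMonoidHom (MonoidHom.id P) ⊔ frattini P = ⊤ := by
    rw [eq_top_iff]
    intro x _
    obtain ⟨u, hu, hxu⟩ := h8_coset_fixed_point (commutator P) q hqD γ
      (fun y => by rw [hγq]; rfl) hchar x (hγ x)
    have e : x = (x * u) * u⁻¹ := by group
    rw [e]
    exact Subgroup.mul_mem _ (Subgroup.mem_sup_left ((hF _).2 hxu))
      (Subgroup.mem_sup_right
        (Cfsg.Agent.Lib.Helper2.commutator_le_frattini_of_pGroup hP (inv_mem hu)))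
  have hFtop := frattini_nongenerating hsup
  ext x
  have h1 : x ∈ MonoidHom.eqLocus γ.toMonoidHom (MonoidHom.id P) := by rw [hFtop]; trivial
  exact (hF x).1 h1

theorem h8_comm_mem_of_two_gen {G : Type u} [Group G] (N : Subgroup G) [N.Normal] (a b : G)
    (hgen : Subgroup.closure ({a, b} : Set G) = ⊤) (hab : ⁅a, b⁆ ∈ N) :
    ∀ g h : G, ⁅g, h⁆ ∈ N := by
  have key : ∀ x : G,
      (QuotientGroup.mk' N a) * (QuotientGroup.mk' N x) =
        (QuotientGroup.mk' N x) * (QuotientGroup.mk' N a) →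
      (QuotientGroup.mk' N b) * (QuotientGroup.mk' N x) =
        (QuotientGroup.mk' N x) * (QuotientGroup.mk' N b) →
      ∀ g : G, (QuotientGroup.mk' N g) * (QuotientGroup.mk' N x) =
        (QuotientGroup.mk' N x) * (QuotientGroup.mk' N g) := by
    intro x hax hbx g
    have hle : Subgroup.closure ({a, b} : Set G) ≤
        (Subgroup.centralizer {QuotientGroup.mk' N x}).comap (QuotientGroup.mk' N) := by
      rw [Subgroup.closure_le]
      intro y hy
      rcases hy with rfl | rfl
      · show QuotientGroup.mk' N y ∈ Subgroup.centralizer {QuotientGroup.mk' N x}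
        rw [Subgroup.mem_centralizer_iff]
        intro h hh
        rw [Set.mem_singleton_iff.1 hh]; exact hax.symm
      · show QuotientGroup.mk' N y ∈ Subgroup.centralizer {QuotientGroup.mk' N x}
        rw [Subgroup.mem_centralizer_iff]
        intro h hh
        rw [Set.mem_singleton_iff.1 hh]; exact hbx.symm
    have hg : g ∈ Subgroup.closure ({a, b} : Set G) := by rw [hgen]; trivial
    have h1 := hle hg
    rw [Subgroup.mem_comap, Subgroup.mem_centralizer_iff] at h1
    exact (h1 _ rfl).symm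
  have hcomm_ab : (QuotientGroup.mk' N a) * (QuotientGroup.mk' N b) =
      (QuotientGroup.mk' N b) * (QuotientGroup.mk' N a) := by
    rw [← commutatorElement_eq_one_iff_mul_comm, ← map_commutatorElement]
    exact (QuotientGroup.eq_one_iff _).2 hab
  have ha_all := key a rfl hcomm_ab.symm
  have hb_all := key b hcomm_ab rfl
  intro g h
  have h1 := key h (ha_all h).symm (hb_all h).symm g
  rw [← commutatorElement_eq_one_iff_mul_comm, ← map_commutatorElement] at h1
  exact (QuotientGroup.eq_one_iff _).1 h1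

theorem h8_eq_bot_of_le_commutator_top {G : Type u} [Group G] [hG : Group.IsNilpotent G]
    (N : Subgroup G) (h : N ≤ ⁅N, (⊤ : Subgroup G)⁆) : N = ⊥ := by
  obtain ⟨n, hn⟩ := Subgroup.nilpotent_iff_lowerCentralSeries.1 hG
  have key : ∀ k, N ≤ (⊤ : Subgroup G).lowerCentralSeries k := by
    intro k
    induction k with
    | zero => exact le_top
    | succ k ih =>
      rw [Subgroup.lowerCentralSeries_succ]
      exact h.trans (Subgroup.commutator_mono ih le_rfl)
  exact eq_bot_iff.2 (hn ▸ key n)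

theorem h8_comm_of_sq_one {G : Type u} [Group G] (x y : G) (hx : x ^ 2 = 1) (hy : y ^ 2 = 1)
    (hxy : (x * y) ^ 2 = 1) : x * y = y * x := by
  have h1 : x * y = (x * y)⁻¹ := eq_inv_of_mul_eq_one_left (by rw [← pow_two]; exact hxy)
  have h2 : y⁻¹ = y := inv_eq_of_mul_eq_one_left (by rw [← pow_two]; exact hy)
  have h3 : x⁻¹ = x := inv_eq_of_mul_eq_one_left (by rw [← pow_two]; exact hx)
  rw [h1, mul_inv_rev, h2, h3]

theorem h8_s4189 {P : Type u} [Group P] [Finite P] (hP : IsPGroup 2 P)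
    (hna : ¬ IsMulCommutative P) (h4 : (commutator P).index = 4)
    (haut : ¬ IsPGroup 2 (MulAut P)) : Nonempty (P ≃* QuaternionGroup 2) := by
  classical
  have hnil : Group.IsNilpotent P := hP.isNilpotent
  obtain ⟨q, hqp, hq2, β, hβ⟩ : ∃ q : ℕ, q.Prime ∧ q ≠ 2 ∧ ∃ β : MulAut P, orderOf β = q := by
    by_contra hno
    push Not at hno
    apply haut
    have hcard : Nat.card (MulAut P) = 2 ^ (Nat.card (MulAut P)).primeFactorsList.length := by
      apply Nat.eq_prime_pow_of_unique_prime_dvd Nat.card_pos.ne'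
      intro d hd hdvd
      by_contra hd2
      have : Fact d.Prime := ⟨hd⟩
      obtain ⟨β, hβ⟩ := exists_prime_orderOf_dvd_card' d hdvd
      exact hno d hd hd2 β hβ
    exact IsPGroup.of_card hcard
  have hqF : Fact q.Prime := ⟨hqp⟩
  have hqodd : Odd q := hqp.odd_of_ne_two hq2
  have hβq : β ^ q = 1 := by rw [← hβ]; exact pow_orderOf_eq_one β
  have hβ1 : β ≠ 1 := by
    intro h
    rw [h, orderOf_one] at hβ
    exact hqp.one_lt.ne hβ
  have hDfr : commutator P ≤ frattini P :=
    Cfsg.Agent.Lib.Helper2.commutator_le_frattini_of_pGroup hP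
  have hVcard : Nat.card (P ⧸ commutator P) = 4 := by
    rw [← Subgroup.index_eq_card]; exact h4
  have hcomm_of : (∀ g h : P, ⁅g, h⁆ = 1) → False := by
    intro h
    apply hna
    exact ⟨⟨fun a b => commutatorElement_eq_one_iff_mul_comm.1 (h a b)⟩⟩
  have hVexp : ∀ v : P ⧸ commutator P, v ^ 2 = 1 := by
    intro v
    have h1 : orderOf v ∣ 2 ^ 2 := by
      have h0 := orderOf_dvd_natCard v
      rwa [hVcard] at h0
    obtain ⟨m, hm, hm'⟩ := (Nat.dvd_prime_pow Nat.prime_two).1 h1
    have h2 : m ≠ 2 := by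
      rintro rfl
      apply hna
      obtain ⟨x, rfl⟩ := QuotientGroup.mk_surjective v
      have hz : Subgroup.zpowers x ⊔ frattini P = ⊤ := by
        rw [eq_top_iff]
        intro g _
        have h3 : Subgroup.zpowers (QuotientGroup.mk x : P ⧸ commutator P) = ⊤ := by
          apply Subgroup.eq_top_of_card_eq
          rw [Nat.card_zpowers, hm', hVcard]; norm_num
        have h4' : (QuotientGroup.mk g : P ⧸ commutator P) ∈
            Subgroup.zpowers (QuotientGroup.mk x : P ⧸ commutator P) := by rw [h3]; trivial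
        obtain ⟨k, hk⟩ := Subgroup.mem_zpowers_iff.1 h4'
        have h5 : (x ^ k)⁻¹ * g ∈ commutator P := by
          apply QuotientGroup.eq.1
          rw [QuotientGroup.mk_zpow]; exact hk
        have e : g = x ^ k * ((x ^ k)⁻¹ * g) := by group
        rw [e]
        exact Subgroup.mul_mem _
          (Subgroup.mem_sup_left (Subgroup.zpow_mem _ (Subgroup.mem_zpowers x) k))
          (Subgroup.mem_sup_right (hDfr h5))
      have htop := frattini_nongenerating hz
      refine ⟨⟨fun a b => ?_⟩⟩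
      have ha : a ∈ Subgroup.zpowers x := by rw [htop]; trivial
      have hb : b ∈ Subgroup.zpowers x := by rw [htop]; trivial
      obtain ⟨i, rfl⟩ := Subgroup.mem_zpowers_iff.1 ha
      obtain ⟨j, rfl⟩ := Subgroup.mem_zpowers_iff.1 hb
      rw [← zpow_add, ← zpow_add, add_comm]
    have h3 : orderOf v ∣ 2 := by
      rw [hm']
      have h0 : m ≤ 1 := by omega
      have h00 : 2 ^ m ∣ 2 ^ 1 := pow_dvd_pow 2 h0
      simpa using h00
    exact orderOf_dvd_iff_pow_eq_one.1 h3
  have hchar : ∀ (γ : MulAut P), ∀ u ∈ commutator P, γ u ∈ commutator P := by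
    intro γ u hu
    have h1 := Subgroup.characteristic_iff_map_eq.1
      (inferInstance : (commutator P).Characteristic) γ
    rw [← h1]
    exact Subgroup.mem_map_of_mem _ hu
  obtain ⟨f, hf⟩ : ∃ f : (P ⧸ commutator P) →* (P ⧸ commutator P),
      ∀ x : P, f (QuotientGroup.mk x) = QuotientGroup.mk (β x) :=
    ⟨QuotientGroup.map (commutator P) (commutator P) β.toMonoidHom (fun u hu => hchar β u hu),
      fun x => rfl⟩
  have hfiter : ∀ (n : ℕ) (x : P),
      f^[n] (QuotientGroup.mk x) = QuotientGroup.mk ((β ^ n) x) := by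
    intro n
    induction n with
    | zero => intro x; rfl
    | succ n ih =>
      intro x
      have e : f^[n + 1] (QuotientGroup.mk x) = f (f^[n] (QuotientGroup.mk x)) :=
        Function.iterate_succ_apply' f n _
      rw [e, ih, hf, pow_succ', MulAut.mul_apply]
  have hfq : ∀ v, f^[q] v = v := by
    intro v
    obtain ⟨x, rfl⟩ := QuotientGroup.mk_surjective v
    rw [hfiter, hβq]; rfl
  have hfinj : Function.Injective f := by
    intro v w hvw
    obtain ⟨k, hk⟩ : ∃ k, q = k + 1 := ⟨q - 1, by have := hqp.pos; omega⟩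
    have hv : f^[k] (f v) = v := by
      have h0 := hfq v
      rw [hk] at h0
      exact h0
    have hw : f^[k] (f w) = w := by
      have h0 := hfq w
      rw [hk] at h0
      exact h0
    rw [← hv, ← hw, hvw]
  have hfne : ∃ v, f v ≠ v := by
    by_contra hno
    push Not at hno
    apply hβ1
    apply h8_aut_trivial_of_trivial_mod hP q hq2 β hβq
    intro x
    exact QuotientGroup.eq.1 ((hno _).symm.trans (hf x))
  have hV4 := h8_v4_odd_aut hVcard hVexp f hfinj q hqodd hfq hfne
  obtain ⟨a, ha⟩ : ∃ a : P, a ∉ commutator P := by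
    by_contra hno
    push Not at hno
    have h1 : commutator P = ⊤ := eq_top_iff.2 (fun x _ => hno x)
    rw [h1, Subgroup.index_top] at h4
    norm_num at h4
  have ha1 : (QuotientGroup.mk a : P ⧸ commutator P) ≠ 1 :=
    fun h => ha ((QuotientGroup.eq_one_iff a).1 h)
  obtain ⟨hb1, hba, hfb, hcov⟩ := hV4 _ ha1
  rw [hf] at hb1 hba hfb hcov
  rw [hf] at hfb
  obtain ⟨b, hb⟩ : ∃ b : P, b = β a := ⟨_, rfl⟩
  rw [← hb] at hb1 hba hfb hcov
  have hfb' : (a * b)⁻¹ * β b ∈ commutator P := by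
    apply QuotientGroup.eq.1
    rw [QuotientGroup.mk_mul]; exact hfb.symm
  have hcovP : ∀ g : P, g ∈ commutator P ∨ a⁻¹ * g ∈ commutator P ∨
      b⁻¹ * g ∈ commutator P ∨ (a * b)⁻¹ * g ∈ commutator P := by
    intro g
    rcases hcov (QuotientGroup.mk g) with h | h | h | h
    · exact Or.inl ((QuotientGroup.eq_one_iff g).1 h)
    · exact Or.inr (Or.inl (QuotientGroup.eq.1 h.symm))
    · exact Or.inr (Or.inr (Or.inl (QuotientGroup.eq.1 h.symm)))
    · refine Or.inr (Or.inr (Or.inr (QuotientGroup.eq.1 ?_)))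
      rw [QuotientGroup.mk_mul]; exact h.symm
  have hgen : Subgroup.closure ({a, b} : Set P) = ⊤ := by
    apply frattini_nongenerating
    rw [eq_top_iff]
    intro g _
    have haC : a ∈ Subgroup.closure ({a, b} : Set P) := Subgroup.subset_closure (by simp)
    have hbC : b ∈ Subgroup.closure ({a, b} : Set P) := Subgroup.subset_closure (by simp)
    rcases hcovP g with h | h | h | h
    · exact Subgroup.mem_sup_right (hDfr h)
    · have e : g = a * (a⁻¹ * g) := by group
      rw [e]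
      exact Subgroup.mul_mem _ (Subgroup.mem_sup_left haC) (Subgroup.mem_sup_right (hDfr h))
    · have e : g = b * (b⁻¹ * g) := by group
      rw [e]
      exact Subgroup.mul_mem _ (Subgroup.mem_sup_left hbC) (Subgroup.mem_sup_right (hDfr h))
    · have e : g = (a * b) * ((a * b)⁻¹ * g) := by group
      rw [e]
      exact Subgroup.mul_mem _ (Subgroup.mem_sup_left (Subgroup.mul_mem _ haC hbC))
        (Subgroup.mem_sup_right (hDfr h))
  have ha2 : a ^ 2 ∈ commutator P :=
    (QuotientGroup.eq_one_iff (a ^ 2)).1 (by rw [QuotientGroup.mk_pow]; exact hVexp _)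
  have hb2 : b ^ 2 ∈ commutator P :=
    (QuotientGroup.eq_one_iff (b ^ 2)).1 (by rw [QuotientGroup.mk_pow]; exact hVexp _)
  -- third term of the lower central series
  obtain ⟨Γ₃, hΓ₃⟩ : ∃ Γ₃ : Subgroup P, Γ₃ = ⁅commutator P, (⊤ : Subgroup P)⁆ := ⟨_, rfl⟩
  have hΓ₃n : Γ₃.Normal := by rw [hΓ₃]; infer_instance
  have hΓ₃c : Γ₃.Characteristic := by rw [hΓ₃]; infer_instance
  have hD3 : ∀ z ∈ commutator P, ∀ g : P, ⁅z, g⁆ ∈ Γ₃ := by
    intro z hz g
    rw [hΓ₃]; exact Subgroup.commutator_mem_commutator hz (Subgroup.mem_top g)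
  obtain ⟨c, hc⟩ : ∃ c : P, c = ⁅a, b⁆ := ⟨_, rfl⟩
  have hcD : c ∈ commutator P := by
    rw [hc, commutator_def]
    exact Subgroup.commutator_mem_commutator (Subgroup.mem_top a) (Subgroup.mem_top b)
  have hc2 : c ^ 2 ∈ Γ₃ := by
    have e : c ^ 2 = ⁅a, c⁆⁻¹ * ⁅a ^ 2, b⁆ := by
      rw [hc]; simp only [commutatorElement_def, pow_two]; group
    rw [e]
    refine Γ₃.mul_mem (Γ₃.inv_mem ?_) (hD3 _ ha2 b)
    rw [← commutatorElement_inv]
    exact Γ₃.inv_mem (hD3 c hcD a)
  have hπ1 : ∀ x : P, QuotientGroup.mk' Γ₃ x = 1 ↔ x ∈ Γ₃ := fun x => QuotientGroup.eq_one_iff x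
  have hDcent : ∀ z ∈ commutator P, ∀ g : P,
      QuotientGroup.mk' Γ₃ z * QuotientGroup.mk' Γ₃ g =
        QuotientGroup.mk' Γ₃ g * QuotientGroup.mk' Γ₃ z := by
    intro z hz g
    rw [← commutatorElement_eq_one_iff_mul_comm, ← map_commutatorElement, hπ1]
    exact hD3 z hz g
  have hcbar2 : QuotientGroup.mk' Γ₃ c ^ 2 = 1 := by
    rw [← map_pow, hπ1]; exact hc2
  have hF1 : ∀ z ∈ commutator P,
      QuotientGroup.mk' Γ₃ z = 1 ∨ QuotientGroup.mk' Γ₃ z = QuotientGroup.mk' Γ₃ c := by
    have hZn : (Subgroup.zpowers (QuotientGroup.mk' Γ₃ c)).Normal := by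
      constructor
      intro n hn g
      obtain ⟨g', rfl⟩ := QuotientGroup.mk'_surjective Γ₃ g
      obtain ⟨k, rfl⟩ := Subgroup.mem_zpowers_iff.1 hn
      have h1 : Commute (QuotientGroup.mk' Γ₃ g') (QuotientGroup.mk' Γ₃ c ^ k) :=
        (show Commute (QuotientGroup.mk' Γ₃ g') (QuotientGroup.mk' Γ₃ c) from
          (hDcent c hcD g').symm).zpow_right k
      rw [h1.eq, mul_assoc, mul_inv_cancel, mul_one]
      exact Subgroup.zpow_mem _ (Subgroup.mem_zpowers _) k
    have hL := h8_comm_mem_of_two_gen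
      ((Subgroup.zpowers (QuotientGroup.mk' Γ₃ c)).comap (QuotientGroup.mk' Γ₃)) a b hgen
      (by rw [Subgroup.mem_comap, ← hc]; exact Subgroup.mem_zpowers _)
    intro z hz
    have hzL : z ∈ (Subgroup.zpowers (QuotientGroup.mk' Γ₃ c)).comap (QuotientGroup.mk' Γ₃) := by
      have hle : commutator P ≤
          (Subgroup.zpowers (QuotientGroup.mk' Γ₃ c)).comap (QuotientGroup.mk' Γ₃) := by
        rw [commutator_def, Subgroup.commutator_le]
        intro g _ h _
        exact hL g h
      exact hle hz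
    rw [Subgroup.mem_comap] at hzL
    obtain ⟨k, hk⟩ := Subgroup.mem_zpowers_iff.1 hzL
    have hc2z : QuotientGroup.mk' Γ₃ c ^ (2 : ℤ) = 1 := by
      rw [zpow_two, ← pow_two]; exact hcbar2
    rcases Int.even_or_odd' k with ⟨j, rfl | rfl⟩
    · left
      rw [← hk, zpow_mul, hc2z, one_zpow]
    · right
      rw [← hk, zpow_add, zpow_mul, hc2z, one_zpow, one_mul, zpow_one]
  have hF1' : ∀ z ∈ commutator P, z ∈ Γ₃ ∨ c⁻¹ * z ∈ Γ₃ := by
    intro z hz
    rcases hF1 z hz with h | h
    · exact Or.inl ((hπ1 z).1 h)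
    · exact Or.inr (QuotientGroup.eq.1 h.symm)
  have hswd : ∀ x : P, ∀ z ∈ commutator P,
      QuotientGroup.mk' Γ₃ (x * z) ^ 2 = QuotientGroup.mk' Γ₃ x ^ 2 := by
    intro x z hz
    have h1 : Commute (QuotientGroup.mk' Γ₃ x) (QuotientGroup.mk' Γ₃ z) := (hDcent z hz x).symm
    have h2 : QuotientGroup.mk' Γ₃ z ^ 2 = 1 := by
      rcases hF1 z hz with h | h
      · rw [h, one_pow]
      · rw [h, hcbar2]
    rw [map_mul, h1.mul_pow, h2, mul_one]
  have hβΓ : ∀ (γ : MulAut P), ∀ u ∈ Γ₃, γ u ∈ Γ₃ := by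
    intro γ u hu
    have h1 := Subgroup.characteristic_iff_map_eq.1 hΓ₃c γ
    rw [← h1]
    exact Subgroup.mem_map_of_mem _ hu
  have hDne : ¬ commutator P ≤ Γ₃ := by
    intro hle
    have h1 : commutator P = ⊥ := by
      apply h8_eq_bot_of_le_commutator_top
      rw [← hΓ₃]; exact hle
    apply hcomm_of
    intro g h
    have h2 : ⁅g, h⁆ ∈ commutator P := by
      rw [commutator_def]
      exact Subgroup.commutator_mem_commutator (Subgroup.mem_top g) (Subgroup.mem_top h)
    rw [h1, Subgroup.mem_bot] at h2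
    exact h2
  have hcΓ : c ∉ Γ₃ := by
    intro hcΓ
    apply hDne
    have hL := h8_comm_mem_of_two_gen Γ₃ a b hgen (by rw [← hc]; exact hcΓ)
    rw [commutator_def, Subgroup.commutator_le]
    intro g _ h _
    exact hL g h
  have ha2Γ : a ^ 2 ∉ Γ₃ := by
    intro h
    have hb2Γ : b ^ 2 ∈ Γ₃ := by
      have e : b ^ 2 = β (a ^ 2) := by rw [map_pow, hb]
      rw [e]; exact hβΓ β _ h
    have hbb2Γ : (β b) ^ 2 ∈ Γ₃ := by
      rw [← map_pow]; exact hβΓ β _ hb2Γ
    have h1 : QuotientGroup.mk' Γ₃ (β b) ^ 2 = QuotientGroup.mk' Γ₃ (a * b) ^ 2 := by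
      have e : β b = (a * b) * ((a * b)⁻¹ * β b) := by group
      rw [e]; exact hswd (a * b) _ hfb'
    have h2 : QuotientGroup.mk' Γ₃ (a * b) ^ 2 = 1 := by
      rw [← h1, ← map_pow, hπ1]; exact hbb2Γ
    have h3 : QuotientGroup.mk' Γ₃ a ^ 2 = 1 := by rw [← map_pow, hπ1]; exact h
    have h4 : QuotientGroup.mk' Γ₃ b ^ 2 = 1 := by rw [← map_pow, hπ1]; exact hb2Γ
    rw [map_mul] at h2
    have h5 := h8_comm_of_sq_one _ _ h3 h4 h2
    rw [← commutatorElement_eq_one_iff_mul_comm, ← map_commutatorElement, ← hc, hπ1] at h5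
    exact hcΓ h5
  have hb2Γ : b ^ 2 ∉ Γ₃ := by
    intro h
    apply ha2Γ
    have e : a ^ 2 = β⁻¹ (b ^ 2) := by rw [map_pow, hb, MulAut.inv_apply_self]
    rw [e]; exact hβΓ β⁻¹ _ h
  have hwa : c⁻¹ * a ^ 2 ∈ Γ₃ := (hF1' _ ha2).resolve_left ha2Γ
  have hwb : c⁻¹ * b ^ 2 ∈ Γ₃ := (hF1' _ hb2).resolve_left hb2Γ
  -- fourth term
  obtain ⟨Γ₄, hΓ₄⟩ : ∃ Γ₄ : Subgroup P, Γ₄ = ⁅Γ₃, (⊤ : Subgroup P)⁆ := ⟨_, rfl⟩
  have hΓ₄n : Γ₄.Normal := by rw [hΓ₄]; infer_instance
  have h34 : ∀ w ∈ Γ₃, ∀ g : P, QuotientGroup.mk' Γ₄ w * QuotientGroup.mk' Γ₄ g =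
      QuotientGroup.mk' Γ₄ g * QuotientGroup.mk' Γ₄ w := by
    intro w hw g
    rw [← commutatorElement_eq_one_iff_mul_comm, ← map_commutatorElement]
    apply (QuotientGroup.eq_one_iff _).2
    rw [hΓ₄]; exact Subgroup.commutator_mem_commutator hw (Subgroup.mem_top g)
  have hccomm : ∀ x : P, c⁻¹ * x ^ 2 ∈ Γ₃ →
      Commute (QuotientGroup.mk' Γ₄ x) (QuotientGroup.mk' Γ₄ c) := by
    intro x hx
    have e : QuotientGroup.mk' Γ₄ c =
        QuotientGroup.mk' Γ₄ x ^ 2 * (QuotientGroup.mk' Γ₄ (c⁻¹ * x ^ 2))⁻¹ := by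
      rw [← map_pow, ← map_inv, ← map_mul]
      congr 1
      group
    rw [e]
    exact ((Commute.refl _).pow_right 2).mul_right
      (Commute.inv_right (show Commute (QuotientGroup.mk' Γ₄ x)
        (QuotientGroup.mk' Γ₄ (c⁻¹ * x ^ 2)) from (h34 _ hx x).symm))
  have hc4 : ∀ g : P, QuotientGroup.mk' Γ₄ g * QuotientGroup.mk' Γ₄ c =
      QuotientGroup.mk' Γ₄ c * QuotientGroup.mk' Γ₄ g := by
    intro g
    have hle : Subgroup.closure ({a, b} : Set P) ≤
        (Subgroup.centralizer {QuotientGroup.mk' Γ₄ c}).comap (QuotientGroup.mk' Γ₄) := by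
      rw [Subgroup.closure_le]
      intro y hy
      rcases hy with hy | hy
      · show QuotientGroup.mk' Γ₄ y ∈ Subgroup.centralizer {QuotientGroup.mk' Γ₄ c}
        rw [Subgroup.mem_centralizer_iff]
        intro h hh
        rw [Set.mem_singleton_iff.1 hh, hy]; exact ((hccomm a hwa).eq).symm
      · show QuotientGroup.mk' Γ₄ y ∈ Subgroup.centralizer {QuotientGroup.mk' Γ₄ c}
        rw [Subgroup.mem_centralizer_iff]
        intro h hh
        rw [Set.mem_singleton_iff.1 hh, Set.mem_singleton_iff.1 hy]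
        exact ((hccomm b hwb).eq).symm
    have hg : g ∈ Subgroup.closure ({a, b} : Set P) := by rw [hgen]; trivial
    have h1 := hle hg
    rw [Subgroup.mem_comap, Subgroup.mem_centralizer_iff] at h1
    exact (h1 _ rfl).symm
  have hΓ₃bot : Γ₃ = ⊥ := by
    apply h8_eq_bot_of_le_commutator_top
    rw [← hΓ₄]
    have hle : ⁅commutator P, (⊤ : Subgroup P)⁆ ≤ Γ₄ := by
      rw [Subgroup.commutator_le]
      intro z hz g _
      rcases hF1' z hz with h | h
      · rw [hΓ₄]; exact Subgroup.commutator_mem_commutator h (Subgroup.mem_top g)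
      · have e : QuotientGroup.mk' Γ₄ z =
            QuotientGroup.mk' Γ₄ c * QuotientGroup.mk' Γ₄ (c⁻¹ * z) := by
          rw [← map_mul]; congr 1; group
        have h1 : Commute (QuotientGroup.mk' Γ₄ z) (QuotientGroup.mk' Γ₄ g) := by
          rw [e]; exact Commute.mul_left (hc4 g).symm (h34 _ h g)
        have h2 : QuotientGroup.mk' Γ₄ ⁅z, g⁆ = 1 := by
          rw [map_commutatorElement, commutatorElement_eq_one_iff_mul_comm]; exact h1.eq
        exact (QuotientGroup.eq_one_iff _).1 h2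
    rw [hΓ₃]; exact hle
  -- conclusion
  have hmem : ∀ x : P, x ∈ Γ₃ → x = 1 := fun x hx => by rwa [hΓ₃bot, Subgroup.mem_bot] at hx
  have hc21 : c ^ 2 = 1 := hmem _ hc2
  have hc1 : c ≠ 1 := fun h => hcΓ (by rw [h]; exact Γ₃.one_mem)
  have ha2c : a ^ 2 = c := (inv_mul_eq_one.1 (hmem _ hwa)).symm
  have hb2c : b ^ 2 = c := (inv_mul_eq_one.1 (hmem _ hwb)).symm
  have hDc : ∀ z ∈ commutator P, z = 1 ∨ z = c := by
    intro z hz
    rcases hF1' z hz with h | h
    · exact Or.inl (hmem _ h)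
    · exact Or.inr (inv_mul_eq_one.1 (hmem _ h)).symm
  have hordc : orderOf c = 2 := orderOf_eq_prime hc21 hc1
  have hDz : commutator P = Subgroup.zpowers c := by
    apply le_antisymm
    · intro z hz
      rcases hDc z hz with h | h
      · rw [h]; exact Subgroup.one_mem _
      · rw [h]; exact Subgroup.mem_zpowers _
    · exact Subgroup.zpowers_le.2 hcD
  have hcardD : Nat.card (commutator P) = 2 := by rw [hDz, Nat.card_zpowers, hordc]
  have hcardP : Nat.card P = 8 := by
    rw [← (commutator P).card_mul_index, hcardD, h4]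
  have horda : orderOf a = 2 * 2 := by
    have h1 : ¬ a ^ 2 ^ 1 = 1 := by rw [pow_one, ha2c]; exact hc1
    have h2 : a ^ 2 ^ (1 + 1) = 1 := by
      have e : a ^ 2 ^ (1 + 1) = (a ^ 2) ^ 2 := by rw [← pow_mul]; norm_num
      rw [e, ha2c, hc21]
    exact (orderOf_eq_prime_pow h1 h2).trans (by norm_num)
  have hinv : b * a * b⁻¹ = a⁻¹ := by
    have h1 : b * a * b⁻¹ = c⁻¹ * a := by rw [hc]; simp only [commutatorElement_def]; group
    have h2 : c⁻¹ = c := inv_eq_of_mul_eq_one_left (by rw [← pow_two]; exact hc21)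
    have h3 : a ^ 4 = 1 := by
      have e : a ^ 4 = (a ^ 2) ^ 2 := by rw [← pow_mul]
      rw [e, ha2c, hc21]
    rw [h1, h2, ← ha2c, eq_inv_iff_mul_eq_one]
    have e : a ^ 2 * a * a = a ^ 4 := by group
    rw [e, h3]
  have hbA : b ∉ Subgroup.zpowers a := by
    intro h
    obtain ⟨k, hk⟩ := Subgroup.mem_zpowers_iff.1 h
    apply hc1
    rw [hc, ← hk, commutatorElement_eq_one_iff_mul_comm]
    exact ((Commute.refl a).zpow_right k).eq
  have hidx : (Subgroup.zpowers a).index = 2 := by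
    have h1 := (Subgroup.zpowers a).card_mul_index
    rw [Nat.card_zpowers, horda, hcardP] at h1
    omega
  have hcovA : ∀ g : P, g ∈ Subgroup.zpowers a ∨ b⁻¹ * g ∈ Subgroup.zpowers a := by
    intro g
    by_cases hg : g ∈ Subgroup.zpowers a
    · exact Or.inl hg
    · right
      rw [Subgroup.mul_mem_iff_of_index_two hidx]
      constructor
      · intro h; exact absurd ((Subgroup.inv_mem_iff _).1 h) hbA
      · intro h; exact absurd h hg
  exact Cfsg.Agent.Lib.Helper1.ui_quat_iso 2 a b horda hinv (by rw [hb2c, ha2c]) hbA hcovA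

end Cfsg.Agent.Lib.Helper8
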