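import Mathlib
import Cfsg.Prelude.Def_Transfer
import Cfsg.Agent.Lib.Helper2.Burnside
import Cfsg.Agent.Lib.Helper7.PCore
import Cfsg.Agent.Lib.Helper8.PElem

set_option autoImplicit false

namespace Cfsg.Agent.Lib.Helper8

open Cfsg.Agent.Lib.Helper7

universe u

/-- a commutative group of exponent `p` generated by a finset -/
theorem h8_card_closure_le_pow {B : Type u} [Group B] [Finite B] (hc : ∀ a b : B, a * b = b * a)
    (p : ℕ) (hp : 0 < p) (hB : ∀ b : B, b ^ p = 1) (S : Finset B) :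
    Nat.card (Subgroup.closure (S : Set B)) ≤ p ^ S.card := by
  classical
  have hnorm : ∀ H : Subgroup B, H.Normal := fun H =>
    ⟨fun n hn g => by rw [hc g n, mul_inv_cancel_right]; exact hn⟩
  induction S using Finset.induction_on with
  | empty => simp
  | insert x S hx ih =>
    rw [Finset.coe_insert, Set.insert_eq, Subgroup.closure_union, Finset.card_insert_of_notMem hx,
      pow_succ, mul_comm]
    have := hnorm (Subgroup.closure ({x} : Set B))
    have h1 : Nat.card (Subgroup.closure ({x} : Set B) ⊔ Subgroup.closure (S : Set B) :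
        Subgroup B) ≤
        Nat.card (Subgroup.closure ({x} : Set B)) * Nat.card (Subgroup.closure (S : Set B)) :=
      Nat.le_of_dvd (Nat.mul_pos Nat.card_pos Nat.card_pos) (card_sup_dvd_of_normal _ _)
    have h2 : Nat.card (Subgroup.closure ({x} : Set B)) ≤ p := by
      rw [← Subgroup.zpowers_eq_closure, Nat.card_zpowers]
      exact Nat.le_of_dvd hp (orderOf_dvd_of_pow_eq_one (hB x))
    calc _ ≤ _ := h1
      _ ≤ p * p ^ S.card := Nat.mul_le_mul h2 ih

/-- `|Ω₁(A)| ≤ p ^ rank A` for a finite abelian group -/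
theorem h8_card_pow_eq_one_le {A : Type u} [Group A] [Finite A] (hc : ∀ a b : A, a * b = b * a)
    (p : ℕ) (hp : 0 < p) : Nat.card {a : A // a ^ p = 1} ≤ p ^ Group.rank A := by
  classical
  obtain ⟨S, hS, hcl⟩ := Group.rank_spec (G := A)
  let π : A →* A :=
    { toFun := fun a => a ^ p
      map_one' := one_pow p
      map_mul' := fun a b => (show Commute a b from hc a b).mul_pow p }
  have hn : π.range.Normal := ⟨fun n hn g => by rw [hc g n, mul_inv_cancel_right]; exact hn⟩
  have h1 := π.ker.card_mul_index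
  rw [Subgroup.index_ker] at h1
  have h2 := π.range.card_mul_index
  have h3 : Nat.card π.ker = π.range.index := by
    have : Nat.card π.ker * Nat.card π.range = π.range.index * Nat.card π.range := by
      rw [h1, mul_comm, h2]
    exact Nat.eq_of_mul_eq_mul_right Nat.card_pos this
  have h4 : Nat.card {a : A // a ^ p = 1} = Nat.card π.ker := rfl
  rw [h4, h3, Subgroup.index_eq_card]
  have hcB : ∀ a b : A ⧸ π.range, a * b = b * a := by
    intro a b
    obtain ⟨a, rfl⟩ := QuotientGroup.mk_surjective a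
    obtain ⟨b, rfl⟩ := QuotientGroup.mk_surjective b
    rw [← QuotientGroup.mk_mul, ← QuotientGroup.mk_mul, hc a b]
  have hB : ∀ b : A ⧸ π.range, b ^ p = 1 := by
    intro b
    obtain ⟨a, rfl⟩ := QuotientGroup.mk_surjective b
    rw [← QuotientGroup.mk_pow, QuotientGroup.eq_one_iff]
    exact ⟨a, rfl⟩
  have h5 := h8_card_closure_le_pow hcB p hp hB (S.image (QuotientGroup.mk' π.range))
  have hcl' : Subgroup.closure ((S.image (QuotientGroup.mk' π.range) : Finset (A ⧸ π.range)) :
      Set (A ⧸ π.range)) = ⊤ := by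
    rw [Finset.coe_image, ← MonoidHom.map_closure, hcl, ← MonoidHom.range_eq_map,
      QuotientGroup.range_mk']
  rw [hcl', Subgroup.card_top] at h5
  calc _ ≤ p ^ (S.image (QuotientGroup.mk' π.range)).card := h5
    _ ≤ p ^ S.card := Nat.pow_le_pow_right hp Finset.card_image_le
    _ = _ := by rw [hS]

/-- if `s` (of order coprime to `p`) normalizes the abelian `p`-group `P` and centralizes
`Ω₁(P)`, then it centralizes `P` -/
theorem h8_centralizes_of_omega {G : Type u} [Group G] {p : ℕ}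
    (P : Subgroup G) (hP : IsPGroup p P) (hab : ∀ x ∈ P, ∀ y ∈ P, x * y = y * x) (s : G)
    (hs : ∀ x ∈ P, s * x * s⁻¹ ∈ P) (hcop : (orderOf s).Coprime p)
    (hΩ : ∀ x ∈ P, x ^ p = 1 → s * x * s⁻¹ = x) : ∀ x ∈ P, s * x * s⁻¹ = x := by
  have key : ∀ k : ℕ, ∀ x ∈ P, x ^ (p ^ k) = 1 → s * x * s⁻¹ = x := by
    intro k
    induction k with
    | zero =>
      intro x hx h
      rw [pow_zero, pow_one] at h
      rw [h]; group
    | succ k ih =>
      intro x hx h
      have hxp : s * x ^ p * s⁻¹ = x ^ p :=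
        ih (x ^ p) (P.pow_mem hx p) (by rw [← pow_mul, ← pow_succ']; exact h)
      have hyP : s * x * s⁻¹ * x⁻¹ ∈ P := P.mul_mem (hs x hx) (P.inv_mem hx)
      have hyp : (s * x * s⁻¹ * x⁻¹) ^ p = 1 := by
        have hc : Commute (s * x * s⁻¹) x⁻¹ := hab _ (hs x hx) _ (P.inv_mem hx)
        rw [hc.mul_pow, conj_pow, hxp, inv_pow, mul_inv_cancel]
      have hsy : s * (s * x * s⁻¹ * x⁻¹) * s⁻¹ = s * x * s⁻¹ * x⁻¹ := hΩ _ hyP hyp
      have hj : ∀ j : ℕ, s ^ j * x * (s ^ j)⁻¹ = (s * x * s⁻¹ * x⁻¹) ^ j * x := by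
        intro j
        induction j with
        | zero => simp
        | succ j ihj =>
          have e0 : s ^ (j + 1) * x * (s ^ (j + 1))⁻¹ = s * (s ^ j * x * (s ^ j)⁻¹) * s⁻¹ := by
            rw [pow_succ']; group
          have e1 : s * ((s * x * s⁻¹ * x⁻¹) ^ j * x) * s⁻¹ =
              (s * (s * x * s⁻¹ * x⁻¹) * s⁻¹) ^ j * (s * x * s⁻¹) := by
            rw [conj_pow]; group
          have e2 : s * x * s⁻¹ = (s * x * s⁻¹ * x⁻¹) * x := by group
          rw [e0, ihj, e1, hsy, pow_succ, mul_assoc ((s * x * s⁻¹ * x⁻¹) ^ j), ← e2]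
      have h1 := hj (orderOf s)
      rw [pow_orderOf_eq_one] at h1
      simp only [one_mul, inv_one, mul_one] at h1
      have h2 : (s * x * s⁻¹ * x⁻¹) ^ orderOf s = 1 := by
        have : (s * x * s⁻¹ * x⁻¹) ^ orderOf s * x = 1 * x := by rw [one_mul]; exact h1.symm
        exact mul_right_cancel this
      have h3 : s * x * s⁻¹ * x⁻¹ = 1 := by
        have := pow_gcd_eq_one.2 ⟨h2, hyp⟩
        rw [hcop.gcd_eq_one, pow_one] at this
        exact this
      calc s * x * s⁻¹ = (s * x * s⁻¹ * x⁻¹) * x := by group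
        _ = x := by rw [h3, one_mul]
  intro x hx
  obtain ⟨k, hk⟩ := hP ⟨x, hx⟩
  have hk' : x ^ (p ^ k) = 1 := by
    have := congrArg Subtype.val hk
    simpa using this
  exact key k x hx hk'

/-- Burnside: an abelian Sylow `p`-subgroup of rank `d` in a group of order coprime to
`∏_{i ≤ d} (p ^ i - 1)` has a normal complement -/
theorem h8_npc_of_abelian_sylow {G : Type u} [Group G] [Finite G] (p : ℕ) [Fact p.Prime]
    (P : Sylow p G) (hab : IsMulCommutative (P : Subgroup G))
    (hcop : Nat.Coprime (Nat.card G)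
      (∏ i ∈ Finset.Icc 1 (Group.rank (P : Subgroup G)), (p ^ i - 1))) :
    Cfsg.HasNormalPComplement p G := by
  classical
  have hp : p.Prime := Fact.out
  by_contra hno
  have hNC : ¬ Subgroup.normalizer ((P : Subgroup G) : Set G) ≤
      Subgroup.centralizer ((P : Subgroup G) : Set G) := fun h =>
    hno (Cfsg.Agent.Lib.Helper2.hasNormalPComplement_of_normalizer_le_centralizer P h)
  obtain ⟨q, hq, S, hS⟩ := Cfsg.Agent.Lib.Helper2.exists_sylow_not_le_of_not_le _ _ hNC
  have hq' : q.Prime := hq.out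
  obtain ⟨s, hsS, hsC⟩ : ∃ s : ↥(Subgroup.normalizer ((P : Subgroup G) : Set G)),
      s ∈ (S : Subgroup _) ∧ (s : G) ∉ Subgroup.centralizer ((P : Subgroup G) : Set G) := by
    by_contra hcon
    push Not at hcon
    exact hS (fun s hs => Subgroup.mem_subgroupOf.2 (hcon s hs))
  obtain ⟨j, hj⟩ := S.2 ⟨s, hsS⟩
  have hsj : (s : G) ^ (q ^ j) = 1 := by
    have h1 : s ^ (q ^ j) = 1 := by
      have := congrArg Subtype.val hj
      simpa using this
    have h2 := congrArg Subtype.val h1
    simpa using h2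
  obtain ⟨i, _, hi⟩ := (Nat.dvd_prime_pow hq').1 (orderOf_dvd_of_pow_eq_one hsj)
  have hsN : ∀ x ∈ (P : Subgroup G), (s : G) * x * (s : G)⁻¹ ∈ (P : Subgroup G) := by
    intro x hx
    exact (Subgroup.mem_normalizer_iff.1 s.2 x).1 hx
  have habP : ∀ x ∈ (P : Subgroup G), ∀ y ∈ (P : Subgroup G), x * y = y * x := by
    intro x hx y hy
    have := hab.is_comm.comm ⟨x, hx⟩ ⟨y, hy⟩
    exact congrArg Subtype.val this
  have hqp : q ≠ p := by
    rintro rfl
    apply hsC
    have hpg : IsPGroup q (Subgroup.zpowers (s : G) ⊔ (P : Subgroup G) : Subgroup G) := by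
      apply IsPGroup.to_sup_of_normal_right' (h8_isPGroup_zpowers hi) P.2
      rw [Subgroup.zpowers_le]; exact s.2
    have hle : (P : Subgroup G) ≤ Subgroup.zpowers (s : G) ⊔ (P : Subgroup G) := le_sup_right
    have hmax := P.is_maximal' hpg hle
    have hsP : (s : G) ∈ (P : Subgroup G) := by
      have h := (le_sup_left : Subgroup.zpowers (s : G) ≤
        Subgroup.zpowers (s : G) ⊔ (P : Subgroup G))
      exact (h.trans (le_of_eq hmax)) (Subgroup.mem_zpowers _)
    rw [Subgroup.mem_centralizer_iff]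
    intro x hx
    exact habP x hx _ hsP
  have hscop : (orderOf (s : G)).Coprime p := by
    rw [hi]
    exact Nat.Coprime.pow_left i ((Nat.coprime_primes hq' hp).2 hqp)
  have hi0 : i ≠ 0 := by
    rintro rfl
    rw [pow_zero, orderOf_eq_one_iff] at hi
    apply hsC
    rw [hi]
    exact Subgroup.one_mem _
  have hqG : q ∣ Nat.card G := by
    have h1 : q ∣ orderOf (s : G) := by rw [hi]; exact dvd_pow_self q hi0
    exact h1.trans (orderOf_dvd_natCard _)
  let E : Subgroup G :=
    { carrier := {x | x ∈ (P : Subgroup G) ∧ x ^ p = 1}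
      mul_mem' := by
        rintro a b ⟨ha, ha'⟩ ⟨hb, hb'⟩
        refine ⟨Subgroup.mul_mem _ ha hb, ?_⟩
        have hc : Commute a b := habP a ha b hb
        rw [hc.mul_pow, ha', hb', one_mul]
      one_mem' := ⟨Subgroup.one_mem _, one_pow p⟩
      inv_mem' := by
        rintro a ⟨ha, ha'⟩
        exact ⟨Subgroup.inv_mem _ ha, by rw [inv_pow, ha', inv_one]⟩ }
  have hEmem : ∀ x : G, x ∈ E ↔ (x ∈ (P : Subgroup G) ∧ x ^ p = 1) := fun x => Iff.rfl
  have hEP : E ≤ (P : Subgroup G) := fun x hx => ((hEmem x).1 hx).1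
  have hnotE : ¬ ∀ x ∈ E, (s : G) * x * (s : G)⁻¹ = x := by
    intro h
    apply hsC
    rw [Subgroup.mem_centralizer_iff]
    intro x hx
    have := h8_centralizes_of_omega (P : Subgroup G) P.2 habP (s : G) hsN hscop
      (fun x hx hxp => h x ((hEmem x).2 ⟨hx, hxp⟩)) x hx
    calc x * (s : G) = ((s : G) * x * (s : G)⁻¹) * (s : G) := by rw [this]
      _ = (s : G) * x := by group
  let f : Function.End E := fun x => ⟨(s : G) * x.1 * (s : G)⁻¹,
    (hEmem _).2 ⟨hsN x.1 ((hEmem _).1 x.2).1, by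
      rw [conj_pow, ((hEmem _).1 x.2).2]; group⟩⟩
  have hfk : ∀ k : ℕ, ∀ x : E, (((f ^ k) x : E) : G) = (s : G) ^ k * x.1 * ((s : G) ^ k)⁻¹ := by
    intro k
    induction k with
    | zero =>
      intro x
      rw [pow_zero, pow_zero, one_mul, inv_one, mul_one]
      rfl
    | succ k ih =>
      intro x
      have e0 : (f ^ (k + 1)) x = f ((f ^ k) x) := by rw [pow_succ']; rfl
      rw [e0]
      show (s : G) * (((f ^ k) x : E) : G) * (s : G)⁻¹ = _
      rw [ih, pow_succ']; group
  have hf : f ^ (q ^ j) = 1 := by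
    funext x
    apply Subtype.ext
    rw [hfk, hsj, one_mul, inv_one, mul_one]
    rfl
  have : Fintype E := Fintype.ofFinite E
  have hmod := Equiv.Perm.card_fixedPoints_modEq (f := f) (p := q) (n := j) hf
  have hFcard : Fintype.card (Function.fixedPoints f) =
      Nat.card (E ⊓ Subgroup.centralizer ({(s : G)} : Set G) : Subgroup G) := by
    rw [← Nat.card_eq_fintype_card]
    apply Nat.card_congr
    exact
      { toFun := fun x => ⟨x.1.1, Subgroup.mem_inf.2 ⟨x.1.2, by
          rw [Subgroup.mem_centralizer_singleton_iff]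
          have h1 : (s : G) * x.1.1 * (s : G)⁻¹ = x.1.1 := congrArg Subtype.val x.2
          calc x.1.1 * (s : G) = ((s : G) * x.1.1 * (s : G)⁻¹) * (s : G) := by rw [h1]
            _ = (s : G) * x.1.1 := by group⟩⟩
        invFun := fun x => ⟨⟨x.1, (Subgroup.mem_inf.1 x.2).1⟩, by
          have h1 := (Subgroup.mem_inf.1 x.2).2
          rw [Subgroup.mem_centralizer_singleton_iff] at h1
          apply Subtype.ext
          show (s : G) * x.1 * (s : G)⁻¹ = x.1
          rw [← h1, mul_inv_cancel_right]⟩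
        left_inv := fun x => rfl
        right_inv := fun x => rfl }
  rw [hFcard, ← Nat.card_eq_fintype_card] at hmod
  obtain ⟨e, he⟩ := (IsPGroup.to_le P.2 hEP).exists_card_eq
  obtain ⟨f', hf'⟩ := (IsPGroup.to_le P.2 ((inf_le_left : E ⊓ Subgroup.centralizer
    ({(s : G)} : Set G) ≤ E).trans hEP)).exists_card_eq
  have hlt : f' < e := by
    by_contra hcon
    have hge : Nat.card E ≤ Nat.card (E ⊓ Subgroup.centralizer ({(s : G)} : Set G) :
        Subgroup G) := by
      rw [he, hf']; exact Nat.pow_le_pow_right hp.pos (by omega)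
    have heq := Subgroup.eq_of_le_of_card_ge (inf_le_left : E ⊓ Subgroup.centralizer
      ({(s : G)} : Set G) ≤ E) hge
    apply hnotE
    intro x hx
    rw [← heq] at hx
    have h1 := (Subgroup.mem_inf.1 hx).2
    rw [Subgroup.mem_centralizer_singleton_iff] at h1
    rw [← h1, mul_inv_cancel_right]
  have herank : e ≤ Group.rank (P : Subgroup G) := by
    have h1 := h8_card_pow_eq_one_le (A := (P : Subgroup G))
      (fun a b => hab.is_comm.comm a b) p hp.pos
    have h2 : Nat.card E = Nat.card {a : (P : Subgroup G) // a ^ p = 1} := by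
      apply Nat.card_congr
      exact
        { toFun := fun x => ⟨⟨x.1, ((hEmem _).1 x.2).1⟩, Subtype.ext ((hEmem _).1 x.2).2⟩
          invFun := fun a => ⟨a.1.1, (hEmem _).2 ⟨a.1.2, congrArg Subtype.val a.2⟩⟩
          left_inv := fun x => rfl
          right_inv := fun x => rfl }
    rw [← h2, he] at h1
    exact (Nat.pow_le_pow_iff_right hp.one_lt).1 h1
  rw [he, hf'] at hmod
  have hdvd : q ∣ p ^ e - p ^ f' :=
    (Nat.modEq_iff_dvd' (Nat.pow_le_pow_right hp.pos hlt.le)).1 hmod.symm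
  have hfac : p ^ e - p ^ f' = p ^ f' * (p ^ (e - f') - 1) := by
    rw [Nat.mul_sub, mul_one, ← pow_add]
    congr 2
    omega
  rw [hfac] at hdvd
  have hdvd2 : q ∣ p ^ (e - f') - 1 := by
    rcases (Nat.Prime.dvd_mul hq').1 hdvd with h | h
    · exact absurd ((Nat.prime_dvd_prime_iff_eq hq' hp).1 (hq'.dvd_of_dvd_pow h)) hqp
    · exact h
  have hprod : q ∣ ∏ i ∈ Finset.Icc 1 (Group.rank (P : Subgroup G)), (p ^ i - 1) :=
    hdvd2.trans (Finset.dvd_prod_of_mem (fun i => p ^ i - 1)
      (Finset.mem_Icc.2 ⟨by omega, by omega⟩))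
  have h1 : q ∣ Nat.gcd (Nat.card G)
      (∏ i ∈ Finset.Icc 1 (Group.rank (P : Subgroup G)), (p ^ i - 1)) :=
    Nat.dvd_gcd hqG hprod
  rw [hcop.gcd_eq_one] at h1
  exact hq'.one_lt.ne' (Nat.dvd_one.1 h1)

end Cfsg.Agent.Lib.Helper8
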