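import Mathlib

set_option autoImplicit false

namespace Cfsg.Agent.Lib.Helper8

variable {G : Type*} [Group G]

/-- A `p'`-element `d` normalizing a cyclic `p`-group `⟨y⟩` and centralizing a nontrivial element
of it centralizes `y`. -/
theorem h8_cyclic_coprime_aut {p : ℕ} (hp : p.Prime) {m : ℕ} (hm : m.Coprime p) (d : G)
    (hdm : d ^ m = 1) : ∀ (n : ℕ) (y x : G), orderOf y = p ^ n →
      d * y * d⁻¹ ∈ Subgroup.zpowers y → x ∈ Subgroup.zpowers y → x ≠ 1 → d * x = x * d →
      d * y = y * d := by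
  have hpZ : Prime (p : ℤ) := Nat.prime_iff_prime_int.1 hp
  intro n
  induction n with
  | zero =>
    intro y x hy _ _ _ _
    rw [pow_zero, orderOf_eq_one_iff] at hy
    rw [hy, mul_one, one_mul]
  | succ n ih =>
    intro y x hy hdy hx hx1 hdx
    obtain ⟨j, hj⟩ := Subgroup.mem_zpowers_iff.1 hdy
    obtain ⟨i, hi⟩ := Subgroup.mem_zpowers_iff.1 hx
    have hyZ : ((orderOf y : ℕ) : ℤ) = (p : ℤ) ^ (n + 1) := by rw [hy]; push_cast; rfl
    -- p ∣ j - 1
    have h1 : y ^ (i * (j - 1)) = 1 := by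
      have e1 : d * x * d⁻¹ = x := by rw [hdx]; group
      have e2 : d * x * d⁻¹ = (y ^ j) ^ i := by
        rw [← hi, hj, conj_zpow]
      have e3 : (y ^ j) ^ i = y ^ i := by rw [← e2, e1, hi]
      rw [← zpow_mul] at e3
      have e4 : i * (j - 1) = j * i - i := by ring
      rw [e4, zpow_sub, e3, mul_inv_cancel]
    have h2 : (p : ℤ) ^ (n + 1) ∣ i * (j - 1) := by
      rw [← hyZ]; exact orderOf_dvd_iff_zpow_eq_one.2 h1
    have h3 : ¬ (p : ℤ) ^ (n + 1) ∣ i := by
      intro h
      rw [← hyZ] at h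
      apply hx1
      rw [← hi]
      exact orderOf_dvd_iff_zpow_eq_one.1 h
    have h4 : (p : ℤ) ∣ j - 1 := by
      by_contra hnd
      have hc : IsCoprime ((p : ℤ) ^ (n + 1)) (j - 1) :=
        IsCoprime.pow_left ((Prime.coprime_iff_not_dvd hpZ).2 hnd)
      exact h3 (hc.dvd_of_dvd_mul_right h2)
    obtain ⟨l, hl⟩ := h4
    have hu : y⁻¹ * (d * y * d⁻¹) = (y ^ p) ^ l := by
      rw [← hj, ← zpow_natCast y p, ← zpow_mul, ← hl, zpow_sub, zpow_one]
      group
    have hy' : orderOf (y ^ p) = p ^ n := by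
      rw [orderOf_pow_of_dvd hp.pos.ne' (by rw [hy]; exact dvd_pow_self p (Nat.succ_ne_zero n)), hy,
        pow_succ, Nat.mul_div_cancel _ hp.pos]
    have hdy' : d * y ^ p * d⁻¹ ∈ Subgroup.zpowers (y ^ p) := by
      rw [← conj_pow, ← hj, Subgroup.mem_zpowers_iff]
      refine ⟨j, ?_⟩
      rw [← zpow_natCast, ← zpow_natCast, ← zpow_mul, ← zpow_mul, mul_comm]
    have hdy'c : d * y ^ p = y ^ p * d := by
      rcases Nat.eq_zero_or_pos n with hn0 | hnpos
      · rw [hn0, pow_zero, orderOf_eq_one_iff] at hy'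
        rw [hy', mul_one, one_mul]
      · by_cases hxp : x ^ p = 1
        · have e1 : y ^ (i * (p : ℤ)) = 1 := by
            rw [zpow_mul, hi, zpow_natCast, hxp]
          have e2 : (p : ℤ) ^ (n + 1) ∣ i * (p : ℤ) := by
            rw [← hyZ]; exact orderOf_dvd_iff_zpow_eq_one.2 e1
          rw [pow_succ] at e2
          have e3 : (p : ℤ) ^ n ∣ i :=
            Int.dvd_of_mul_dvd_mul_right (by exact_mod_cast hp.pos.ne') e2
          have e4 : (p : ℤ) ∣ i := (dvd_pow_self (p : ℤ) hnpos.ne').trans e3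
          obtain ⟨i₁, hi₁⟩ := e4
          have hxy' : x ∈ Subgroup.zpowers (y ^ p) := by
            rw [Subgroup.mem_zpowers_iff]
            refine ⟨i₁, ?_⟩
            rw [← zpow_natCast, ← zpow_mul, ← hi₁, hi]
          exact ih (y ^ p) x hy' hdy' hxy' hx1 hdx
        · have hxy' : x ^ p ∈ Subgroup.zpowers (y ^ p) := by
            rw [Subgroup.mem_zpowers_iff]
            refine ⟨i, ?_⟩
            rw [← hi, ← zpow_natCast, ← zpow_natCast, ← zpow_mul, ← zpow_mul, mul_comm]
          have hc : Commute d (x ^ p) := Commute.pow_right hdx p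
          exact ih (y ^ p) (x ^ p) hy' hdy' hxy' hxp hc
    set u := y⁻¹ * (d * y * d⁻¹) with hudef
    have hdu : Commute d u := by
      rw [hu]
      exact Commute.zpow_right hdy'c l
    have hk : ∀ k : ℕ, d ^ k * y * (d ^ k)⁻¹ = y * u ^ k := by
      intro k
      induction k with
      | zero => simp
      | succ k ihk =>
        have e1 : d ^ (k + 1) * y * (d ^ (k + 1))⁻¹ = d * (d ^ k * y * (d ^ k)⁻¹) * d⁻¹ := by
          rw [pow_succ']; group
        have e2 : d * (y * u ^ k) * d⁻¹ = (d * y * d⁻¹) * (d * u ^ k * d⁻¹) := by group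
        have e3 : d * u ^ k * d⁻¹ = u ^ k := by
          rw [(Commute.pow_right hdu k).eq]; group
        have e4 : d * y * d⁻¹ = y * u := by rw [hudef]; group
        rw [e1, ihk, e2, e3, e4, pow_succ', mul_assoc]
    have hum : u ^ m = 1 := by
      have := hk m
      rw [hdm, one_mul, inv_one, mul_one] at this
      exact (mul_eq_left.1 this.symm)
    have hup : u ^ p ^ n = 1 := by
      rw [hu, ← zpow_natCast, ← zpow_mul, mul_comm, zpow_mul, zpow_natCast, ← hy',
        pow_orderOf_eq_one, one_zpow]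
    have hu1 : u = 1 := by
      rw [← orderOf_eq_one_iff]
      exact Nat.Coprime.eq_one_of_dvd
        (Nat.Coprime.coprime_dvd_left (orderOf_dvd_of_pow_eq_one hum) (hm.pow_right _))
        (orderOf_dvd_of_pow_eq_one hup)
    have e5 : d * y * d⁻¹ = y * u := by rw [hudef]; group
    rw [hu1, mul_one] at e5
    calc d * y = d * y * d⁻¹ * d := by group
      _ = y * d := by rw [e5]

end Cfsg.Agent.Lib.Helper8
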