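import Mathlib

set_option autoImplicit false
set_option linter.style.haveILetI false
set_option linter.unusedSectionVars false
universe u

namespace Cfsg.Agent.Lib.Helper8

open scoped commutatorElement

section
variable {S : Type u} [Group S]

/-- if the commutators of a generating set lie in a normal subgroup, so does the derived
subgroup -/
theorem h8_commutator_le_of_gen (I : Subgroup S) [hI : I.Normal] (K : Set S)
    (hK : Subgroup.closure K = ⊤) (h : ∀ k ∈ K, ∀ k' ∈ K, ⁅k, k'⁆ ∈ I) : commutator S ≤ I := by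
  have h1 : ∀ k ∈ K, ∀ y : S, ⁅k, y⁆ ∈ I := by
    intro k hk y
    have hy : y ∈ Subgroup.closure K := by rw [hK]; trivial
    induction hy using Subgroup.closure_induction with
    | mem y hy => exact h k hk y hy
    | one => simp
    | mul y₁ y₂ _ _ h₁ h₂ =>
      have e : ⁅k, y₁ * y₂⁆ = ⁅k, y₁⁆ * (y₁ * ⁅k, y₂⁆ * y₁⁻¹) := by
        simp only [commutatorElement_def]; group
      rw [e]
      exact mul_mem h₁ (hI.conj_mem _ h₂ _)
    | inv y _ h₁ =>
      have e : ⁅k, y⁻¹⁆ = y⁻¹ * ⁅k, y⁆⁻¹ * y⁻¹⁻¹ := by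
        simp only [commutatorElement_def]; group
      rw [e]
      exact hI.conj_mem _ (inv_mem h₁) _
  have h2 : ∀ x y : S, ⁅x, y⁆ ∈ I := by
    intro x y
    have hx : x ∈ Subgroup.closure K := by rw [hK]; trivial
    induction hx using Subgroup.closure_induction with
    | mem x hx => exact h1 x hx y
    | one => simp
    | mul x₁ x₂ _ _ h₁ h₂ =>
      have e : ⁅x₁ * x₂, y⁆ = (x₁ * ⁅x₂, y⁆ * x₁⁻¹) * ⁅x₁, y⁆ := by
        simp only [commutatorElement_def]; group
      rw [e]
      exact mul_mem (hI.conj_mem _ h₂ _) h₁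
    | inv x _ h₁ =>
      have e : ⁅x⁻¹, y⁆ = x⁻¹ * ⁅x, y⁆⁻¹ * x⁻¹⁻¹ := by
        simp only [commutatorElement_def]; group
      rw [e]
      exact hI.conj_mem _ (inv_mem h₁) _
  rw [commutator_def, Subgroup.commutator_le]
  intro x _ y _
  exact h2 x y

/-- a subgroup of prime index is maximal -/
theorem h8_max_of_index_prime {p : ℕ} (hp : p.Prime) {A : Subgroup S} (hAi : A.index = p)
    {K : Subgroup S} (hAK : A ≤ K) (hne : K ≠ A) : K = ⊤ := by
  have h1 := Subgroup.relIndex_mul_index hAK
  rw [hAi] at h1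
  have h2 : K.index ∣ p := Dvd.intro_left _ h1
  rcases (Nat.dvd_prime hp).mp h2 with h3 | h3
  · exact Subgroup.index_eq_one.mp h3
  · exfalso
    rw [h3] at h1
    have h4 : A.relIndex K = 1 := Nat.eq_of_mul_eq_mul_right hp.pos (by rw [h1, one_mul])
    exact hne (le_antisymm (Subgroup.relIndex_eq_one.mp h4) hAK)

theorem h8_sup_zpowers_of_index_prime {p : ℕ} (hp : p.Prime) {A : Subgroup S}
    (hAi : A.index = p) {z : S} (hz : z ∉ A) : A ⊔ Subgroup.zpowers z = ⊤ := by
  apply h8_max_of_index_prime hp hAi le_sup_left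
  intro h
  have h1 : z ∈ A ⊔ Subgroup.zpowers z := Subgroup.mem_sup_right (Subgroup.mem_zpowers z)
  rw [h] at h1
  exact hz h1

/-- an element commuting with a subgroup of prime index and with an element outside it is
central -/
theorem h8_center_of_comm {p : ℕ} (hp : p.Prime) {A : Subgroup S} (hAi : A.index = p) {z : S}
    (hz : z ∉ A) {x : S} (hxA : ∀ a ∈ A, a * x = x * a) (hxz : z * x = x * z) :
    x ∈ Subgroup.center S := by
  have h1 : A ⊔ Subgroup.zpowers z ≤ Subgroup.centralizer {x} := by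
    apply sup_le
    · intro a ha
      exact Subgroup.mem_centralizer_singleton_iff.mpr (hxA a ha)
    · rw [Subgroup.zpowers_le]
      exact Subgroup.mem_centralizer_singleton_iff.mpr hxz
  rw [h8_sup_zpowers_of_index_prime hp hAi hz] at h1
  rw [Subgroup.mem_center_iff]
  intro g
  exact Subgroup.mem_centralizer_singleton_iff.mp (h1 (Subgroup.mem_top g))

/-- for a nonabelian group with an abelian normal subgroup `A` of prime index:
`Z(S) ≤ A` and `|A| = |Z(S)| * |S'|` -/
theorem h8_abidx_card [Finite S] {p : ℕ} (hp : p.Prime) (A : Subgroup S) [hAn : A.Normal]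
    (hAc : ∀ a ∈ A, ∀ b ∈ A, a * b = b * a) (hAi : A.index = p)
    (hna : ∃ x y : S, x * y ≠ y * x) :
    Subgroup.center S ≤ A ∧
      Nat.card A = Nat.card (Subgroup.center S) * Nat.card (commutator S) := by
  have hAtop : A ≠ ⊤ := by
    intro h
    rw [h, Subgroup.index_top] at hAi
    exact hp.ne_one hAi.symm
  obtain ⟨w, hw⟩ : ∃ w : S, w ∉ A := by
    by_contra h
    push Not at h
    exact hAtop (eq_top_iff.mpr fun x _ => h x)
  -- the centre lies in A
  have hZA : Subgroup.center S ≤ A := by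
    intro z hz
    by_contra hzA
    obtain ⟨x, y, hxy⟩ := hna
    have hall : ∀ g : S, g ∈ Subgroup.center S := by
      intro g
      have hg : g ∈ A ⊔ Subgroup.zpowers z := by
        rw [h8_sup_zpowers_of_index_prime hp hAi hzA]; trivial
      have hle : A ⊔ Subgroup.zpowers z ≤ Subgroup.center S := by
        apply sup_le
        · intro a ha
          apply h8_center_of_comm hp hAi hzA
          · intro b hb; exact hAc b hb a ha
          · exact (Subgroup.mem_center_iff.mp hz a).symm
        · rw [Subgroup.zpowers_le]; exact hz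
      exact hle hg
    exact hxy ((Subgroup.mem_center_iff.mp (hall y) x))
  -- the commutator map
  have hfm : ∀ a : A, (a : S) * w * (a : S)⁻¹ * w⁻¹ ∈ A := by
    intro a
    have e : (a : S) * w * (a : S)⁻¹ * w⁻¹ = (a : S) * (w * (a : S)⁻¹ * w⁻¹) := by group
    rw [e]
    exact mul_mem a.2 (hAn.conj_mem _ (inv_mem a.2) w)
  let φ : A →* A := MonoidHom.mk' (fun a => ⟨(a : S) * w * (a : S)⁻¹ * w⁻¹, hfm a⟩) (by
    intro a b
    apply Subtype.ext
    have hA' : w * (a : S)⁻¹ * w⁻¹ ∈ A := hAn.conj_mem _ (inv_mem a.2) w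
    have hB' : (b : S) * (w * (b : S)⁻¹ * w⁻¹) ∈ A :=
      mul_mem b.2 (hAn.conj_mem _ (inv_mem b.2) w)
    have hc := hAc _ hB' _ hA'
    show ((a : S) * (b : S)) * w * ((a : S) * (b : S))⁻¹ * w⁻¹ =
      ((a : S) * w * (a : S)⁻¹ * w⁻¹) * ((b : S) * w * (b : S)⁻¹ * w⁻¹)
    calc ((a : S) * (b : S)) * w * ((a : S) * (b : S))⁻¹ * w⁻¹
        = (a : S) * (((b : S) * (w * (b : S)⁻¹ * w⁻¹)) * (w * (a : S)⁻¹ * w⁻¹)) := by group
      _ = (a : S) * ((w * (a : S)⁻¹ * w⁻¹) * ((b : S) * (w * (b : S)⁻¹ * w⁻¹))) := by rw [hc]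
      _ = ((a : S) * w * (a : S)⁻¹ * w⁻¹) * ((b : S) * w * (b : S)⁻¹ * w⁻¹) := by group)
  have hφ : ∀ a : A, ((φ a : A) : S) = (a : S) * w * (a : S)⁻¹ * w⁻¹ := fun a => rfl
  -- kernel
  have hker : φ.ker = (Subgroup.center S).subgroupOf A := by
    ext a
    rw [MonoidHom.mem_ker, Subgroup.mem_subgroupOf]
    constructor
    · intro h
      have h1 : (a : S) * w * (a : S)⁻¹ * w⁻¹ = 1 := by
        rw [← hφ a, h]; rfl
      have h2 : w * (a : S) = (a : S) * w := by
        calc w * (a : S) = ((a : S) * w * (a : S)⁻¹ * w⁻¹)⁻¹ * ((a : S) * w) := by group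
          _ = (a : S) * w := by rw [h1, inv_one, one_mul]
      exact h8_center_of_comm hp hAi hw (fun b hb => hAc b hb a a.2) h2
    · intro h
      apply Subtype.ext
      rw [hφ a]
      have h2 := Subgroup.mem_center_iff.mp h w
      show (a : S) * w * (a : S)⁻¹ * w⁻¹ = 1
      calc (a : S) * w * (a : S)⁻¹ * w⁻¹ = (w * (a : S)) * (a : S)⁻¹ * w⁻¹ := by rw [h2]
        _ = 1 := by group
  -- image
  have hI : ∀ x : S, x ∈ φ.range.map A.subtype ↔ ∃ a ∈ A, a * w * a⁻¹ * w⁻¹ = x := by
    intro x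
    constructor
    · rintro ⟨y, ⟨a, rfl⟩, rfl⟩
      exact ⟨a, a.2, rfl⟩
    · rintro ⟨a, ha, rfl⟩
      exact ⟨φ ⟨a, ha⟩, ⟨⟨a, ha⟩, rfl⟩, rfl⟩
  have hIA : φ.range.map A.subtype ≤ A := by
    rintro x ⟨y, -, rfl⟩
    exact y.2
  have hInorm : (φ.range.map A.subtype).Normal := by
    rw [← Subgroup.normalizer_eq_top_iff, ← top_le_iff, ← h8_sup_zpowers_of_index_prime hp hAi hw]
    apply sup_le
    · intro b hb
      rw [Subgroup.mem_normalizer_iff]
      intro x
      constructor
      · intro hx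
        have e : b * x * b⁻¹ = x := by
          rw [hAc b hb x (hIA hx)]; group
        rw [e]; exact hx
      · intro hx
        have hx' : x ∈ A := by
          have := hAn.conj_mem _ (hIA hx) b⁻¹
          simpa [mul_assoc] using this
        have e : b * x * b⁻¹ = x := by
          rw [hAc b hb x hx']; group
        rw [e] at hx; exact hx
    · rw [Subgroup.zpowers_le, Subgroup.mem_normalizer_iff]
      intro x
      constructor
      · intro hx
        obtain ⟨a, ha, rfl⟩ := (hI x).mp hx
        rw [hI]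
        refine ⟨w * a * w⁻¹, hAn.conj_mem _ ha w, by group⟩
      · intro hx
        obtain ⟨a, ha, hax⟩ := (hI _).mp hx
        rw [hI]
        refine ⟨w⁻¹ * a * w, by simpa using hAn.conj_mem _ ha w⁻¹, ?_⟩
        calc w⁻¹ * a * w * w * (w⁻¹ * a * w)⁻¹ * w⁻¹
            = w⁻¹ * (a * w * a⁻¹ * w⁻¹) * w := by group
          _ = w⁻¹ * (w * x * w⁻¹) * w := by rw [hax]
          _ = x := by group
  have hclosure : Subgroup.closure ((A : Set S) ∪ {w}) = ⊤ := by
    rw [Subgroup.closure_union, Subgroup.closure_eq, ← Subgroup.zpowers_eq_closure,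
      h8_sup_zpowers_of_index_prime hp hAi hw]
  have hle : commutator S ≤ φ.range.map A.subtype := by
    haveI := hInorm
    apply h8_commutator_le_of_gen _ _ hclosure
    rintro k (hk | hk) k' (hk' | hk')
    · have e : ⁅k, k'⁆ = 1 := by
        rw [commutatorElement_def, hAc k hk k' hk']; group
      rw [e]; exact one_mem _
    · rw [Set.mem_singleton_iff] at hk'
      subst hk'
      rw [hI]
      exact ⟨k, hk, by rw [commutatorElement_def]⟩
    · rw [Set.mem_singleton_iff] at hk
      subst hk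
      have e : ⁅k, k'⁆ = (k' * k * k'⁻¹ * k⁻¹)⁻¹ := by
        rw [commutatorElement_def]; group
      rw [e]
      apply inv_mem
      rw [hI]
      exact ⟨k', hk', rfl⟩
    · rw [Set.mem_singleton_iff] at hk hk'
      subst hk; subst hk'
      rw [commutatorElement_self]; exact one_mem _
  have hge : φ.range.map A.subtype ≤ commutator S := by
    intro x hx
    obtain ⟨a, -, rfl⟩ := (hI x).mp hx
    rw [commutator_def, ← commutatorElement_def]
    exact Subgroup.commutator_mem_commutator (Subgroup.mem_top a) (Subgroup.mem_top w)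
  have hIeq : φ.range.map A.subtype = commutator S := le_antisymm hge hle
  refine ⟨hZA, ?_⟩
  have h1 : Nat.card φ.ker * φ.ker.index = Nat.card A := Subgroup.card_mul_index _
  rw [Subgroup.index_ker, hker] at h1
  have h2 : Nat.card ((Subgroup.center S).subgroupOf A) = Nat.card (Subgroup.center S) :=
    Nat.card_congr (Subgroup.subgroupOfEquivOfLe hZA).toEquiv
  have h3 : Nat.card φ.range = Nat.card (commutator S) := by
    rw [← hIeq]
    exact (Subgroup.card_map_of_injective A.subtype_injective).symm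
  rw [h2, h3] at h1
  exact h1.symm

end

end Cfsg.Agent.Lib.Helper8
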