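import Mathlib
import Cfsg.Prelude.Def_Transfer
import Cfsg.Agent.Lib.Helper8.AbIdx
import Cfsg.Agent.Lib.Helper8.PGroupNormal

set_option autoImplicit false
set_option linter.style.haveILetI false
set_option linter.unusedSectionVars false
universe u

namespace Cfsg.Agent.Lib.Helper8

open scoped commutatorElement

section
variable {S : Type u} [Group S] [Finite S]

/-- a subgroup containing the centre with cyclic quotient over it is abelian -/
theorem h8_comm_of_relIndex_prime {p : ℕ} (hp : p.Prime) (B : Subgroup S)
    (_hZB : Subgroup.center S ≤ B) (hrel : (Subgroup.center S).relIndex B = p) :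
    ∀ a ∈ B, ∀ b ∈ B, a * b = b * a := by
  let f : B →* S ⧸ Subgroup.center S := (QuotientGroup.mk' (Subgroup.center S)).comp B.subtype
  have hker : f.ker = (Subgroup.center S).subgroupOf B := by
    ext x
    rw [MonoidHom.mem_ker, Subgroup.mem_subgroupOf]
    show (QuotientGroup.mk (x : S) : S ⧸ Subgroup.center S) = 1 ↔ _
    rw [QuotientGroup.eq_one_iff]
  have hcard : Nat.card f.range = p := by
    rw [← Subgroup.index_ker, hker]; exact hrel
  haveI : Fact p.Prime := ⟨hp⟩
  haveI : IsCyclic f.range := isCyclic_of_prime_card (p := p) hcard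
  have hle : f.rangeRestrict.ker ≤ Subgroup.center B := by
    rw [MonoidHom.ker_rangeRestrict, hker]
    intro z hz
    rw [Subgroup.mem_subgroupOf] at hz
    rw [Subgroup.mem_center_iff]
    intro g
    apply Subtype.ext
    exact Subgroup.mem_center_iff.mp hz g
  intro a ha b hb
  have h := (MonoidHom.isMulCommutative_of_isCyclic_of_ker_le_center f.rangeRestrict
    hle).is_comm.comm (⟨a, ha⟩ : B) ⟨b, hb⟩
  exact congrArg Subtype.val h

theorem h8_s3807 (p : ℕ) [Fact p.Prime] (hS : IsPGroup p S) (hna : ¬ IsMulCommutative S)
    (A : Subgroup S) (hA : IsMulCommutative ↥A) (hAi : A.index = p) :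
    (Subgroup.center S).index = p * Nat.card (commutator S) ∧
      ((Nat.card (commutator S) = p ∧
          Cfsg.IsElementaryAbelian p (⊤ : Subgroup (S ⧸ Subgroup.center S)) ∧
          Nat.card (S ⧸ Subgroup.center S) = p ^ 2 ∧
          Nat.card {B : Subgroup S // IsMulCommutative ↥B ∧ B.index = p} = p + 1) ∨
        (p ^ 2 ≤ Nat.card (commutator S) ∧
          ∀ B : Subgroup S, IsMulCommutative ↥B → B.index = p → B = A)) := by
  classical
  have hp : p.Prime := Fact.out
  have hna' : ∃ x y : S, x * y ≠ y * x := by
    by_contra h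
    push Not at h
    exact hna ⟨⟨fun a b => h a b⟩⟩
  have hfacts : ∀ B : Subgroup S, IsMulCommutative ↥B → B.index = p →
      Subgroup.center S ≤ B ∧
        Nat.card B = Nat.card (Subgroup.center S) * Nat.card (commutator S) := by
    intro B hB hBi
    haveI := h8_normal_of_index_eq_prime hS B hBi
    exact h8_abidx_card hp B
      (fun a ha b hb => congrArg Subtype.val (hB.is_comm.comm ⟨a, ha⟩ ⟨b, hb⟩)) hBi hna'
  obtain ⟨hZA, hcA⟩ := hfacts A hA hAi
  have hZpos : 0 < Nat.card (Subgroup.center S) := Nat.card_pos
  have h1 := Subgroup.card_mul_index A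
  have h2 := Subgroup.card_mul_index (Subgroup.center S)
  rw [hAi, hcA] at h1
  have hidx : (Subgroup.center S).index = p * Nat.card (commutator S) := by
    apply Nat.eq_of_mul_eq_mul_left hZpos
    rw [h2, ← h1]; ring
  refine ⟨hidx, ?_⟩
  -- the order of the derived subgroup
  obtain ⟨k, hk⟩ := IsPGroup.iff_card.mp (hS.to_subgroup (commutator S))
  have hk0 : k ≠ 0 := by
    rintro rfl
    rw [pow_zero] at hk
    have hbot : commutator S = ⊥ := Subgroup.eq_bot_of_card_eq _ hk
    obtain ⟨x, y, hxy⟩ := hna'
    apply hxy
    have hm : ⁅x, y⁆ ∈ commutator S := by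
      rw [commutator_def]
      exact Subgroup.commutator_mem_commutator (Subgroup.mem_top x) (Subgroup.mem_top y)
    rw [hbot, Subgroup.mem_bot, commutatorElement_def] at hm
    calc x * y = (x * y * x⁻¹ * y⁻¹) * (y * x) := by group
      _ = y * x := by rw [hm, one_mul]
  rcases (show k = 1 ∨ 2 ≤ k by omega) with hk1 | hk2
  · left
    rw [hk1, pow_one] at hk
    rw [hk] at hidx hcA
    have hidx2 : (Subgroup.center S).index = p ^ 2 := by rw [hidx]; ring
    have hle := h8_normal_card_prime_le_center hS (commutator S) hk
    have hqcomm : ∀ a b : S ⧸ Subgroup.center S, a * b = b * a := by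
      intro a b
      obtain ⟨x, rfl⟩ := QuotientGroup.mk_surjective a
      obtain ⟨y, rfl⟩ := QuotientGroup.mk_surjective b
      rw [← QuotientGroup.mk_mul, ← QuotientGroup.mk_mul, QuotientGroup.eq]
      apply hle
      have e : (x * y)⁻¹ * (y * x) = ⁅y⁻¹, x⁻¹⁆ := by
        rw [commutatorElement_def]; group
      rw [e, commutator_def]
      exact Subgroup.commutator_mem_commutator (Subgroup.mem_top _) (Subgroup.mem_top _)
    have hqcard : Nat.card (S ⧸ Subgroup.center S) = p ^ 2 := hidx2
    refine ⟨hk, ⟨⟨⟨fun a b => Subtype.ext (hqcomm a.1 b.1)⟩⟩, ?_⟩, hqcard, ?_⟩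
    · intro a _
      by_contra hap
      have hd : orderOf a ∣ p ^ 2 := by rw [← hqcard]; exact orderOf_dvd_natCard a
      obtain ⟨j, hj2, hj⟩ := (Nat.dvd_prime_pow hp).mp hd
      have hj' : j = 2 := by
        by_contra hne
        have hj1 : j ≤ 1 := by omega
        apply hap
        have hd' : orderOf a ∣ p := by
          rw [hj]
          calc p ^ j ∣ p ^ 1 := Nat.pow_dvd_pow p hj1
            _ = p := pow_one p
        exact orderOf_dvd_iff_pow_eq_one.mp hd'
      rw [hj'] at hj
      haveI : IsCyclic (S ⧸ Subgroup.center S) :=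
        isCyclic_of_orderOf_eq_card a (by rw [hj, hqcard])
      exact hna (MonoidHom.isMulCommutative_of_isCyclic_of_ker_le_center
        (QuotientGroup.mk' (Subgroup.center S)) (by rw [QuotientGroup.ker_mk']))
    · -- counting the abelian subgroups of index p
      have hcent : ∀ x : S, x ∉ Subgroup.center S →
          (Subgroup.centralizer ({x} : Set S)).index = p ∧
            ∀ a ∈ Subgroup.centralizer ({x} : Set S),
              ∀ b ∈ Subgroup.centralizer ({x} : Set S), a * b = b * a := by
        intro x hx
        have hxA : x ∈ Subgroup.centralizer ({x} : Set S) :=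
          Subgroup.mem_centralizer_singleton_iff.mpr rfl
        have hZC : Subgroup.center S ≤ Subgroup.centralizer ({x} : Set S) := by
          intro z hz
          rw [Subgroup.mem_centralizer_singleton_iff]
          exact (Subgroup.mem_center_iff.mp hz x).symm
        have h3 := Subgroup.relIndex_mul_index hZC
        rw [hidx2] at h3
        have hd : (Subgroup.centralizer ({x} : Set S)).index ∣ p ^ 2 := Dvd.intro_left _ h3
        obtain ⟨j, hj2, hj⟩ := (Nat.dvd_prime_pow hp).mp hd
        have hj1 : j = 1 := by
          interval_cases j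
          · exfalso
            rw [pow_zero, Subgroup.index_eq_one] at hj
            apply hx
            rw [Subgroup.mem_center_iff]
            intro g
            have hg : g ∈ Subgroup.centralizer ({x} : Set S) := by rw [hj]; trivial
            exact Subgroup.mem_centralizer_singleton_iff.mp hg
          · rfl
          · exfalso
            rw [hj] at h3
            have h4 : (Subgroup.center S).relIndex (Subgroup.centralizer ({x} : Set S)) = 1 :=
              Nat.eq_of_mul_eq_mul_right (pow_pos hp.pos 2) (by rw [h3, one_mul])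
            exact hx (Subgroup.relIndex_eq_one.mp h4 hxA)
        rw [hj1, pow_one] at hj
        refine ⟨hj, ?_⟩
        apply h8_comm_of_relIndex_prime hp _ hZC
        rw [hj] at h3
        exact Nat.eq_of_mul_eq_mul_right hp.pos (by rw [h3]; ring)
      have hmk : ∀ x : {x : S // x ∉ Subgroup.center S},
          IsMulCommutative ↥(Subgroup.centralizer ({x.1} : Set S)) ∧
            (Subgroup.centralizer ({x.1} : Set S)).index = p := by
        intro x
        obtain ⟨h3, h4⟩ := hcent x.1 x.2
        exact ⟨⟨⟨fun a b => Subtype.ext (h4 a.1 a.2 b.1 b.2)⟩⟩, h3⟩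
      haveI : Fintype {B : Subgroup S // IsMulCommutative ↥B ∧ B.index = p} :=
        Fintype.ofFinite _
      have hfib : ∀ B : {B : Subgroup S // IsMulCommutative ↥B ∧ B.index = p},
          Nat.card {x : {x : S // x ∉ Subgroup.center S} //
            (⟨Subgroup.centralizer ({x.1} : Set S), hmk x⟩ :
              {B : Subgroup S // IsMulCommutative ↥B ∧ B.index = p}) = B} =
          Nat.card (Subgroup.center S) * p - Nat.card (Subgroup.center S) := by
        intro B
        obtain ⟨hZB, hcB⟩ := hfacts B.1 B.2.1 B.2.2
        rw [hk] at hcB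
        have hiff : ∀ x : {x : S // x ∉ Subgroup.center S},
            (⟨Subgroup.centralizer ({x.1} : Set S), hmk x⟩ :
              {B : Subgroup S // IsMulCommutative ↥B ∧ B.index = p}) = B ↔ x.1 ∈ B.1 := by
          intro x
          constructor
          · intro h
            rw [← h]
            exact Subgroup.mem_centralizer_singleton_iff.mpr rfl
          · intro h
            apply Subtype.ext
            show Subgroup.centralizer ({x.1} : Set S) = B.1
            have hBle : B.1 ≤ Subgroup.centralizer ({x.1} : Set S) := by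
              intro b hb
              rw [Subgroup.mem_centralizer_singleton_iff]
              exact congrArg Subtype.val (B.2.1.is_comm.comm ⟨b, hb⟩ ⟨x.1, h⟩)
            have h5 := Subgroup.relIndex_mul_index hBle
            rw [(hmk x).2, B.2.2] at h5
            have h6 : B.1.relIndex (Subgroup.centralizer ({x.1} : Set S)) = 1 :=
              Nat.eq_of_mul_eq_mul_right hp.pos (by rw [h5, one_mul])
            exact le_antisymm (Subgroup.relIndex_eq_one.mp h6) hBle
        rw [Nat.card_congr ((Equiv.subtypeEquivRight hiff).trans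
          (Equiv.subtypeSubtypeEquivSubtypeInter (fun x : S => x ∉ Subgroup.center S)
            (fun x : S => x ∈ B.1)))]
        have e : {x : S | x ∉ Subgroup.center S ∧ x ∈ B.1} =
            (B.1 : Set S) \ (Subgroup.center S : Set S) := by
          ext x
          simp only [Set.mem_ofPred_eq, Set.mem_sdiff, SetLike.mem_coe]
          tauto
        have h7 : Nat.card {x : S // x ∉ Subgroup.center S ∧ x ∈ B.1} =
            ({x : S | x ∉ Subgroup.center S ∧ x ∈ B.1}).ncard := Nat.card_coe_set_eq _
        have h8 : ((B.1 : Set S)).ncard = Nat.card B.1 := (Nat.card_coe_set_eq _).symm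
        have h9 : ((Subgroup.center S : Set S)).ncard = Nat.card (Subgroup.center S) :=
          (Nat.card_coe_set_eq _).symm
        rw [h7, e, Set.ncard_sdiff (by exact hZB), h8, h9, hcB]
      have htot : Nat.card {x : S // x ∉ Subgroup.center S} =
          Nat.card (Subgroup.center S) * p ^ 2 - Nat.card (Subgroup.center S) := by
        have e : {x : S | x ∉ Subgroup.center S} =
            (Set.univ : Set S) \ (Subgroup.center S : Set S) := by
          ext x
          simp only [Set.mem_ofPred_eq, Set.mem_sdiff, SetLike.mem_coe, Set.mem_univ, true_and]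
        have h7 : Nat.card {x : S // x ∉ Subgroup.center S} =
            ({x : S | x ∉ Subgroup.center S}).ncard := Nat.card_coe_set_eq _
        have h9 : ((Subgroup.center S : Set S)).ncard = Nat.card (Subgroup.center S) :=
          (Nat.card_coe_set_eq _).symm
        rw [h7, e, Set.ncard_sdiff (Set.subset_univ _), h9, Set.ncard_univ, ← h2, hidx2]
      have hsum : Nat.card {x : S // x ∉ Subgroup.center S} =
          ∑ B : {B : Subgroup S // IsMulCommutative ↥B ∧ B.index = p},
            Nat.card {x : {x : S // x ∉ Subgroup.center S} //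
              (⟨Subgroup.centralizer ({x.1} : Set S), hmk x⟩ :
                {B : Subgroup S // IsMulCommutative ↥B ∧ B.index = p}) = B} := by
        rw [← Nat.card_sigma]
        exact Nat.card_congr (Equiv.sigmaFiberEquiv _).symm
      rw [htot, Finset.sum_congr rfl (fun B _ => hfib B), Finset.sum_const, Finset.card_univ,
        smul_eq_mul, ← Nat.card_eq_fintype_card] at hsum
      obtain ⟨q, rfl⟩ : ∃ q, p = q + 1 := ⟨p - 1, by have := hp.pos; omega⟩
      have hq : 0 < q := by have := hp.one_lt; omega
      generalize Nat.card (Subgroup.center S) = z at hsum hZpos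
      generalize Nat.card {B : Subgroup S // IsMulCommutative ↥B ∧ B.index = q + 1} = n at hsum
      have e1 : z * (q + 1) ^ 2 - z = z * q * (q + 2) := Nat.sub_eq_of_eq_add (by ring)
      have e2 : z * (q + 1) - z = z * q := Nat.sub_eq_of_eq_add (by ring)
      rw [e1, e2] at hsum
      have hzq : 0 < z * q := Nat.mul_pos hZpos hq
      have h10 : n * (z * q) = (q + 2) * (z * q) := by rw [← hsum]; ring
      have := Nat.eq_of_mul_eq_mul_right hzq h10
      omega
  · right
    have hp2 : p ^ 2 ≤ Nat.card (commutator S) := by
      rw [hk]; exact Nat.pow_le_pow_right hp.pos hk2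
    refine ⟨hp2, ?_⟩
    intro B hB hBi
    by_contra hne
    have hnle : ¬ B ≤ A := by
      intro hle
      have h5 := Subgroup.relIndex_mul_index hle
      rw [hAi, hBi] at h5
      have h6 : B.relIndex A = 1 := Nat.eq_of_mul_eq_mul_right hp.pos (by rw [h5, one_mul])
      exact hne (le_antisymm hle (Subgroup.relIndex_eq_one.mp h6))
    obtain ⟨z, hzB, hzA⟩ := Set.not_subset.mp hnle
    have hinf : A ⊓ B ≤ Subgroup.center S := by
      intro x hx
      apply h8_center_of_comm hp hAi hzA
      · intro a ha
        exact congrArg Subtype.val (hA.is_comm.comm ⟨a, ha⟩ ⟨x, hx.1⟩)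
      · exact congrArg Subtype.val (hB.is_comm.comm ⟨z, hzB⟩ ⟨x, hx.2⟩)
    have h5 : (Subgroup.center S).index ∣ (A ⊓ B).index := Subgroup.index_dvd_of_le hinf
    have h6 : (A ⊓ B).index ≤ A.index * B.index := Subgroup.index_inf_le
    rw [hAi, hBi] at h6
    have h7 : (A ⊓ B).index ≠ 0 := Subgroup.index_ne_zero_of_finite
    have h8 := Nat.le_of_dvd (Nat.pos_of_ne_zero h7) h5
    rw [hidx] at h8
    have h9 : p * p ^ 2 ≤ p * Nat.card (commutator S) := Nat.mul_le_mul_left p hp2
    have h10 : p * p < p * p ^ 2 := by
      have := hp.one_lt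
      nlinarith [hp.pos]
    omega

end

end Cfsg.Agent.Lib.Helper8
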