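import Mathlib
import Cfsg.Agent.Lib.Lead.CharBurnside

set_option autoImplicit false
universe u
namespace Cfsg.Agent.Lib.Helper8

theorem h8_relIndex_dvd_index_of_normal' {G : Type u} [Group G] [Finite G] (A N : Subgroup G)
    [N.Normal] : A.relIndex N ∣ A.index := by
  have e1 : (A ⊓ N).relIndex A * A.index = (A ⊓ N).index := Subgroup.relIndex_mul_index inf_le_left
  have e2 : (A ⊓ N).relIndex N * N.index = (A ⊓ N).index :=
    Subgroup.relIndex_mul_index inf_le_right
  rw [Subgroup.inf_relIndex_left] at e1
  rw [Subgroup.inf_relIndex_right] at e2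
  obtain ⟨t, ht⟩ := Subgroup.relIndex_dvd_index_of_normal N A
  have hpos : 0 < N.relIndex A := Nat.pos_of_ne_zero Subgroup.index_ne_zero_of_finite
  have h3 : N.relIndex A * (A.relIndex N * t) = N.relIndex A * A.index := by
    rw [ht] at e2
    calc N.relIndex A * (A.relIndex N * t) = A.relIndex N * (N.relIndex A * t) := by ring
      _ = (A ⊓ N).index := e2
      _ = N.relIndex A * A.index := e1.symm
  exact Dvd.intro t (Nat.eq_of_mul_eq_mul_left hpos h3)

theorem h8_solvable_of_abelian_index_two_pow : ∀ (n : ℕ) (G : Type u) [Group G] [Finite G],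
    Nat.card G = n → ∀ (A : Subgroup G), (∀ x ∈ A, ∀ y ∈ A, x * y = y * x) →
    (∃ k : ℕ, A.index = 2 ^ k) → Group.IsSolvable G := by
  intro n
  induction n using Nat.strong_induction_on with
  | _ n ih =>
  intro G _ _ hn A hA ⟨k, hk⟩
  classical
  by_cases hex : ∃ N : Subgroup G, N.Normal ∧ N ≠ ⊥ ∧ N ≠ ⊤
  · obtain ⟨N, hNn, hNb, hNt⟩ := hex
    have hNlt : Nat.card N < n := by
      rw [← hn]
      by_contra hcon
      exact hNt (Subgroup.eq_top_of_card_eq N
        (le_antisymm (Subgroup.card_le_card_group N) (not_lt.1 hcon)))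
    have hQlt : Nat.card (G ⧸ N) < n := by
      rw [← hn, ← Subgroup.index_eq_card, ← Subgroup.card_mul_index N]
      have h1 : 1 < Nat.card N := by
        by_contra hcon
        have : Nat.card N = 1 := le_antisymm (not_lt.1 hcon) Nat.card_pos
        exact hNb (Subgroup.card_eq_one.1 this)
      have h2 : 0 < N.index := Nat.pos_of_ne_zero Subgroup.index_ne_zero_of_finite
      nlinarith
    have hN_solv : Group.IsSolvable N := by
      apply ih _ hNlt N rfl (A.subgroupOf N)
      · intro x hx y hy
        apply Subtype.ext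
        exact hA _ (Subgroup.mem_subgroupOf.1 hx) _ (Subgroup.mem_subgroupOf.1 hy)
      · have hd : A.relIndex N ∣ 2 ^ k := hk ▸ h8_relIndex_dvd_index_of_normal' A N
        obtain ⟨j, -, hj⟩ := (Nat.dvd_prime_pow Nat.prime_two).1 hd
        exact ⟨j, hj⟩
    have hQ_solv : Group.IsSolvable (G ⧸ N) := by
      apply ih _ hQlt (G ⧸ N) rfl (A.map (QuotientGroup.mk' N))
      · rintro _ ⟨x, hx, rfl⟩ _ ⟨y, hy, rfl⟩
        rw [← map_mul, ← map_mul, hA x hx y hy]
      · have hd : (A.map (QuotientGroup.mk' N)).index ∣ 2 ^ k :=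
          hk ▸ Subgroup.index_map_dvd A (QuotientGroup.mk'_surjective N)
        obtain ⟨j, -, hj⟩ := (Nat.dvd_prime_pow Nat.prime_two).1 hd
        exact ⟨j, hj⟩
    exact Group.isSolvable_of_ker_le_range N.subtype (QuotientGroup.mk' N)
      (by rw [QuotientGroup.ker_mk', Subgroup.range_subtype])
  · by_cases htriv : Subsingleton G
    · infer_instance
    · have hnt : Nontrivial G := not_subsingleton_iff_nontrivial.1 htriv
      have hsimple : IsSimpleGroup G := ⟨fun N hN => by
        by_contra hc
        push Not at hc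
        exact hex ⟨N, hN, hc.1, hc.2⟩⟩
      by_cases hAbot : A = ⊥
      · have : Nat.card G = 2 ^ k := by
          rw [hAbot] at hk
          rw [← Subgroup.card_mul_index (⊥ : Subgroup G), hk]; simp
        exact Cfsg.Agent.Lib.Lead.isSolvable_of_card_prime_pow Nat.prime_two this
      · obtain ⟨a, ha1⟩ := (Subgroup.ne_bot_iff_exists_ne_one).1 hAbot
        have hle : A ≤ Subgroup.centralizer {(a : G)} := by
          intro x hx
          rw [Subgroup.mem_centralizer_singleton_iff]
          exact hA x hx a a.2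
        have hd : (Subgroup.centralizer {(a : G)}).index ∣ 2 ^ k :=
          hk ▸ Subgroup.index_dvd_of_le hle
        obtain ⟨j, -, hj⟩ := (Nat.dvd_prime_pow Nat.prime_two).1 hd
        have : Fintype G := Fintype.ofFinite G
        have hprime := Cfsg.Agent.Lib.Lead.prime_card_of_prime_power_class 2 j Nat.prime_two
          (a : G) (fun h => ha1 (Subtype.ext h)) hj
        exact Cfsg.Agent.Lib.Lead.isSolvable_of_card_prime_pow hprime (pow_one _).symm

end Cfsg.Agent.Lib.Helper8
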