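import Mathlib
import Cfsg.Prelude.Def_OddOrderLocal
import Cfsg.Agent.Lib.Helper7.CoprimeSylow
import Cfsg.Agent.Lib.Helper7.Hall
import Cfsg.Agent.Lib.Helper7.Compl
import Cfsg.Agent.Lib.Helper8.Basic
import Cfsg.Agent.Lib.Helper8.ProdCard

/-! Coprime action on a solvable group and Hall `π`-subgroups. -/

set_option autoImplicit false

namespace Cfsg.Agent.Lib.Helper8

open scoped Pointwise
open scoped commutatorElement
open Cfsg.Agent.Lib.Helper7

universe u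

/-! ### arithmetic of `π`-parts -/

theorem h8_pi_split (π : Set ℕ) : ∀ N : ℕ, 0 < N → ∃ m n : ℕ, N = m * n ∧
    (∀ p : ℕ, p.Prime → p ∣ m → p ∈ π) ∧ (∀ p : ℕ, p.Prime → p ∈ π → ¬ p ∣ n) := by
  intro N
  induction N using Nat.strong_induction_on with
  | _ N ih =>
  intro hN
  by_cases h1 : N = 1
  · exact ⟨1, 1, by rw [h1], fun p hp hd => absurd (Nat.dvd_one.1 hd) hp.one_lt.ne',
      fun p hp _ hd => hp.one_lt.ne' (Nat.dvd_one.1 hd)⟩
  · obtain ⟨q, hq, hqN⟩ : ∃ q : ℕ, q.Prime ∧ q ∣ N := ⟨_, Nat.minFac_prime h1, Nat.minFac_dvd N⟩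
    obtain ⟨N', rfl⟩ := hqN
    have hN'pos : 0 < N' := by
      rcases Nat.eq_zero_or_pos N' with h0 | h0
      · rw [h0, mul_zero] at hN; exact absurd hN (lt_irrefl 0)
      · exact h0
    have hlt : N' < q * N' := by nlinarith [hq.two_le]
    obtain ⟨m, n, hmn, hm, hn⟩ := ih N' hlt hN'pos
    by_cases hqπ : q ∈ π
    · refine ⟨q * m, n, by rw [hmn]; ring, ?_, hn⟩
      intro p hp hd
      rcases (Nat.Prime.dvd_mul hp).1 hd with h | h
      · rw [(Nat.prime_dvd_prime_iff_eq hp hq).1 h]; exact hqπ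
      · exact hm p hp h
    · refine ⟨m, q * n, by rw [hmn]; ring, hm, ?_⟩
      intro p hp hpπ hd
      rcases (Nat.Prime.dvd_mul hp).1 hd with h | h
      · rw [(Nat.prime_dvd_prime_iff_eq hp hq).1 h] at hpπ; exact hqπ hpπ
      · exact hn p hp hpπ h

theorem h8_pi_coprime (π : Set ℕ) {m n : ℕ} (hm : ∀ p : ℕ, p.Prime → p ∣ m → p ∈ π)
    (hn : ∀ p : ℕ, p.Prime → p ∈ π → ¬ p ∣ n) : Nat.Coprime m n := by
  by_contra hc
  obtain ⟨p, hp, hpm, hpn⟩ := Nat.Prime.not_coprime_iff_dvd.1 hc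
  exact hn p hp (hm p hp hpm) hpn

theorem h8_pi_unique (π : Set ℕ) {a b m n : ℕ} (h : a * b = m * n)
    (ha : ∀ p : ℕ, p.Prime → p ∣ a → p ∈ π) (hb : ∀ p : ℕ, p.Prime → p ∈ π → ¬ p ∣ b)
    (hm : ∀ p : ℕ, p.Prime → p ∣ m → p ∈ π) (hn : ∀ p : ℕ, p.Prime → p ∈ π → ¬ p ∣ n) :
    a = m := by
  have h1 : Nat.Coprime a n := h8_pi_coprime π ha hn
  have h2 : Nat.Coprime m b := h8_pi_coprime π hm hb
  have h3 : a ∣ m := h1.dvd_of_dvd_mul_right (by rw [← h]; exact dvd_mul_right a b)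
  have h4 : m ∣ a := h2.dvd_of_dvd_mul_right (by rw [h]; exact dvd_mul_right m n)
  exact Nat.dvd_antisymm h3 h4

theorem h8_isPiHallOf_iff {X : Type u} [Group X] [Finite X] (π : Set ℕ) (G : Subgroup X) {m n : ℕ}
    (hG : Nat.card G = m * n) (hm : ∀ p : ℕ, p.Prime → p ∣ m → p ∈ π)
    (hn : ∀ p : ℕ, p.Prime → p ∈ π → ¬ p ∣ n) (H : Subgroup X) :
    Cfsg.IsPiHallOf π H G ↔ H ≤ G ∧ Nat.card H = m := by
  have hmpos : 0 < m := by
    rcases Nat.eq_zero_or_pos m with h0 | h0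
    · rw [h0, zero_mul] at hG
      exact absurd hG (Nat.card_pos (α := G)).ne'
    · exact h0
  constructor
  · rintro ⟨hle, h1, h2⟩
    refine ⟨hle, ?_⟩
    have h3 := card_mul_relIndex_of_le hle
    exact h8_pi_unique π (h3.trans hG) h1 h2 hm hn
  · rintro ⟨hle, hc⟩
    refine ⟨hle, fun p hp hd => hm p hp (by rw [← hc]; exact hd), ?_⟩
    have h3 := card_mul_relIndex_of_le hle
    rw [hc, hG] at h3
    have h4 : H.relIndex G = n := Nat.eq_of_mul_eq_mul_left hmpos h3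
    intro p hp hpπ
    rw [h4]; exact hn p hp hpπ

/-! ### conjugation action on Hall sets -/

theorem h8_conj_smul_le_of_mem_normalizer {X : Type u} [Group X] {g : X} {H G : Subgroup X}
    (hg : g ∈ Subgroup.normalizer (G : Set X)) (hH : H ≤ G) : MulAut.conj g • H ≤ G := by
  intro x hx
  rw [mem_conj_smul_iff] at hx
  have h1 := (Subgroup.mem_normalizer_iff.1 hg (g⁻¹ * x * g)).1 (hH hx)
  have h2 : g * (g⁻¹ * x * g) * g⁻¹ = x := by group
  rwa [h2] at h1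

theorem h8_le_conj_smul_of_mem_normalizer {X : Type u} [Group X] {g : X} {U H : Subgroup X}
    (hg : g ∈ Subgroup.normalizer (U : Set X)) (hUH : U ≤ H) : U ≤ MulAut.conj g • H := by
  intro u hu
  rw [mem_conj_smul_iff]
  have h1 := (Subgroup.mem_normalizer_iff.1 (Subgroup.inv_mem _ hg) u).1 hu
  rw [inv_inv] at h1
  exact hUH h1

theorem h8_le_normalizer_bot {X : Type u} [Group X] (A : Subgroup X) :
    A ≤ Subgroup.normalizer (((⊥ : Subgroup X)) : Set X) := by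
  rw [Subgroup.le_normalizer_iff]
  intro a _ k hk
  rw [Subgroup.mem_bot] at hk ⊢
  rw [hk]; group

theorem h8_conj_smul_eq_map {X : Type u} [Group X] (c : X) (H : Subgroup X) :
    MulAut.conj c • H = H.map (MulAut.conj c).toMonoidHom := by
  ext x
  rw [mem_conj_smul_iff, h8_mem_map_conj]

/-- subgroups of `G` of order `m` containing `U` -/
def h8_HallSet {X : Type u} [Group X] (G U : Subgroup X) (m : ℕ) : Type u :=
  {H : Subgroup X // H ≤ G ∧ Nat.card H = m ∧ U ≤ H}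

/-- conjugation action of `N(G) ⊓ N(U)` on the subgroups of `G` of order `m` containing `U` -/
def h8_hallAction {X : Type u} [Group X] (G U : Subgroup X) (m : ℕ) :
    MulAction ↥(Subgroup.normalizer (G : Set X) ⊓ Subgroup.normalizer (U : Set X))
      (h8_HallSet G U m) where
  smul g H := ⟨MulAut.conj (g : X) • H.1,
    h8_conj_smul_le_of_mem_normalizer g.2.1 H.2.1,
    (card_conj_smul (g : X) H.1).trans H.2.2.1,
    h8_le_conj_smul_of_mem_normalizer g.2.2 H.2.2.2⟩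
  one_smul H := by
    apply Subtype.ext
    show MulAut.conj ((1 : ↥(Subgroup.normalizer (G : Set X) ⊓ Subgroup.normalizer (U : Set X))) : X)
      • H.1 = H.1
    simp
  mul_smul g h H := by
    apply Subtype.ext
    show MulAut.conj ((g * h : ↥(Subgroup.normalizer (G : Set X) ⊓
      Subgroup.normalizer (U : Set X))) : X) • H.1 = MulAut.conj (g : X) • (MulAut.conj (h : X) • H.1)
    rw [Subgroup.coe_mul, map_mul, mul_smul]

theorem h8_hall_fixed {X : Type u} [Group X] [Finite X] (A K G U : Subgroup X) (m : ℕ)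
    (hAG : A ≤ Subgroup.normalizer (G : Set X)) (hAU : A ≤ Subgroup.normalizer (U : Set X))
    (hAK : A ≤ Subgroup.normalizer (K : Set X))
    (hKG : K ≤ Subgroup.normalizer (G : Set X)) (hKU : K ≤ Subgroup.normalizer (U : Set X))
    (hcop : (Nat.card A).Coprime (Nat.card K))
    (hsolv : Group.IsSolvable A ∨ Group.IsSolvable K)
    (hne : ∃ H : Subgroup X, H ≤ G ∧ Nat.card H = m ∧ U ≤ H)
    (htrans : ∀ H₁ H₂ : Subgroup X, H₁ ≤ G → Nat.card H₁ = m → U ≤ H₁ → H₂ ≤ G →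
        Nat.card H₂ = m → U ≤ H₂ → ∃ k ∈ K, MulAut.conj k • H₁ = H₂) :
    ∃ H : Subgroup X, H ≤ G ∧ Nat.card H = m ∧ U ≤ H ∧
      A ≤ Subgroup.normalizer (H : Set X) := by
  let _ : MulAction ↥(Subgroup.normalizer (G : Set X) ⊓ Subgroup.normalizer (U : Set X))
      (h8_HallSet G U m) := h8_hallAction G U m
  have hne' : Nonempty (h8_HallSet G U m) := by
    obtain ⟨H, h⟩ := hne; exact ⟨⟨H, h⟩⟩
  obtain ⟨x, hx⟩ := glauberman_sub_fixed (X := h8_HallSet G U m) A K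
    (Subgroup.normalizer (G : Set X) ⊓ Subgroup.normalizer (U : Set X)) hAK hcop hsolv
    (le_inf hAG hAU) (le_inf hKG hKU)
    (fun x y => by
      obtain ⟨k, hk, hkxy⟩ := htrans x.1 y.1 x.2.1 x.2.2.1 x.2.2.2 y.2.1 y.2.2.1 y.2.2.2
      exact ⟨k, hk, Subtype.ext hkxy⟩)
  refine ⟨x.1, x.2.1, x.2.2.1, x.2.2.2, fun a ha => ?_⟩
  rw [mem_normalizer_iff_conj_smul]
  exact congrArg Subtype.val (hx a ha)

theorem h8_hall_fixed_conj {X : Type u} [Group X] [Finite X] (A K G U : Subgroup X) (m : ℕ)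
    (hAG : A ≤ Subgroup.normalizer (G : Set X)) (hAU : A ≤ Subgroup.normalizer (U : Set X))
    (hAK : A ≤ Subgroup.normalizer (K : Set X))
    (hKG : K ≤ Subgroup.normalizer (G : Set X)) (hKU : K ≤ Subgroup.normalizer (U : Set X))
    (hcop : (Nat.card A).Coprime (Nat.card K))
    (hsolv : Group.IsSolvable A ∨ Group.IsSolvable K)
    (htrans : ∀ H₁ H₂ : Subgroup X, H₁ ≤ G → Nat.card H₁ = m → U ≤ H₁ → H₂ ≤ G →
        Nat.card H₂ = m → U ≤ H₂ → ∃ k ∈ K, MulAut.conj k • H₁ = H₂)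
    (H₁ H₂ : Subgroup X) (h₁ : H₁ ≤ G ∧ Nat.card H₁ = m ∧ U ≤ H₁)
    (h₂ : H₂ ≤ G ∧ Nat.card H₂ = m ∧ U ≤ H₂)
    (hA₁ : A ≤ Subgroup.normalizer (H₁ : Set X)) (hA₂ : A ≤ Subgroup.normalizer (H₂ : Set X)) :
    ∃ c ∈ K, c ∈ Subgroup.centralizer (A : Set X) ∧ MulAut.conj c • H₁ = H₂ := by
  let _ : MulAction ↥(Subgroup.normalizer (G : Set X) ⊓ Subgroup.normalizer (U : Set X))
      (h8_HallSet G U m) := h8_hallAction G U m
  obtain ⟨c, hc, hcC, hcxy⟩ := glauberman_sub_conj (X := h8_HallSet G U m) A K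
    (Subgroup.normalizer (G : Set X) ⊓ Subgroup.normalizer (U : Set X)) hAK hcop hsolv
    (le_inf hAG hAU) (le_inf hKG hKU)
    (fun x y => by
      obtain ⟨k, hk, hkxy⟩ := htrans x.1 y.1 x.2.1 x.2.2.1 x.2.2.2 y.2.1 y.2.2.1 y.2.2.2
      exact ⟨k, hk, Subtype.ext hkxy⟩)
    ⟨H₁, h₁⟩ ⟨H₂, h₂⟩
    (fun a ha => Subtype.ext (mem_normalizer_iff_conj_smul.1 (hA₁ ha)))
    (fun a ha => Subtype.ext (mem_normalizer_iff_conj_smul.1 (hA₂ ha)))
  exact ⟨c, hc, hcC, congrArg Subtype.val hcxy⟩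

/-! ### existence and conjugacy -/

theorem h8_hall_trans {X : Type u} [Group X] [Finite X] (G : Subgroup X)
    (hsolv : Group.IsSolvable G) {m n : ℕ} (hG : Nat.card G = m * n) (hmn : m.Coprime n)
    (H₁ H₂ : Subgroup X) (h₁ : H₁ ≤ G) (hc₁ : Nat.card H₁ = m) (h₂ : H₂ ≤ G)
    (hc₂ : Nat.card H₂ = m) : ∃ k ∈ G, MulAut.conj k • H₁ = H₂ := by
  obtain ⟨g, hg⟩ := hall_conj (Nat.card G) ↥G le_rfl m n hG hmn (H₁.subgroupOf G)
    (H₂.subgroupOf G) ((card_subgroupOf_of_le h₁).trans hc₁) ((card_subgroupOf_of_le h₂).trans hc₂)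
  exact ⟨(g : X), g.2, conj_of_subgroupOf h₁ h₂ g hg⟩

theorem h8_hall_exists_sub {X : Type u} [Group X] [Finite X] (G : Subgroup X)
    (hsolv : Group.IsSolvable G) {m n : ℕ} (hG : Nat.card G = m * n) (hmn : m.Coprime n) :
    ∃ H : Subgroup X, H ≤ G ∧ Nat.card H = m ∧ (⊥ : Subgroup X) ≤ H := by
  obtain ⟨H, hH⟩ := hall_exists (Nat.card G) ↥G le_rfl m n hG hmn
  exact ⟨H.map G.subtype, Subgroup.map_subtype_le _,
    (Subgroup.card_map_of_injective G.subtype_injective).trans hH, bot_le⟩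

theorem h8_s3745_a {X : Type u} [Group X] [Finite X] (A G : Subgroup X)
    (hAG : A ≤ Subgroup.normalizer (G : Set X)) (hcop : (Nat.card A).Coprime (Nat.card G))
    (hsolv : Group.IsSolvable G) (π : Set ℕ) :
    ∃ H : Subgroup X, Cfsg.IsPiHallOf π H G ∧ A ≤ Subgroup.normalizer (H : Set X) := by
  obtain ⟨m, n, hmn, hm, hn⟩ := h8_pi_split π (Nat.card G) Nat.card_pos
  have hcmn : m.Coprime n := h8_pi_coprime π hm hn
  obtain ⟨H, hHG, hHc, -, hHA⟩ := h8_hall_fixed A G G ⊥ m hAG (h8_le_normalizer_bot A) hAG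
    Subgroup.le_normalizer (h8_le_normalizer_bot G) hcop (Or.inr hsolv)
    (h8_hall_exists_sub G hsolv hmn hcmn)
    (fun H₁ H₂ h₁ hc₁ _ h₂ hc₂ _ => h8_hall_trans G hsolv hmn hcmn H₁ H₂ h₁ hc₁ h₂ hc₂)
  exact ⟨H, (h8_isPiHallOf_iff π G hmn hm hn H).2 ⟨hHG, hHc⟩, hHA⟩

theorem h8_s3745_b {X : Type u} [Group X] [Finite X] (A G : Subgroup X)
    (hAG : A ≤ Subgroup.normalizer (G : Set X)) (hcop : (Nat.card A).Coprime (Nat.card G))
    (hsolv : Group.IsSolvable G) (π : Set ℕ) (H₁ H₂ : Subgroup X)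
    (h₁ : Cfsg.IsPiHallOf π H₁ G) (hA₁ : A ≤ Subgroup.normalizer (H₁ : Set X))
    (h₂ : Cfsg.IsPiHallOf π H₂ G) (hA₂ : A ≤ Subgroup.normalizer (H₂ : Set X)) :
    ∃ c ∈ G ⊓ Subgroup.centralizer (A : Set X), H₂ = H₁.map (MulAut.conj c).toMonoidHom := by
  obtain ⟨m, n, hmn, hm, hn⟩ := h8_pi_split π (Nat.card G) Nat.card_pos
  have hcmn : m.Coprime n := h8_pi_coprime π hm hn
  obtain ⟨h₁G, h₁c⟩ := (h8_isPiHallOf_iff π G hmn hm hn H₁).1 h₁
  obtain ⟨h₂G, h₂c⟩ := (h8_isPiHallOf_iff π G hmn hm hn H₂).1 h₂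
  obtain ⟨c, hcG, hcA, hc⟩ := h8_hall_fixed_conj A G G ⊥ m hAG (h8_le_normalizer_bot A) hAG
    Subgroup.le_normalizer (h8_le_normalizer_bot G) hcop (Or.inr hsolv)
    (fun H₁ H₂ h₁ hc₁ _ h₂ hc₂ _ => h8_hall_trans G hsolv hmn hcmn H₁ H₂ h₁ hc₁ h₂ hc₂)
    H₁ H₂ ⟨h₁G, h₁c, bot_le⟩ ⟨h₂G, h₂c, bot_le⟩ hA₁ hA₂
  exact ⟨c, ⟨hcG, hcA⟩, by rw [← hc, h8_conj_smul_eq_map]⟩

/-! ### domination -/

/-- the inductive domination claim -/
def h8_HallDom (π : Set ℕ) (n : ℕ) : Prop :=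
  ∀ (X : Type u) [Group X] [Finite X] (A G U : Subgroup X), Nat.card G < n →
    A ≤ Subgroup.normalizer (G : Set X) → (Nat.card A).Coprime (Nat.card G) →
    Group.IsSolvable G → U ≤ G → A ≤ Subgroup.normalizer (U : Set X) →
    (∀ p : ℕ, p.Prime → p ∣ Nat.card U → p ∈ π) →
    ∃ H : Subgroup X, Cfsg.IsPiHallOf π H G ∧ A ≤ Subgroup.normalizer (H : Set X) ∧ U ≤ H

theorem h8_hall_quot {X : Type u} [Group X] [Finite X] (π : Set ℕ) (A G U N : Subgroup X)
    (ih : h8_HallDom.{u} π (Nat.card G))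
    (hAG : A ≤ Subgroup.normalizer (G : Set X)) (hcop : (Nat.card A).Coprime (Nat.card G))
    (hsolv : Group.IsSolvable G) (hUG : U ≤ G) (hAU : A ≤ Subgroup.normalizer (U : Set X))
    (hU : ∀ p : ℕ, p.Prime → p ∣ Nat.card U → p ∈ π)
    (hNG : N ≤ G) (hN1 : N ≠ ⊥) (hGN : G ≤ Subgroup.normalizer (N : Set X))
    (hAN : A ≤ Subgroup.normalizer (N : Set X)) :
    ∃ H₁ : Subgroup X, N ≤ H₁ ∧ H₁ ≤ G ∧ U ≤ H₁ ∧ A ≤ Subgroup.normalizer (H₁ : Set X) ∧
      (∀ p : ℕ, p.Prime → p ∈ π → ¬ p ∣ H₁.relIndex G) ∧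
      (∀ p : ℕ, p.Prime → p ∣ N.relIndex H₁ → p ∈ π) := by
  obtain ⟨Γ, hΓ⟩ : ∃ Γ : Subgroup X, Γ = Subgroup.normalizer (N : Set X) := ⟨_, rfl⟩
  have hNΓ : N ≤ Γ := by rw [hΓ]; exact Subgroup.le_normalizer
  have hGΓ : G ≤ Γ := by rw [hΓ]; exact hGN
  have hAΓ : A ≤ Γ := by rw [hΓ]; exact hAN
  have hN'n₀ : (N.subgroupOf Γ).Normal := by rw [hΓ]; exact Subgroup.normal_in_normalizer
  obtain ⟨N', hN'⟩ : ∃ N' : Subgroup ↥Γ, N' = N.subgroupOf Γ := ⟨_, rfl⟩
  have hN'n : N'.Normal := by rw [hN']; exact hN'n₀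
  have hN'mem : ∀ x : ↥Γ, x ∈ N' ↔ (x : X) ∈ N := by
    intro x; rw [hN', Subgroup.mem_subgroupOf]
  have hcN' : Nat.card N' = Nat.card N := by rw [hN']; exact card_subgroupOf_of_le hNΓ
  obtain ⟨bar, hbar⟩ : ∃ bar : Subgroup X → Subgroup (↥Γ ⧸ N'),
      ∀ S, bar S = (S.subgroupOf Γ).map (QuotientGroup.mk' N') := ⟨_, fun _ => rfl⟩
  have hbar_mem : ∀ (S : Subgroup X) (s : ↥Γ), (s : X) ∈ S →
      QuotientGroup.mk' N' s ∈ bar S := by
    intro S s hs
    rw [hbar]; exact Subgroup.mem_map_of_mem _ (Subgroup.mem_subgroupOf.2 hs)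
  have hbar_ex : ∀ (S : Subgroup X), ∀ y ∈ bar S,
      ∃ s : ↥Γ, (s : X) ∈ S ∧ QuotientGroup.mk' N' s = y := by
    intro S y hy
    rw [hbar] at hy
    obtain ⟨s, hs, rfl⟩ := Subgroup.mem_map.1 hy
    exact ⟨s, Subgroup.mem_subgroupOf.1 hs, rfl⟩
  have hbar_card : ∀ S : Subgroup X, Nat.card (bar S) ∣ Nat.card S := by
    intro S
    rw [hbar]
    exact (Subgroup.card_map_dvd _ _).trans
      (Subgroup.card_comap_dvd_of_injective S Γ.subtype Γ.subtype_injective)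
  have hbar_norm : ∀ S T : Subgroup X, S ≤ Subgroup.normalizer (T : Set X) →
      bar S ≤ Subgroup.normalizer ((bar T : Subgroup (↥Γ ⧸ N')) : Set (↥Γ ⧸ N')) := by
    intro S T hST
    rw [Subgroup.le_normalizer_iff]
    intro h hh k hk
    obtain ⟨s, hs, rfl⟩ := hbar_ex S h hh
    obtain ⟨t, ht, rfl⟩ := hbar_ex T k hk
    rw [← map_inv, ← map_mul, ← map_mul]
    apply hbar_mem
    rw [Subgroup.coe_mul, Subgroup.coe_mul, Subgroup.coe_inv]
    exact Subgroup.le_normalizer_iff.1 hST _ hs _ ht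
  have hbar_mono : ∀ S T : Subgroup X, S ≤ T → bar S ≤ bar T := by
    intro S T hST y hy
    obtain ⟨s, hs, rfl⟩ := hbar_ex S y hy
    exact hbar_mem T s (hST hs)
  have hGsolv : Group.IsSolvable ↥(bar G) := by
    rw [hbar]
    have h1 : Group.IsSolvable ↥(G.subgroupOf Γ) :=
      Group.isSolvable_of_isSolvable_injective
        (f := (Subgroup.subgroupOfEquivOfLe hGΓ).toMonoidHom)
        (Subgroup.subgroupOfEquivOfLe hGΓ).injective
    exact Group.isSolvable_of_surjective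
      (MonoidHom.subgroupMap_surjective (QuotientGroup.mk' N') (G.subgroupOf Γ))
  have hcardG : Nat.card N * Nat.card (bar G) = Nat.card G := by
    have h1 := card_map_mk'_of_le N' (G.subgroupOf Γ)
      (fun x hx => Subgroup.mem_subgroupOf.2 (hNG ((hN'mem x).1 hx)))
    rw [hcN', card_subgroupOf_of_le hGΓ] at h1
    rw [hbar]; exact h1
  have hlt : Nat.card (bar G) < Nat.card G := by
    have h1 : 1 < Nat.card N := (Subgroup.one_lt_card_iff_ne_bot _).2 hN1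
    have h2 : 0 < Nat.card (bar G) := Nat.card_pos
    nlinarith
  obtain ⟨H', hH', hA'H', hU'H'⟩ := ih (↥Γ ⧸ N') (bar A) (bar G) (bar U) hlt (hbar_norm A G hAG)
    (Nat.Coprime.coprime_dvd_left (hbar_card A) (Nat.Coprime.coprime_dvd_right (hbar_card G) hcop))
    hGsolv (hbar_mono U G hUG) (hbar_norm A U hAU)
    (fun p hp hd => hU p hp (hd.trans (hbar_card U)))
  obtain ⟨hH'G, hH'π, hH'idx⟩ := hH'
  obtain ⟨H₁, hH₁⟩ : ∃ H₁ : Subgroup X,
      H₁ = (H'.comap (QuotientGroup.mk' N')).map Γ.subtype := ⟨_, rfl⟩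
  have hH₁mem : ∀ x : X, x ∈ H₁ ↔ ∃ hx : x ∈ Γ, QuotientGroup.mk' N' ⟨x, hx⟩ ∈ H' := by
    intro x
    rw [hH₁]
    constructor
    · rintro ⟨y, hy, rfl⟩
      exact ⟨y.2, hy⟩
    · rintro ⟨hx, h⟩
      exact ⟨⟨x, hx⟩, h, rfl⟩
  have hNH₁ : N ≤ H₁ := by
    intro x hx
    rw [hH₁mem]
    refine ⟨hNΓ hx, ?_⟩
    have h1 : QuotientGroup.mk' N' ⟨x, hNΓ hx⟩ = 1 :=
      (QuotientGroup.eq_one_iff _).2 ((hN'mem _).2 hx)
    rw [h1]; exact H'.one_mem
  have hH₁G : H₁ ≤ G := by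
    intro x hx
    obtain ⟨hxΓ, hx'⟩ := (hH₁mem x).1 hx
    obtain ⟨g, hg, hgx⟩ := hbar_ex G _ (hH'G hx')
    have h1 : g⁻¹ * ⟨x, hxΓ⟩ ∈ N' := QuotientGroup.eq.1 hgx
    rw [hN'mem, Subgroup.coe_mul, Subgroup.coe_inv] at h1
    have h2 : x = (g : X) * ((g : X)⁻¹ * x) := by group
    rw [h2]
    exact G.mul_mem hg (hNG h1)
  have hUH₁ : U ≤ H₁ := by
    intro x hx
    rw [hH₁mem]
    exact ⟨hGΓ (hUG hx), hU'H' (hbar_mem U ⟨x, hGΓ (hUG hx)⟩ hx)⟩
  have hAH₁ : A ≤ Subgroup.normalizer (H₁ : Set X) := by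
    rw [Subgroup.le_normalizer_iff]
    intro a ha x hx
    obtain ⟨hxΓ, hx'⟩ := (hH₁mem x).1 hx
    rw [hH₁mem]
    refine ⟨Γ.mul_mem (Γ.mul_mem (hAΓ ha) hxΓ) (Γ.inv_mem (hAΓ ha)), ?_⟩
    have h1 : QuotientGroup.mk' N' ⟨a, hAΓ ha⟩ ∈ bar A := hbar_mem A ⟨a, hAΓ ha⟩ ha
    have h2 := Subgroup.le_normalizer_iff.1 hA'H' _ h1 _ hx'
    rw [← map_inv, ← map_mul, ← map_mul] at h2
    exact h2
  have hrel : H₁.relIndex G = H'.relIndex (bar G) := by
    calc H₁.relIndex G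
        = ((H'.comap (QuotientGroup.mk' N')).map Γ.subtype).relIndex
            ((G.subgroupOf Γ).map Γ.subtype) := by
          rw [Subgroup.map_subgroupOf_eq_of_le hGΓ, hH₁]
      _ = (H'.comap (QuotientGroup.mk' N')).relIndex (G.subgroupOf Γ) :=
          Subgroup.relIndex_map_map_of_injective _ _ Γ.subtype_injective
      _ = H'.relIndex ((G.subgroupOf Γ).map (QuotientGroup.mk' N')) := by
          rw [Subgroup.relIndex_comap]
      _ = H'.relIndex (bar G) := by rw [hbar]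
  have hcardH₁ : Nat.card H₁ = Nat.card N * Nat.card H' := by
    rw [hH₁, Subgroup.card_map_of_injective Γ.subtype_injective, card_comap_mk', hcN']
  have hrelN : N.relIndex H₁ = Nat.card H' := by
    have h1 := card_mul_relIndex_of_le hNH₁
    rw [hcardH₁] at h1
    exact Nat.eq_of_mul_eq_mul_left Nat.card_pos h1
  refine ⟨H₁, hNH₁, hH₁G, hUH₁, hAH₁, ?_, ?_⟩
  · intro p hp hpπ; rw [hrel]; exact hH'idx p hp hpπ
  · intro p hp hd; rw [hrelN] at hd; exact hH'π p hp hd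

theorem h8_commutator_ne_of_solvable {X : Type u} [Group X] {N : Subgroup X}
    (hs : Group.IsSolvable ↥N) (hN : N ≠ ⊥) : ⁅N, N⁆ ≠ N := by
  intro h
  have hnt : Nontrivial ↥N := (Subgroup.nontrivial_iff_ne_bot N).2 hN
  have h0 := Group.IsSolvable.commutator_lt_top_of_nontrivial ↥N
  apply h0.ne
  apply Subgroup.map_injective N.subtype_injective
  rw [commutator_def, Subgroup.map_commutator, ← MonoidHom.range_eq_map, Subgroup.range_subtype, h]

theorem h8_exists_inv_pgroup {X : Type u} [Group X] [Finite X] (A G : Subgroup X)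
    (hAG : A ≤ Subgroup.normalizer (G : Set X)) (hsolv : Group.IsSolvable G) (hG1 : G ≠ ⊥) :
    ∃ (N : Subgroup X) (p : ℕ), p.Prime ∧ N ≤ G ∧ N ≠ ⊥ ∧
      G ≤ Subgroup.normalizer (N : Set X) ∧ A ≤ Subgroup.normalizer (N : Set X) ∧
      IsPGroup p N := by
  classical
  obtain ⟨N, -, hNmin⟩ := Finite.exists_le_minimal
    (p := fun K : Subgroup X => K ≤ G ∧ K ≠ ⊥ ∧ G ≤ Subgroup.normalizer (K : Set X) ∧
      A ≤ Subgroup.normalizer (K : Set X))
    (a := G) ⟨le_rfl, hG1, Subgroup.le_normalizer, hAG⟩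
  obtain ⟨hNG, hN1, hGN, hAN⟩ := hNmin.prop
  have hmin : ∀ M : Subgroup X, M ≤ N → M ≠ ⊥ → G ≤ Subgroup.normalizer (M : Set X) →
      A ≤ Subgroup.normalizer (M : Set X) → M = N := by
    intro M hMN hM1 hGM hAM
    exact hNmin.eq_of_le ⟨hMN.trans hNG, hM1, hGM, hAM⟩ hMN
  have hNsolv : Group.IsSolvable ↥N :=
    Group.isSolvable_of_isSolvable_injective (Subgroup.inclusion_injective hNG)
  have hcomm_norm : ∀ S : Subgroup X, S ≤ Subgroup.normalizer (N : Set X) →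
      S ≤ Subgroup.normalizer ((⁅N, N⁆ : Subgroup X) : Set X) := by
    intro S hS s hs
    apply h8_mem_normalizer_of_map_conj_eq
    rw [Subgroup.map_commutator, h8_map_conj_eq_of_mem_normalizer (hS hs)]
  have hN'le : ⁅N, N⁆ ≤ N := by
    rw [Subgroup.commutator_le]
    intro a ha b hb
    rw [commutatorElement_def]
    exact N.mul_mem (N.mul_mem (N.mul_mem ha hb) (N.inv_mem ha)) (N.inv_mem hb)
  have hN'bot : ⁅N, N⁆ = ⊥ := by
    by_contra hne
    exact h8_commutator_ne_of_solvable hNsolv hN1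
      (hmin _ hN'le hne (hcomm_norm G hGN) (hcomm_norm A hAN))
  have hNab : ∀ a ∈ N, ∀ b ∈ N, a * b = b * a := by
    intro a ha b hb
    have h1 : ⁅a, b⁆ ∈ (⁅N, N⁆ : Subgroup X) := Subgroup.commutator_mem_commutator ha hb
    rw [hN'bot, Subgroup.mem_bot, commutatorElement_eq_one_iff_mul_comm] at h1
    exact h1
  have hNcard : 1 < Nat.card N := (Subgroup.one_lt_card_iff_ne_bot _).2 hN1
  obtain ⟨p, hp, hpN⟩ := Nat.exists_prime_and_dvd hNcard.ne'
  have hpf : Fact p.Prime := ⟨hp⟩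
  obtain ⟨x₀, hx₀⟩ := exists_prime_orderOf_dvd_card' p hpN
  let W : Subgroup X :=
    { carrier := {x | x ∈ N ∧ x ^ p = 1}
      one_mem' := ⟨N.one_mem, one_pow p⟩
      mul_mem' := by
        rintro x y ⟨hx, hx'⟩ ⟨hy, hy'⟩
        exact ⟨N.mul_mem hx hy, by
          rw [(show Commute x y from hNab x hx y hy).mul_pow, hx', hy', one_mul]⟩
      inv_mem' := by
        rintro x ⟨hx, hx'⟩
        exact ⟨N.inv_mem hx, by rw [inv_pow, hx', inv_one]⟩ }
  have hWmem : ∀ x, x ∈ W ↔ x ∈ N ∧ x ^ p = 1 := fun x => Iff.rfl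
  have hWN : W ≤ N := fun x hx => ((hWmem x).1 hx).1
  have hW1 : W ≠ ⊥ := by
    intro h
    have h1 : (x₀ : X) ∈ W := by
      rw [hWmem]
      refine ⟨x₀.2, ?_⟩
      have h2 : x₀ ^ p = 1 := by rw [← hx₀]; exact pow_orderOf_eq_one x₀
      simpa using congrArg Subtype.val h2
    rw [h, Subgroup.mem_bot] at h1
    have h3 : x₀ = 1 := Subtype.ext h1
    rw [h3, orderOf_one] at hx₀
    exact hp.one_lt.ne' hx₀.symm
  have hW_norm : ∀ S : Subgroup X, S ≤ Subgroup.normalizer (N : Set X) →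
      S ≤ Subgroup.normalizer (W : Set X) := by
    intro S hS
    rw [Subgroup.le_normalizer_iff]
    intro s hs w hw
    rw [hWmem] at hw ⊢
    exact ⟨Subgroup.le_normalizer_iff.1 hS s hs w hw.1, by rw [conj_pow, hw.2]; group⟩
  have hWeq : W = N := hmin W hWN hW1 (hW_norm G hGN) (hW_norm A hAN)
  refine ⟨N, p, hp, hNG, hN1, hGN, hAN, ?_⟩
  intro x
  refine ⟨1, ?_⟩
  have h1 : (x : X) ∈ W := by rw [hWeq]; exact x.2
  apply Subtype.ext
  rw [pow_one]
  simpa using ((hWmem _).1 h1).2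

theorem h8_hallDom (π : Set ℕ) : ∀ n : ℕ, h8_HallDom.{u} π n := by
  intro n
  induction n with
  | zero =>
    intro X _ _ A G U hlt
    exact absurd hlt (Nat.not_lt_zero _)
  | succ n ih =>
    intro X _ _ A G U hlt hAG hcop hsolv hUG hAU hU
    have ih' : h8_HallDom.{u} π (Nat.card G) := by
      intro X' _ _ A' G' U' hlt'
      exact ih X' A' G' U' (by omega)
    by_cases hG1 : G = ⊥
    · refine ⟨⊥, ⟨bot_le, ?_, ?_⟩, h8_le_normalizer_bot A, by rw [← hG1]; exact hUG⟩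
      · intro p hp hd
        rw [Subgroup.card_bot] at hd
        exact absurd (Nat.dvd_one.1 hd) hp.one_lt.ne'
      · intro p hp _ hd
        rw [hG1, Subgroup.relIndex_self] at hd
        exact hp.one_lt.ne' (Nat.dvd_one.1 hd)
    obtain ⟨N, p, hp, hNG, hN1, hGN, hAN, hNp⟩ := h8_exists_inv_pgroup A G hAG hsolv hG1
    have hpf : Fact p.Prime := ⟨hp⟩
    obtain ⟨k, hk⟩ := IsPGroup.iff_card.1 hNp
    obtain ⟨H₁, hNH₁, hH₁G, hUH₁, hAH₁, hidx, hrelπ⟩ :=
      h8_hall_quot π A G U N ih' hAG hcop hsolv hUG hAU hU hNG hN1 hGN hAN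
    have hcardH₁ := card_mul_relIndex_of_le hNH₁
    by_cases hpπ : p ∈ π
    · refine ⟨H₁, ⟨hH₁G, ?_, hidx⟩, hAH₁, hUH₁⟩
      intro q hq hd
      rw [← hcardH₁, hk] at hd
      rcases (Nat.Prime.dvd_mul hq).1 hd with h | h
      · rw [(Nat.prime_dvd_prime_iff_eq hq hp).1 (hq.dvd_of_dvd_pow h)]; exact hpπ
      · exact hrelπ q hq h
    · by_cases hH₁eq : H₁ = G
      · rw [hH₁eq] at hrelπ hcardH₁
        obtain ⟨m, hmdef⟩ : ∃ m : ℕ, m = N.relIndex G := ⟨_, rfl⟩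
        rw [← hmdef] at hrelπ hcardH₁
        have hmn : Nat.card G = m * Nat.card N := by rw [← hcardH₁, mul_comm]
        have hn : ∀ q : ℕ, q.Prime → q ∈ π → ¬ q ∣ Nat.card N := by
          intro q hq hqπ hd
          rw [hk] at hd
          rw [(Nat.prime_dvd_prime_iff_eq hq hp).1 (hq.dvd_of_dvd_pow hd)] at hqπ
          exact hpπ hqπ
        have hcmn : m.Coprime (Nat.card N) := h8_pi_coprime π hrelπ hn
        have hne : ∃ H : Subgroup X, H ≤ G ∧ Nat.card H = m ∧ U ≤ H := by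
          have hUcop : (Nat.card (U.subgroupOf G)).Coprime (Nat.card N) := by
            rw [card_subgroupOf_of_le hUG]; exact h8_pi_coprime π hU hn
          obtain ⟨H, hHc, hHU⟩ := hall_dom (Nat.card G) ↥G le_rfl m (Nat.card N) hmn hcmn
            (U.subgroupOf G) hUcop
          refine ⟨H.map G.subtype, Subgroup.map_subtype_le _,
            (Subgroup.card_map_of_injective G.subtype_injective).trans hHc, ?_⟩
          intro u hu
          exact ⟨⟨u, hUG hu⟩, hHU (Subgroup.mem_subgroupOf.2 hu), rfl⟩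
        obtain ⟨K, hK⟩ : ∃ K : Subgroup X, K = N ⊓ Subgroup.centralizer (U : Set X) := ⟨_, rfl⟩
        have hKN : K ≤ N := by rw [hK]; exact inf_le_left
        have hKC : K ≤ Subgroup.centralizer (U : Set X) := by rw [hK]; exact inf_le_right
        have hAK : A ≤ Subgroup.normalizer (K : Set X) := by
          rw [Subgroup.le_normalizer_iff]
          intro a ha y hy
          rw [hK, Subgroup.mem_inf] at hy ⊢
          obtain ⟨hyN, hyC⟩ := hy
          refine ⟨Subgroup.le_normalizer_iff.1 hAN a ha y hyN, ?_⟩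
          rw [Subgroup.mem_centralizer_iff] at hyC ⊢
          intro u hu
          have h1 : a⁻¹ * u * a ∈ U := by
            have h0 := Subgroup.le_normalizer_iff.1 hAU a⁻¹ (A.inv_mem ha) u hu
            rwa [inv_inv] at h0
          have h2 := hyC _ h1
          calc u * (a * y * a⁻¹) = a * ((a⁻¹ * u * a) * y) * a⁻¹ := by group
            _ = a * (y * (a⁻¹ * u * a)) * a⁻¹ := by rw [h2]
            _ = a * y * a⁻¹ * u := by group
        have hKG : K ≤ G := hKN.trans hNG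
        have hdisj : ∀ H' : Subgroup X, Nat.card H' = m → ∀ y, y ∈ N → y ∈ H' → y = 1 := by
          intro H' hH' y hyN hyH
          exact eq_one_of_mem_of_mem_coprime (A := N) (K := H')
            (by rw [hH']; exact hcmn.symm) hyN hyH
        have htrans : ∀ H₁' H₂' : Subgroup X, H₁' ≤ G → Nat.card H₁' = m → U ≤ H₁' → H₂' ≤ G →
            Nat.card H₂' = m → U ≤ H₂' → ∃ k ∈ K, MulAut.conj k • H₁' = H₂' := by
          intro H₁' H₂' h₁ hc₁ hU₁ h₂ hc₂ hU₂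
          obtain ⟨g, hgG, hg⟩ := h8_hall_trans G hsolv hmn hcmn H₁' H₂' h₁ hc₁ h₂ hc₂
          have hinf : Nat.card ↥(N ⊓ H₁') = 1 := by
            rw [disjoint_iff.1 (Subgroup.disjoint_of_coprime_natCard
              (show (Nat.card N).Coprime (Nat.card H₁') by rw [hc₁]; exact hcmn.symm)),
              Subgroup.card_bot]
          obtain ⟨x, hxN, h, hhH, hgxh⟩ := h8_exists_mul_of_card_eq hNG h₁
            (by rw [hinf, hc₁, mul_one, hmn, mul_comm]) g hgG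
          have hx : MulAut.conj x • H₁' = H₂' := by
            rw [← hg, hgxh, ← conj_smul_conj_smul,
              mem_normalizer_iff_conj_smul.1 (Subgroup.le_normalizer hhH)]
          refine ⟨x, ?_, hx⟩
          rw [hK, Subgroup.mem_inf]
          refine ⟨hxN, ?_⟩
          rw [Subgroup.mem_centralizer_iff]
          intro u hu
          have h3 : x⁻¹ * u * x ∈ H₁' := by
            have h4 : u ∈ MulAut.conj x • H₁' := by rw [hx]; exact hU₂ hu
            exact mem_conj_smul_iff.1 h4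
          have h5 : u⁻¹ * (x⁻¹ * u * x) = 1 := by
            apply hdisj H₁' hc₁
            · have h6 : u⁻¹ * (x⁻¹ * u * x) = (u⁻¹ * x⁻¹ * u⁻¹⁻¹) * x := by group
              rw [h6]
              exact N.mul_mem (Subgroup.le_normalizer_iff.1 hGN _ (G.inv_mem (hUG hu)) _
                (N.inv_mem hxN)) hxN
            · exact H₁'.mul_mem (H₁'.inv_mem (hU₁ hu)) h3
          calc u * x = x * (u * (u⁻¹ * (x⁻¹ * u * x))) := by group
            _ = x * u := by rw [h5, mul_one]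
        obtain ⟨H, hHG, hHc, hUH, hAH⟩ := h8_hall_fixed A K G U m hAG hAU hAK
          (hKG.trans Subgroup.le_normalizer)
          (hKC.trans (Subgroup.centralizer_le_normalizer _))
          (Nat.Coprime.coprime_dvd_right (Subgroup.card_dvd_of_le hKG) hcop)
          (Or.inr (Group.isSolvable_of_isSolvable_injective (Subgroup.inclusion_injective hKG)))
          hne htrans
        exact ⟨H, (h8_isPiHallOf_iff π G hmn hrelπ hn H).2 ⟨hHG, hHc⟩, hAH, hUH⟩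
      · have hlt₁ : Nat.card H₁ < Nat.card G := card_lt_of_lt (lt_of_le_of_ne hH₁G hH₁eq)
        obtain ⟨H, hH, hAH, hUH⟩ := ih' X A H₁ U hlt₁ hAH₁
          (Nat.Coprime.coprime_dvd_right (Subgroup.card_dvd_of_le hH₁G) hcop)
          (Group.isSolvable_of_isSolvable_injective (Subgroup.inclusion_injective hH₁G))
          hUH₁ hAU hU
        obtain ⟨hHH₁, hHπ, hHidx⟩ := hH
        refine ⟨H, ⟨hHH₁.trans hH₁G, hHπ, ?_⟩, hAH, hUH⟩
        intro q hq hqπ hd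
        have hmul := Subgroup.relIndex_mul_relIndex (H := H) (K := H₁) (L := G) hHH₁ hH₁G
        rw [← hmul] at hd
        rcases (Nat.Prime.dvd_mul hq).1 hd with h | h
        · exact hHidx q hq hqπ h
        · exact hidx q hq hqπ h

theorem h8_s3745 {X : Type u} [Group X] [Finite X] (A G : Subgroup X)
    (hAG : A ≤ Subgroup.normalizer (G : Set X)) (hcop : (Nat.card A).Coprime (Nat.card G))
    (hsolv : Group.IsSolvable G) (π : Set ℕ) :
    (∃ H : Subgroup X, Cfsg.IsPiHallOf π H G ∧ A ≤ Subgroup.normalizer (H : Set X)) ∧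
    (∀ H₁ H₂ : Subgroup X, Cfsg.IsPiHallOf π H₁ G → A ≤ Subgroup.normalizer (H₁ : Set X) →
      Cfsg.IsPiHallOf π H₂ G → A ≤ Subgroup.normalizer (H₂ : Set X) →
      ∃ c ∈ G ⊓ Subgroup.centralizer (A : Set X), H₂ = H₁.map (MulAut.conj c).toMonoidHom) ∧
    (∀ U : Subgroup X, U ≤ G → A ≤ Subgroup.normalizer (U : Set X) →
      (∀ p : ℕ, p.Prime → p ∣ Nat.card U → p ∈ π) →
      ∃ H : Subgroup X, Cfsg.IsPiHallOf π H G ∧ A ≤ Subgroup.normalizer (H : Set X) ∧ U ≤ H) :=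
  ⟨h8_s3745_a A G hAG hcop hsolv π,
    fun H₁ H₂ h₁ hA₁ h₂ hA₂ => h8_s3745_b A G hAG hcop hsolv π H₁ H₂ h₁ hA₁ h₂ hA₂,
    fun U hUG hAU hU =>
      h8_hallDom π (Nat.card G + 1) X A G U (Nat.lt_succ_self _) hAG hcop hsolv hUG hAU hU⟩

end Cfsg.Agent.Lib.Helper8
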