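import Mathlib
import Cfsg.Agent.Lib.Helper2.PGroup

set_option autoImplicit false
universe u
namespace Cfsg.Agent.Lib.Helper8
open scoped commutatorElement

section
variable {X : Type u} [Group X]

theorem h8_pow_mul_rel (x y c : X) (hcy : c * y = y * c) (hyx : y * x = c * x * y) (n : ℕ) :
    y ^ n * x = c ^ n * x * y ^ n := by
  induction n with
  | zero => simp
  | succ n ih =>
    have hcn : c ^ n * y = y * c ^ n := ((show Commute c y from hcy).pow_left n).eq
    calc y ^ (n + 1) * x = y * (y ^ n * x) := by rw [pow_succ', mul_assoc]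
      _ = y * (c ^ n * x * y ^ n) := by rw [ih]
      _ = c ^ n * (y * x) * y ^ n := by
        rw [← mul_assoc, ← mul_assoc, ← hcn]
        simp only [mul_assoc]
      _ = c ^ n * (c * x * y) * y ^ n := by rw [hyx]
      _ = c ^ (n + 1) * x * y ^ (n + 1) := by
        rw [pow_succ, pow_succ']
        simp only [mul_assoc]

theorem h8_mul_pow_rel (x y c : X) (hcx : c * x = x * c) (hcy : c * y = y * c)
    (hyx : y * x = c * x * y) (n : ℕ) :
    (x * y) ^ n = c ^ (n.choose 2) * x ^ n * y ^ n := by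
  induction n with
  | zero => simp
  | succ n ih =>
    have hcn : c ^ n * x ^ n = x ^ n * c ^ n := ((show Commute c x from hcx).pow_pow n n).eq
    have h1 := h8_pow_mul_rel x y c hcy hyx n
    calc (x * y) ^ (n + 1) = (x * y) ^ n * (x * y) := pow_succ _ _
      _ = c ^ (n.choose 2) * x ^ n * y ^ n * (x * y) := by rw [ih]
      _ = c ^ (n.choose 2) * x ^ n * (y ^ n * x) * y := by simp only [mul_assoc]
      _ = c ^ (n.choose 2) * x ^ n * (c ^ n * x * y ^ n) * y := by rw [h1]
      _ = c ^ (n.choose 2) * (x ^ n * c ^ n) * x * y ^ n * y := by simp only [mul_assoc]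
      _ = c ^ (n.choose 2) * (c ^ n * x ^ n) * x * y ^ n * y := by rw [hcn]
      _ = c ^ ((n + 1).choose 2) * x ^ (n + 1) * y ^ (n + 1) := by
        have : (n + 1).choose 2 = n.choose 2 + n := by
          rw [Nat.choose_succ_succ', Nat.choose_one_right, add_comm]
        rw [this, pow_add, pow_succ, pow_succ]
        simp only [mul_assoc]

/-- A `p'`-element `a` normalizing the `p`-subgroup `P` and centralizing every element
`x` of `P` with `x ^ e = 1` (`e = p` for odd `p`, `e = 4` for `p = 2`) centralizes `P`. -/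
theorem h8_coprime_aut_omega [Finite X] (p : ℕ) [hp : Fact p.Prime] (e : ℕ)
    (hpe : p ∣ e) (hch : p ∣ e.choose 2) (a : X) (n : ℕ) (hn : Nat.Coprime n p)
    (han : a ^ n = 1) :
    ∀ (m : ℕ) (P : Subgroup X), Nat.card P = m → IsPGroup p P →
      (∀ x ∈ P, a * x * a⁻¹ ∈ P) →
      (∀ x ∈ P, x ^ e = 1 → a * x = x * a) → ∀ x ∈ P, a * x = x * a := by
  intro m
  induction m using Nat.strong_induction_on with
  | _ m ih =>
  intro P hcard hP hinv hfix
  by_cases hbot : P = ⊥
  · intro x hx
    rw [hbot, Subgroup.mem_bot] at hx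
    rw [hx, mul_one, one_mul]
  let K : Subgroup X := Subgroup.closure {c | ∃ x ∈ P, c = x⁻¹ * (a * x * a⁻¹)}
  have hKP : K ≤ P := (Subgroup.closure_le P).2 (by
    rintro c ⟨x, hx, rfl⟩
    exact P.mul_mem (P.inv_mem hx) (hinv x hx))
  have hKinv : ∀ k ∈ K, a * k * a⁻¹ ∈ K := by
    intro k hk
    induction hk using Subgroup.closure_induction with
    | mem c hc =>
      obtain ⟨x, hx, rfl⟩ := hc
      apply Subgroup.subset_closure
      refine ⟨a * x * a⁻¹, hinv x hx, ?_⟩
      group
    | one => simp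
    | mul u v _ _ hu hv =>
      have : a * (u * v) * a⁻¹ = (a * u * a⁻¹) * (a * v * a⁻¹) := by group
      rw [this]; exact K.mul_mem hu hv
    | inv u _ hu =>
      have : a * u⁻¹ * a⁻¹ = (a * u * a⁻¹)⁻¹ := by group
      rw [this]; exact K.inv_mem hu
  have hcardlt : ∀ N : Subgroup X, N ≤ P → N ≠ P → Nat.card N < m := by
    intro N hNP hne
    rw [← hcard]
    by_contra hcon
    exact hne (Subgroup.eq_of_le_of_card_ge hNP (not_lt.1 hcon))
  by_cases hKeq : K = P
  · -- the main case `[P, a] = P`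
    let N : Subgroup X := Subgroup.closure
      {w | (∃ x ∈ P, w = x ^ p) ∨ (∃ x ∈ P, ∃ y ∈ P, w = x * y * x⁻¹ * y⁻¹)}
    have hNP : N ≤ P := (Subgroup.closure_le P).2 (by
      rintro w (⟨x, hx, rfl⟩ | ⟨x, hx, y, hy, rfl⟩)
      · exact P.pow_mem hx p
      · exact P.mul_mem (P.mul_mem (P.mul_mem hx hy) (P.inv_mem hx)) (P.inv_mem hy))
    have hNinv : ∀ g : X, (∀ x ∈ P, g * x * g⁻¹ ∈ P) → ∀ w ∈ N, g * w * g⁻¹ ∈ N := by
      intro g hg w hw
      induction hw using Subgroup.closure_induction with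
      | mem c hc =>
        apply Subgroup.subset_closure
        rcases hc with ⟨x, hx, rfl⟩ | ⟨x, hx, y, hy, rfl⟩
        · left
          exact ⟨g * x * g⁻¹, hg x hx, (conj_pow).symm⟩
        · right
          refine ⟨g * x * g⁻¹, hg x hx, g * y * g⁻¹, hg y hy, ?_⟩
          group
      | one => simp
      | mul u v _ _ hu hv =>
        have : g * (u * v) * g⁻¹ = (g * u * g⁻¹) * (g * v * g⁻¹) := by group
        rw [this]; exact N.mul_mem hu hv
      | inv u _ hu =>
        have : g * u⁻¹ * g⁻¹ = (g * u * g⁻¹)⁻¹ := by group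
        rw [this]; exact N.inv_mem hu
    have hNne : N ≠ P := by
      intro hNeq
      have hle : N ≤ (frattini ↥P).map P.subtype := by
        rw [Subgroup.closure_le]
        rintro w (⟨x, hx, rfl⟩ | ⟨x, hx, y, hy, rfl⟩)
        · exact ⟨⟨x, hx⟩ ^ p,
            Cfsg.Agent.Lib.Helper2.pow_mem_frattini_of_pGroup hP ⟨x, hx⟩, rfl⟩
        · have h1 : ⁅(⟨x, hx⟩ : ↥P), ⟨y, hy⟩⁆ ∈ commutator ↥P :=
            Subgroup.commutator_mem_commutator (Subgroup.mem_top _) (Subgroup.mem_top _)
          exact ⟨⁅(⟨x, hx⟩ : ↥P), ⟨y, hy⟩⁆,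
            Cfsg.Agent.Lib.Helper2.commutator_le_frattini_of_pGroup hP h1, rfl⟩
      have htop : frattini ↥P = ⊤ := by
        rw [eq_top_iff]
        intro y _
        have hy : (y : X) ∈ (frattini ↥P).map P.subtype := hle (by rw [hNeq]; exact y.2)
        obtain ⟨z, hz, hzy⟩ := hy
        have : z = y := Subtype.ext hzy
        rwa [this] at hz
      have hb : (⊥ : Subgroup ↥P) = ⊤ := frattini_nongenerating (by rw [htop]; simp)
      apply hbot
      rw [eq_bot_iff]
      intro x hx
      have : (⟨x, hx⟩ : ↥P) ∈ (⊥ : Subgroup ↥P) := by rw [hb]; trivial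
      rw [Subgroup.mem_bot] at this
      rw [Subgroup.mem_bot]
      exact congrArg Subtype.val this
    have hNc : ∀ w ∈ N, a * w = w * a :=
      ih (Nat.card N) (hcardlt N hNP hNne) N rfl (hP.to_le hNP) (hNinv a hinv)
        (fun x hx => hfix x (hNP hx))
    have hNZ : ∀ w ∈ N, ∀ y ∈ P, w * y = y * w := by
      intro w hw
      have hK : K ≤ Subgroup.centralizer {w} := by
        rw [Subgroup.closure_le]
        rintro c ⟨x, hx, rfl⟩
        have h1 : a * w = w * a := hNc w hw
        have h1' : a⁻¹ * w = w * a⁻¹ := (Commute.inv_left (show Commute a w from h1)).eq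
        have h2 : a * (x * w * x⁻¹) = (x * w * x⁻¹) * a :=
          hNc _ (hNinv x (fun y hy => P.mul_mem (P.mul_mem hx hy) (P.inv_mem hx)) w hw)
        rw [SetLike.mem_coe, Subgroup.mem_centralizer_singleton_iff]
        calc x⁻¹ * (a * x * a⁻¹) * w = x⁻¹ * a * x * (a⁻¹ * w) := by group
          _ = x⁻¹ * a * x * (w * a⁻¹) := by rw [h1']
          _ = x⁻¹ * (a * (x * w * x⁻¹)) * x * a⁻¹ := by group
          _ = x⁻¹ * ((x * w * x⁻¹) * a) * x * a⁻¹ := by rw [h2]
          _ = w * (x⁻¹ * (a * x * a⁻¹)) := by group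
      intro y hy
      have hyK : y ∈ K := by rw [hKeq]; exact hy
      have := hK hyK
      rw [Subgroup.mem_centralizer_singleton_iff] at this
      exact this.symm
    have hpowc : ∀ x ∈ P, ∀ y ∈ P, (x * y) ^ e = x ^ e * y ^ e := by
      intro x hx y hy
      obtain ⟨k, hk⟩ : ∃ k : X, k = y * x * y⁻¹ * x⁻¹ := ⟨_, rfl⟩
      have hkN : k ∈ N := by
        rw [hk]; exact Subgroup.subset_closure (Or.inr ⟨y, hy, x, hx, rfl⟩)
      have hkx : k * x = x * k := hNZ k hkN x hx
      have hky : k * y = y * k := hNZ k hkN y hy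
      have hyx : y * x = k * x * y := by rw [hk]; group
      have hxpN : x ^ p ∈ N := Subgroup.subset_closure (Or.inl ⟨x, hx, rfl⟩)
      have hkp : k ^ p = 1 := by
        have h1 : y * x ^ p * y⁻¹ = x ^ p := by
          have := hNZ (x ^ p) hxpN y hy
          rw [← this]; group
        have h2 : y * x ^ p * y⁻¹ = (k * x) ^ p := by
          rw [← conj_pow]
          congr 1
          rw [hk]; group
        have h3 : (k * x) ^ p = k ^ p * x ^ p := (show Commute k x from hkx).mul_pow p
        rw [h1, h3] at h2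
        exact mul_eq_right.mp h2.symm
      rw [h8_mul_pow_rel x y k hkx hky hyx e]
      obtain ⟨t, ht⟩ := hch
      rw [ht, pow_mul, hkp, one_pow, one_mul]
    have hKcent : K ≤ Subgroup.centralizer {a} := by
      rw [Subgroup.closure_le]
      rintro c ⟨x, hx, rfl⟩
      obtain ⟨c, hc⟩ : ∃ c : X, c = x⁻¹ * (a * x * a⁻¹) := ⟨_, rfl⟩
      rw [← hc]
      have hcP : c ∈ P := by rw [hc]; exact P.mul_mem (P.inv_mem hx) (hinv x hx)
      have hxe : x ^ e ∈ N := by
        obtain ⟨t, ht⟩ := hpe
        rw [ht, pow_mul]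
        exact N.pow_mem (Subgroup.subset_closure (Or.inl ⟨x, hx, rfl⟩)) t
      have h1 : a * x ^ e * a⁻¹ = x ^ e := by
        rw [hNc _ hxe]; group
      have h2 : a * x * a⁻¹ = x * c := by rw [hc]; group
      have h3 : (x * c) ^ e = x ^ e := by
        rw [← h2, conj_pow, h1]
      rw [hpowc x hx c hcP] at h3
      have hce : c ^ e = 1 := mul_eq_left.mp h3
      rw [SetLike.mem_coe, Subgroup.mem_centralizer_singleton_iff]
      exact (hfix c hcP hce).symm
    intro x hx
    have hxK : x ∈ K := by rw [hKeq]; exact hx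
    have := hKcent hxK
    rw [Subgroup.mem_centralizer_singleton_iff] at this
    exact this.symm
  · have hKc : ∀ k ∈ K, a * k = k * a :=
      ih (Nat.card K) (hcardlt K hKP hKeq) K rfl (hP.to_le hKP) hKinv
        (fun x hx => hfix x (hKP hx))
    intro x hx
    obtain ⟨c, hc⟩ : ∃ c : X, c = x⁻¹ * (a * x * a⁻¹) := ⟨_, rfl⟩
    have hcK : c ∈ K := by rw [hc]; exact Subgroup.subset_closure ⟨x, hx, rfl⟩
    have hac : a * c = c * a := hKc c hcK
    have h2 : a * x * a⁻¹ = x * c := by rw [hc]; group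
    have hpow : ∀ i : ℕ, a ^ i * x * (a ^ i)⁻¹ = x * c ^ i := by
      intro i
      induction i with
      | zero => simp
      | succ i ihi =>
        have e1 : a ^ (i + 1) * x * (a ^ (i + 1))⁻¹ = a * (a ^ i * x * (a ^ i)⁻¹) * a⁻¹ := by
          rw [pow_succ']; group
        rw [e1, ihi]
        have h1 : a * c ^ i = c ^ i * a := ((show Commute a c from hac).pow_right i).eq
        calc a * (x * c ^ i) * a⁻¹ = (a * x * a⁻¹) * (a * c ^ i) * a⁻¹ := by group
          _ = (x * c) * (c ^ i * a) * a⁻¹ := by rw [h2, h1]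
          _ = x * c ^ (i + 1) := by rw [pow_succ']; group
    have h3 := hpow n
    rw [han, one_mul, inv_one, mul_one] at h3
    have hcn : c ^ n = 1 := mul_eq_left.mp h3.symm
    have hc1 : c = 1 := by
      obtain ⟨k, hk⟩ := (hP.to_le hKP) ⟨c, hcK⟩
      have hk' : c ^ (p ^ k) = 1 := by
        have := congrArg Subtype.val hk
        simpa using this
      have hg := pow_gcd_eq_one.2 ⟨hcn, hk'⟩
      have hcop : Nat.gcd n (p ^ k) = 1 := Nat.Coprime.pow_right k hn
      rw [hcop, pow_one] at hg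
      exact hg
    rw [hc1, mul_one] at h2
    calc a * x = (a * x * a⁻¹) * a := by group
      _ = x * a := by rw [h2]

end

end Cfsg.Agent.Lib.Helper8
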