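import Mathlib.GroupTheory.PGroup
import Mathlib.GroupTheory.Commutator.Basic
import Mathlib.GroupTheory.Abelianization.Defs
import Mathlib.Tactic
import Cfsg.Prelude.Def_Transfer
import Cfsg.Agent.Lib.Helper7.PCore

/-! Orders of extraspecial groups: `|E| = p ^ (2 n + 1)` with `n ≥ 1`, via an "ambient" induction. -/

set_option autoImplicit false

namespace Cfsg.Agent.Lib.Helper8

variable {G : Type*} [Group G]

/-- If all commutators `[a, b]` (`b ∈ B`) lie in a subgroup `Z` of prime order centralized by `B`,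
then `C_B(a)` is `B` or has index `p` in `B`. -/
theorem h8_card_centralizer_mul_prime [Finite G] {p : ℕ} (hp : p.Prime) (B Z : Subgroup G)
    (hZ : Nat.card Z = p) (a : G) (hcomm : ∀ b ∈ B, a * b * a⁻¹ * b⁻¹ ∈ Z)
    (hBZ : ∀ b ∈ B, ∀ z ∈ Z, b * z = z * b)
    (hc : a ∉ Subgroup.centralizer (B : Set G)) :
    Nat.card ↥(B ⊓ Subgroup.centralizer {a}) * p = Nat.card B := by
  let f : ↥B →* ↥Z :=
    { toFun := fun b => ⟨a * b * a⁻¹ * (b : G)⁻¹, hcomm b b.2⟩
      map_one' := by apply Subtype.ext; simp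
      map_mul' := by
        intro b b'
        apply Subtype.ext
        have h1 := hBZ b b.2 _ (hcomm b' b'.2)
        show a * ((b : G) * (b' : G)) * a⁻¹ * ((b : G) * (b' : G))⁻¹ =
          (a * b * a⁻¹ * (b : G)⁻¹) * (a * b' * a⁻¹ * (b' : G)⁻¹)
        calc a * ((b : G) * (b' : G)) * a⁻¹ * ((b : G) * (b' : G))⁻¹
            = (a * b * a⁻¹ * (b : G)⁻¹) * ((b : G) * (a * b' * a⁻¹ * (b' : G)⁻¹)) * (b : G)⁻¹ := by
              group
          _ = (a * b * a⁻¹ * (b : G)⁻¹) * ((a * b' * a⁻¹ * (b' : G)⁻¹) * b) * (b : G)⁻¹ := by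
              rw [h1]
          _ = _ := by group }
  have hker : f.ker = (B ⊓ Subgroup.centralizer {a}).subgroupOf B := by
    ext b
    rw [MonoidHom.mem_ker, Subgroup.mem_subgroupOf, Subgroup.mem_inf]
    constructor
    · intro h
      refine ⟨b.2, ?_⟩
      have h1 : a * b * a⁻¹ * (b : G)⁻¹ = 1 := congrArg Subtype.val h
      rw [Subgroup.mem_centralizer_iff]
      intro y hy
      rw [Set.mem_singleton_iff] at hy
      subst hy
      calc y * (b : G) = (y * b * y⁻¹ * (b : G)⁻¹) * (b * y) := by group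
        _ = b * y := by rw [h1, one_mul]
    · rintro ⟨_, h⟩
      apply Subtype.ext
      have h1 := Subgroup.mem_centralizer_iff.1 h a (Set.mem_singleton a)
      show a * b * a⁻¹ * (b : G)⁻¹ = 1
      rw [h1]; group
  have hidx : (B ⊓ Subgroup.centralizer {a}).relIndex B = Nat.card f.range := by
    rw [← Subgroup.index_ker, hker]; rfl
  have hdvd : Nat.card f.range ∣ p := hZ ▸ Subgroup.card_subgroup_dvd_card f.range
  have hne1 : Nat.card f.range ≠ 1 := by
    intro h1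
    apply hc
    have hbot : f.range = ⊥ := Subgroup.card_eq_one.1 h1
    rw [Subgroup.mem_centralizer_iff]
    intro b hb
    have h3 : f ⟨b, hb⟩ ∈ f.range := ⟨_, rfl⟩
    rw [hbot, Subgroup.mem_bot] at h3
    have h2 : a * b * a⁻¹ * b⁻¹ = 1 := congrArg Subtype.val h3
    calc b * a = (a * b * a⁻¹ * b⁻¹)⁻¹ * (a * b) := by group
      _ = a * b := by rw [h2]; simp
  have hrange : Nat.card f.range = p := ((Nat.dvd_prime hp).1 hdvd).resolve_left hne1
  have h4 := Cfsg.Agent.Lib.Helper7.card_mul_relIndex_of_le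
    (inf_le_left : B ⊓ Subgroup.centralizer {a} ≤ B)
  rw [hidx, hrange] at h4
  exact h4

/-- if `H ≤ K ≤ L`, `H ≠ K` and `|L| = p |H|`, then `K = L`. -/
theorem h8_eq_of_card_mul_prime [Finite G] {p : ℕ} (hp : p.Prime) {H K L : Subgroup G}
    (hHK : H ≤ K) (hKL : K ≤ L) (hne : H ≠ K) (hcard : Nat.card H * p = Nat.card L) : K = L := by
  obtain ⟨m, hm⟩ := Subgroup.card_dvd_of_le hHK
  have h1 : Nat.card K ∣ Nat.card L := Subgroup.card_dvd_of_le hKL
  rw [hm, ← hcard] at h1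
  have h2 : m ∣ p := (Nat.mul_dvd_mul_iff_left Nat.card_pos).1 h1
  rcases (Nat.dvd_prime hp).1 h2 with h | h
  · exfalso
    apply hne
    apply Subgroup.eq_of_le_of_card_ge hHK
    rw [hm, h, mul_one]
  · apply Subgroup.eq_of_le_of_card_ge hKL
    rw [hm, h, hcard]

theorem h8_extraspecial_card_aux [Finite G] {p : ℕ} (hp : p.Prime) (Z : Subgroup G)
    (hZ : Nat.card Z = p) : ∀ (N : ℕ) (E : Subgroup G), Nat.card E = N → Z ≤ E →
    (∀ e ∈ E, ∀ z ∈ Z, e * z = z * e) → (∀ a ∈ E, ∀ b ∈ E, a * b * a⁻¹ * b⁻¹ ∈ Z) →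
    (∀ e ∈ E, (∀ e' ∈ E, e * e' = e' * e) → e ∈ Z) → ∃ n : ℕ, Nat.card E = p ^ (2 * n + 1) := by
  intro N
  induction N using Nat.strong_induction_on with
  | _ N ih =>
  intro E hN hZE hEZ hcomm hcen
  by_cases hEq : E = Z
  · exact ⟨0, by rw [hEq, hZ]; simp⟩
  obtain ⟨x, hxE, hxZ⟩ : ∃ x ∈ E, x ∉ Z := by
    by_contra hall
    push Not at hall
    exact hEq (le_antisymm hall hZE)
  obtain ⟨y, hyE, hxy⟩ : ∃ y ∈ E, x * y ≠ y * x := by
    by_contra hall
    push Not at hall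
    exact hxZ (hcen x hxE hall)
  set Cx : Subgroup G := E ⊓ Subgroup.centralizer {x} with hCx
  set E₁ : Subgroup G := Cx ⊓ Subgroup.centralizer {y} with hE₁
  have hCxE : Cx ≤ E := inf_le_left
  have hE₁Cx : E₁ ≤ Cx := inf_le_left
  have hE₁E : E₁ ≤ E := hE₁Cx.trans hCxE
  have hxCx : x ∈ Cx := by
    refine Subgroup.mem_inf.2 ⟨hxE, ?_⟩
    rw [Subgroup.mem_centralizer_iff]
    intro w hw
    rw [Set.mem_singleton_iff] at hw
    rw [hw]
  have hc1 : Nat.card Cx * p = Nat.card E := by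
    apply h8_card_centralizer_mul_prime hp E Z hZ x (fun b hb => hcomm x hxE b hb) hEZ
    intro hc
    exact hxy ((Subgroup.mem_centralizer_iff.1 hc y hyE).symm)
  have hc2 : Nat.card E₁ * p = Nat.card Cx := by
    apply h8_card_centralizer_mul_prime hp Cx Z hZ y (fun b hb => hcomm y hyE b (hCxE hb))
      (fun b hb => hEZ b (hCxE hb))
    intro hc
    exact hxy (Subgroup.mem_centralizer_iff.1 hc x hxCx)
  have hmemE₁ : ∀ g, g ∈ E₁ ↔ g ∈ E ∧ x * g = g * x ∧ y * g = g * y := by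
    intro g
    rw [hE₁, hCx, Subgroup.mem_inf, Subgroup.mem_inf, Subgroup.mem_centralizer_iff,
      Subgroup.mem_centralizer_iff]
    simp only [Set.mem_singleton_iff, forall_eq, and_assoc]
  have hZE₁ : Z ≤ E₁ := by
    intro z hz
    rw [hmemE₁]
    exact ⟨hZE hz, hEZ x hxE z hz, hEZ y hyE z hz⟩
  have hcen₁ : ∀ e ∈ E₁, (∀ e' ∈ E₁, e * e' = e' * e) → e ∈ Z := by
    intro e he hecomm
    obtain ⟨heE, hex, hey⟩ := (hmemE₁ e).1 he
    apply hcen e heE
    set C : Subgroup G := E ⊓ Subgroup.centralizer {e} with hC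
    have hmemC : ∀ g, g ∈ C ↔ g ∈ E ∧ e * g = g * e := by
      intro g
      rw [hC, Subgroup.mem_inf, Subgroup.mem_centralizer_iff]
      simp only [Set.mem_singleton_iff, forall_eq]
    have hE₁C : E₁ ≤ C := fun g hg => (hmemC g).2 ⟨hE₁E hg, hecomm g hg⟩
    have hxC : x ∈ C := (hmemC x).2 ⟨hxE, hex.symm⟩
    have hyC : y ∈ C := (hmemC y).2 ⟨hyE, hey.symm⟩
    -- C ⊓ Cx = Cx
    have hK : C ⊓ Cx = Cx := by
      apply h8_eq_of_card_mul_prime hp (le_inf hE₁C hE₁Cx) inf_le_right _ hc2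
      intro heq
      have hx1 : x ∈ E₁ := by rw [heq]; exact Subgroup.mem_inf.2 ⟨hxC, hxCx⟩
      exact hxy (((hmemE₁ x).1 hx1).2.2).symm
    have hCxC : Cx ≤ C := inf_eq_right.1 hK
    have hCE : C = E := by
      apply h8_eq_of_card_mul_prime hp hCxC inf_le_left _ hc1
      intro heq
      have hy1 : y ∈ Cx := by rw [heq]; exact hyC
      have hy2 := Subgroup.mem_centralizer_iff.1 (Subgroup.mem_inf.1 hy1).2 x (Set.mem_singleton x)
      exact hxy hy2
    intro e' he'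
    have h1 : e' ∈ C := by rw [hCE]; exact he'
    exact ((hmemC e').1 h1).2
  have hlt : Nat.card E₁ < N := by
    rw [← hN, ← hc1, ← hc2]
    have h1 : 0 < Nat.card E₁ := Nat.card_pos
    have h2 := hp.one_lt
    nlinarith
  obtain ⟨m, hm⟩ := ih _ hlt E₁ rfl hZE₁ (fun e he => hEZ e (hE₁E he))
    (fun a ha b hb => hcomm a (hE₁E ha) b (hE₁E hb)) hcen₁
  refine ⟨m + 1, ?_⟩
  rw [← hc1, ← hc2, hm]
  ring

/-- An extraspecial `p`-group has order `p ^ (2 n + 1)` with `n ≥ 1`. -/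
theorem h8_extraspecial_card {P : Type*} [Group P] [Finite P] {p : ℕ} [Fact p.Prime]
    (h : Cfsg.IsExtraspecial p P) : ∃ n : ℕ, 1 ≤ n ∧ Nat.card P = p ^ (2 * n + 1) := by
  have hp := (Fact.out : p.Prime)
  obtain ⟨⟨hPp, hfr, hcomm⟩, hZ⟩ := h
  obtain ⟨n, hn⟩ := h8_extraspecial_card_aux hp (Subgroup.center P) hZ _ (⊤ : Subgroup P) rfl le_top
    (fun e _ z hz => Subgroup.mem_center_iff.1 hz e)
    (fun a _ b _ => by
      rw [← hcomm, commutator_def]
      exact Subgroup.commutator_mem_commutator (Subgroup.mem_top a) (Subgroup.mem_top b))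
    (fun e _ he => Subgroup.mem_center_iff.2 (fun g => (he g (Subgroup.mem_top g)).symm))
  rw [Subgroup.card_top] at hn
  refine ⟨n, ?_, hn⟩
  by_contra h0
  have hn0 : n = 0 := by omega
  subst hn0
  have h1 : Subgroup.center P = ⊤ := by
    apply Subgroup.eq_top_of_card_eq
    rw [hZ, hn]; simp
  have h2 : commutator P = ⊥ := (commutator_eq_bot_iff_center_eq_top P).2 h1
  rw [hcomm] at h2
  rw [h2, Subgroup.card_bot] at hZ
  exact hp.ne_one hZ.symm

end Cfsg.Agent.Lib.Helper8
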