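import Mathlib
import Cfsg.Prelude.Def_Transfer
import Cfsg.Agent.Lib.Helper2.PGroup
import Cfsg.Agent.Lib.Helper6.Frattini

set_option autoImplicit false
universe u
namespace Cfsg.Agent.Lib.Helper8
open Cfsg
open scoped commutatorElement

section
variable {G : Type u} [Group G]

theorem h8_f2_elt [Finite G] (hG : IsPGroup 2 G) (hΦ : Nat.card (frattini G) = 2) :
    ∃ z : G, z ≠ 1 ∧ z * z = 1 ∧ z ∈ frattini G ∧ (∀ x ∈ frattini G, x = 1 ∨ x = z) ∧
      (∀ g : G, g * z = z * g) ∧ (∀ x : G, x * x = 1 ∨ x * x = z) ∧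
      (∀ x y : G, x * y = y * x ∨ x * y = z * (y * x)) := by
  obtain ⟨z', hz', huniq⟩ := (Nat.card_eq_two_iff' (1 : frattini G)).1 hΦ
  have hall : ∀ x ∈ frattini G, x = 1 ∨ x = (z' : G) := by
    intro x hx
    by_cases h1 : x = 1
    · exact Or.inl h1
    · right
      have := huniq ⟨x, hx⟩ (fun h => h1 (by simpa using congrArg Subtype.val h))
      simpa using congrArg Subtype.val this
  have hz1 : (z' : G) ≠ 1 := fun h => hz' (Subtype.ext h)
  have hzz : (z' : G) * z' = 1 := by
    rcases hall _ ((frattini G).mul_mem z'.2 z'.2) with h | h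
    · exact h
    · exact absurd (mul_eq_left.1 h) hz1
  have hnorm : (frattini G).Normal := inferInstance
  have hzc : ∀ g : G, g * z' = z' * g := by
    intro g
    rcases hall _ (hnorm.conj_mem _ z'.2 g) with h | h
    · exact absurd (by simpa using h) hz1
    · have e : g * (z' : G) = (g * z' * g⁻¹) * g := by group
      rw [e, h]
  have : Fact (Nat.Prime 2) := ⟨Nat.prime_two⟩
  refine ⟨z', hz1, hzz, z'.2, hall, hzc, ?_, ?_⟩
  · intro x
    have := Cfsg.Agent.Lib.Helper2.pow_mem_frattini_of_pGroup hG x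
    rw [pow_two] at this
    exact hall _ this
  · intro x y
    have h1 : ⁅x, y⁆ ∈ commutator G :=
      Subgroup.commutator_mem_commutator (Subgroup.mem_top x) (Subgroup.mem_top y)
    have h2 := Cfsg.Agent.Lib.Helper2.commutator_le_frattini_of_pGroup hG h1
    rcases hall _ h2 with h | h
    · left
      exact (commutatorElement_eq_one_iff_commute.1 h).eq
    · right
      rw [← h, commutatorElement_def]; group

theorem h8_f2_not_central [Finite G] (hΦ : Nat.card (frattini G) = 2)
    (hall : ∀ w ∈ Subgroup.center G, w * w = 1) : Subgroup.center G ≠ ⊤ := by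
  intro htop
  have : Fact (Nat.Prime 2) := ⟨Nat.prime_two⟩
  have hc : ∀ a b : G, a * b = b * a := by
    intro a b
    have : b ∈ Subgroup.center G := by rw [htop]; trivial
    exact Subgroup.mem_center_iff.1 this a
  have hle : frattini G ≤ ⊥ := by
    apply Cfsg.Agent.Lib.Helper6.fr_le_of_elem_quotient (p := 2)
    · intro a b
      rw [Subgroup.mem_bot, hc a b]; group
    · intro a
      rw [Subgroup.mem_bot, pow_two]
      exact hall a (by rw [htop]; trivial)
  rw [le_bot_iff.1 hle] at hΦ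
  simp at hΦ

variable [Fintype G] [DecidableEq G]

/-- sign of the square -/
def h8_f2s (x : G) : ℤ := if x * x = 1 then 1 else -1

/-- sign of the commutator -/
def h8_f2b (x w : G) : ℤ := if x * w = w * x then 1 else -1

theorem h8_f2_key (z : G) (hz1 : z ≠ 1) (hzz : z * z = 1) (hzc : ∀ g : G, g * z = z * g)
    (hsq : ∀ x : G, x * x = 1 ∨ x * x = z)
    (hcomm : ∀ x y : G, x * y = y * x ∨ x * y = z * (y * x))
    (x w : G) : h8_f2s x * h8_f2s (x * w) = h8_f2s w * h8_f2b x w := by
  have hprod : (x * w) * (x * w) = (if x * w = w * x then 1 else z) * ((x * x) * (w * w)) := by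
    rcases hcomm x w with h | h
    · rw [if_pos h]
      calc x * w * (x * w) = x * (w * x) * w := by group
        _ = x * (x * w) * w := by rw [h]
        _ = _ := by group
    · have hne : x * w ≠ w * x := by
        intro h'
        rw [h'] at h
        exact hz1 (by simpa using h.symm)
      rw [if_neg hne]
      have h' : w * x = z * (x * w) := by rw [h, ← mul_assoc, hzz, one_mul]
      calc x * w * (x * w) = x * (w * x) * w := by group
        _ = x * (z * (x * w)) * w := by rw [h']
        _ = (x * z) * (x * w * w) := by group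
        _ = (z * x) * (x * w * w) := by rw [hzc x]
        _ = _ := by group
  unfold h8_f2s h8_f2b
  rw [hprod]
  by_cases hc : x * w = w * x
  · simp only [if_pos hc, one_mul, mul_one]
    rcases hsq x with hx | hx <;> rcases hsq w with hw | hw
    · simp [hx, hw]
    · simp [hx, hw, hz1]
    · simp [hx, hw, hz1]
    · simp [hx, hw, hz1, hzz]
  · simp only [if_neg hc]
    rcases hsq x with hx | hx <;> rcases hsq w with hw | hw
    · simp [hx, hw, hz1]
    · simp [hx, hw, hz1, hzz]
    · simp [hx, hw, hz1, hzz]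
    · simp [hx, hw, hz1, hzz]

theorem h8_f2_b_neg (z : G) (hz1 : z ≠ 1) (hzz : z * z = 1) (hzc : ∀ g : G, g * z = z * g)
    (hcomm : ∀ x y : G, x * y = y * x ∨ x * y = z * (y * x))
    (g w : G) (hg : g * w ≠ w * g) (x : G) : h8_f2b (g * x) w = - h8_f2b x w := by
  have hgw : g * w = z * (w * g) := (hcomm g w).resolve_left hg
  unfold h8_f2b
  rcases hcomm x w with h | h
  · have hne : g * x * w ≠ w * (g * x) := by
      intro h'
      apply hg
      have : g * w * x = w * g * x := by
        rw [mul_assoc g w x, ← h, ← mul_assoc, h', mul_assoc]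
      exact mul_right_cancel this
    rw [if_neg hne, if_pos h]
  · have hne : x * w ≠ w * x := by
      intro h'
      rw [h'] at h
      exact hz1 (by simpa using h.symm)
    have : g * x * w = w * (g * x) := by
      calc g * x * w = g * (x * w) := by group
        _ = g * (z * (w * x)) := by rw [h]
        _ = (g * z) * w * x := by group
        _ = (z * g) * w * x := by rw [hzc g]
        _ = z * (g * w) * x := by group
        _ = z * (z * (w * g)) * x := by rw [hgw]
        _ = (z * z) * (w * (g * x)) := by group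
        _ = _ := by rw [hzz, one_mul]
    rw [if_pos this, if_neg hne]; simp

theorem h8_f2_b_sum (z : G) (hz1 : z ≠ 1) (hzz : z * z = 1) (hzc : ∀ g : G, g * z = z * g)
    (hcomm : ∀ x y : G, x * y = y * x ∨ x * y = z * (y * x)) (w : G) :
    ∑ x : G, h8_f2b x w = if w ∈ Subgroup.center G then (Fintype.card G : ℤ) else 0 := by
  by_cases hw : w ∈ Subgroup.center G
  · rw [if_pos hw]
    have : ∀ x : G, h8_f2b x w = 1 := by
      intro x
      unfold h8_f2b
      rw [if_pos]
      exact Subgroup.mem_center_iff.1 hw x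
    simp [this]
  · rw [if_neg hw]
    have : ∃ g : G, g * w ≠ w * g := by
      by_contra hcon
      push Not at hcon
      exact hw (Subgroup.mem_center_iff.2 hcon)
    obtain ⟨g, hg⟩ := this
    have h1 : ∑ x : G, h8_f2b x w = ∑ x : G, h8_f2b (g * x) w :=
      (Fintype.sum_equiv (Equiv.mulLeft g) (fun x => h8_f2b (g * x) w) (fun x => h8_f2b x w)
        (fun x => rfl)).symm
    have h2 : ∑ x : G, h8_f2b (g * x) w = - ∑ x : G, h8_f2b x w := by
      rw [← Finset.sum_neg_distrib]
      exact Finset.sum_congr rfl (fun x _ => h8_f2_b_neg z hz1 hzz hzc hcomm g w hg x)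
    linarith

theorem h8_f2_sq (z : G) (hz1 : z ≠ 1) (hzz : z * z = 1) (hzc : ∀ g : G, g * z = z * g)
    (hsq : ∀ x : G, x * x = 1 ∨ x * x = z)
    (hcomm : ∀ x y : G, x * y = y * x ∨ x * y = z * (y * x)) :
    (∑ x : G, h8_f2s x) * (∑ x : G, h8_f2s x) =
      (Fintype.card G : ℤ) * ∑ w : G, (if w ∈ Subgroup.center G then h8_f2s w else 0) := by
  calc (∑ x : G, h8_f2s x) * (∑ x : G, h8_f2s x)
      = ∑ x : G, ∑ y : G, h8_f2s x * h8_f2s y := by rw [Finset.sum_mul_sum]
    _ = ∑ x : G, ∑ w : G, h8_f2s x * h8_f2s (x * w) := by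
        refine Finset.sum_congr rfl (fun x _ => ?_)
        exact (Fintype.sum_equiv (Equiv.mulLeft x) (fun w => h8_f2s x * h8_f2s (x * w))
          (fun y => h8_f2s x * h8_f2s y) (fun w => rfl)).symm
    _ = ∑ x : G, ∑ w : G, h8_f2s w * h8_f2b x w := by
        refine Finset.sum_congr rfl (fun x _ => Finset.sum_congr rfl (fun w _ => ?_))
        exact h8_f2_key z hz1 hzz hzc hsq hcomm x w
    _ = ∑ w : G, ∑ x : G, h8_f2s w * h8_f2b x w := Finset.sum_comm
    _ = ∑ w : G, h8_f2s w * (if w ∈ Subgroup.center G then (Fintype.card G : ℤ) else 0) := by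
        refine Finset.sum_congr rfl (fun w _ => ?_)
        rw [← Finset.mul_sum, h8_f2_b_sum z hz1 hzz hzc hcomm w]
    _ = _ := by
        rw [Finset.mul_sum]
        refine Finset.sum_congr rfl (fun w _ => ?_)
        split_ifs <;> ring

theorem h8_f2_center_sum (z : G) (hz1 : z ≠ 1) (hzz : z * z = 1) (hzc : ∀ g : G, g * z = z * g)
    (hsq : ∀ x : G, x * x = 1 ∨ x * x = z)
    (hcomm : ∀ x y : G, x * y = y * x ∨ x * y = z * (y * x)) :
    (∑ w : G, (if w ∈ Subgroup.center G then h8_f2s w else 0) = 0) ∨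
    ((∀ w ∈ Subgroup.center G, w * w = 1) ∧
      ∑ w : G, (if w ∈ Subgroup.center G then h8_f2s w else 0)
        = (Nat.card (Subgroup.center G) : ℤ)) := by
  by_cases hall : ∀ w ∈ Subgroup.center G, w * w = 1
  · right
    refine ⟨hall, ?_⟩
    have : ∀ w : G, (if w ∈ Subgroup.center G then h8_f2s w else 0)
        = (if w ∈ Subgroup.center G then (1:ℤ) else 0) := by
      intro w
      split_ifs with h
      · unfold h8_f2s; rw [if_pos (hall w h)]
      · rfl
    rw [Finset.sum_congr rfl (fun w _ => this w), Finset.sum_boole]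
    rw [Nat.card_eq_fintype_card, Fintype.card_subtype]
  · left
    push Not at hall
    obtain ⟨u, hu, hu1⟩ := hall
    have huc : ∀ x, x * u = u * x := Subgroup.mem_center_iff.1 hu
    have hfu : h8_f2s u = -1 := by unfold h8_f2s; rw [if_neg hu1]
    have hkey : ∀ w : G, (if u * w ∈ Subgroup.center G then h8_f2s (u * w) else 0)
        = - (if w ∈ Subgroup.center G then h8_f2s w else 0) := by
      intro w
      have hiff : u * w ∈ Subgroup.center G ↔ w ∈ Subgroup.center G :=
        Subgroup.mul_mem_cancel_left _ hu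
      have hk := h8_f2_key z hz1 hzz hzc hsq hcomm u w
      have hb : h8_f2b u w = 1 := by unfold h8_f2b; rw [if_pos (huc w).symm]
      rw [hfu, hb] at hk
      by_cases hw : w ∈ Subgroup.center G
      · rw [if_pos (hiff.2 hw), if_pos hw]; linarith
      · rw [if_neg (fun h => hw (hiff.1 h)), if_neg hw]; simp
    have h1 : ∑ w : G, (if w ∈ Subgroup.center G then h8_f2s w else 0)
        = ∑ w : G, (if u * w ∈ Subgroup.center G then h8_f2s (u * w) else 0) :=
      (Fintype.sum_equiv (Equiv.mulLeft u)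
        (fun w => if u * w ∈ Subgroup.center G then h8_f2s (u * w) else 0)
        (fun w => if w ∈ Subgroup.center G then h8_f2s w else 0) (fun w => rfl)).symm
    have h2 : ∑ w : G, (if u * w ∈ Subgroup.center G then h8_f2s (u * w) else 0)
        = - ∑ w : G, (if w ∈ Subgroup.center G then h8_f2s w else 0) := by
      rw [← Finset.sum_neg_distrib]
      exact Finset.sum_congr rfl (fun w _ => hkey w)
    linarith

theorem h8_f2_sum_eq :
    ∑ x : G, h8_f2s x = 2 * (Nat.card {x : G // x ^ 2 = 1} : ℤ) - (Fintype.card G : ℤ) := by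
  have : ∀ x : G, h8_f2s x = 2 * (if x ^ 2 = 1 then (1:ℤ) else 0) - 1 := by
    intro x
    unfold h8_f2s
    rw [pow_two]
    split_ifs <;> norm_num
  rw [Finset.sum_congr rfl (fun x _ => this x), Finset.sum_sub_distrib, ← Finset.mul_sum,
    Finset.sum_boole]
  rw [Nat.card_eq_fintype_card, Fintype.card_subtype]
  simp

end

theorem h8_f2_arith (j d c : ℕ)
    (h : (2 * (j:ℤ) - 2 ^ (d+1)) * (2 * (j:ℤ) - 2 ^ (d+1)) = 2 ^ (d+1) * 2 ^ c)
    (hc1 : 1 ≤ c) (hcd : c ≤ d) :
    ∃ r : ℕ, 1 ≤ r ∧ 2 * r ≤ d ∧ (j = 2 ^ d + 2 ^ (d - r) ∨ j + 2 ^ (d - r) = 2 ^ d) := by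
  obtain ⟨a, ha⟩ : ∃ a : ℕ, a = (2 * (j:ℤ) - 2 ^ (d+1)).natAbs := ⟨_, rfl⟩
  have ha2 : a * a = 2 ^ (d + 1 + c) := by
    have : ((a * a : ℕ) : ℤ) = ((2 ^ (d + 1 + c) : ℕ) : ℤ) := by
      rw [ha, Int.natAbs_mul_self, h]
      push_cast
      ring
    exact_mod_cast this
  have hdvd : a ∣ 2 ^ (d+1+c) := Dvd.intro _ ha2
  obtain ⟨m, hm, ham⟩ := (Nat.dvd_prime_pow Nat.prime_two).1 hdvd
  rw [ham, ← pow_add] at ha2
  have hmm : m + m = d + 1 + c := Nat.pow_right_injective (le_refl 2) ha2
  obtain ⟨m', rfl⟩ : ∃ m', m = m' + 1 := ⟨m - 1, by omega⟩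
  have hdr : d - (d - m') = m' := by omega
  refine ⟨d - m', by omega, by omega, ?_⟩
  rw [hdr]
  rcases Int.natAbs_eq (2 * (j:ℤ) - 2 ^ (d+1)) with h1 | h1
  · left
    rw [← ha, ham] at h1
    push_cast at h1
    rw [pow_succ, pow_succ] at h1
    have : (j:ℤ) = 2 ^ d + 2 ^ m' := by linarith
    exact_mod_cast this
  · right
    rw [← ha, ham] at h1
    push_cast at h1
    rw [pow_succ, pow_succ] at h1
    have : (j:ℤ) + 2 ^ m' = 2 ^ d := by linarith
    exact_mod_cast this

theorem h8_f2_main {G : Type u} [Group G] [Finite G] (hG : IsPGroup 2 G)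
    (hΦ : Nat.card (frattini G) = 2) (d : ℕ) (hd : (frattini G).index = 2 ^ d) :
    (Nat.card {x : G // x ^ 2 = 1} = 2 ^ d ∨ ∃ r : ℕ, 1 ≤ r ∧ 2 * r ≤ d ∧
      (Nat.card {x : G // x ^ 2 = 1} = 2 ^ d + 2 ^ (d - r) ∨
        Nat.card {x : G // x ^ 2 = 1} + 2 ^ (d - r) = 2 ^ d)) ∧
    (∀ r : ℕ, d = 2 * r → (Nat.card {x : G // x ^ 2 = 1} = 2 ^ d + 2 ^ r ∨
        Nat.card {x : G // x ^ 2 = 1} + 2 ^ r = 2 ^ d) → Cfsg.IsExtraspecial 2 G) := by
  classical
  have hfin := Fintype.ofFinite G
  have h2 : Fact (Nat.Prime 2) := ⟨Nat.prime_two⟩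
  obtain ⟨z, hz1, hzz, hzΦ, hall, hzc, hsq, hcomm⟩ := h8_f2_elt hG hΦ
  obtain ⟨j, hj⟩ : ∃ j : ℕ, j = Nat.card {x : G // x ^ 2 = 1} := ⟨_, rfl⟩
  rw [← hj]
  have hS : ∑ x : G, h8_f2s x = 2 * (j : ℤ) - (Fintype.card G : ℤ) := by
    rw [hj]; exact h8_f2_sum_eq
  have hsq2 := h8_f2_sq z hz1 hzz hzc hsq hcomm
  have hcardN : Nat.card G = 2 ^ (d + 1) := by
    rw [← Subgroup.card_mul_index (frattini G), hΦ, hd, pow_succ, mul_comm]
  have hcard : (Fintype.card G : ℤ) = 2 ^ (d + 1) := by
    rw [← Nat.card_eq_fintype_card, hcardN]; push_cast; rfl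
  rw [hS, hcard] at hsq2
  have hΦZ : frattini G ≤ Subgroup.center G := by
    intro x hx
    rcases hall x hx with h | h
    · rw [h]; exact Subgroup.one_mem _
    · rw [h]; exact Subgroup.mem_center_iff.2 hzc
  rcases h8_f2_center_sum z hz1 hzz hzc hsq hcomm with hT | ⟨hall2, hT⟩
  · rw [hT, mul_zero] at hsq2
    have h0 : 2 * (j : ℤ) - 2 ^ (d + 1) = 0 := by simpa using hsq2
    have hjd : (j : ℤ) = 2 ^ d := by rw [pow_succ] at h0; linarith
    have hjd' : j = 2 ^ d := by exact_mod_cast hjd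
    refine ⟨Or.inl hjd', ?_⟩
    intro r _ hjr
    have : 0 < 2 ^ r := by positivity
    omega
  · obtain ⟨c, hc⟩ := (hG.to_subgroup (Subgroup.center G)).exists_card_eq
    have hc1 : 1 ≤ c := by
      have h1 := Subgroup.card_le_of_le hΦZ
      rw [hΦ, hc] at h1
      by_contra hcon
      have : c = 0 := by omega
      rw [this] at h1
      norm_num at h1
    have hcd1 : c ≤ d + 1 := by
      have h1 := Subgroup.card_subgroup_dvd_card (Subgroup.center G)
      rw [hc, hcardN] at h1
      exact (Nat.pow_dvd_pow_iff_le_right (by norm_num)).1 h1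
    have hnc := h8_f2_not_central hΦ hall2
    have hcd : c ≤ d := by
      by_contra hcon
      have hceq : c = d + 1 := by omega
      apply hnc
      apply Subgroup.eq_top_of_card_eq
      rw [hc, hcardN, hceq]
    rw [hT, hc] at hsq2
    push_cast at hsq2
    refine ⟨Or.inr (h8_f2_arith j d c hsq2 hc1 hcd), ?_⟩
    intro r hdr hjr
    have hsq3 : (2 * (j:ℤ) - 2 ^ (d+1)) * (2 * (j:ℤ) - 2 ^ (d+1)) = 2 ^ (d + 1) * 2 ^ 1 := by
      have e1 : (2:ℤ) ^ (d + 1) = 2 * 2 ^ d := by rw [pow_succ]; ring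
      have e2 : (2:ℤ) ^ d = 2 ^ r * 2 ^ r := by rw [hdr, two_mul, pow_add]
      rcases hjr with h | h
      · have : (j:ℤ) = 2 ^ d + 2 ^ r := by exact_mod_cast h
        rw [this, e1, e2]; ring
      · have : (j:ℤ) + 2 ^ r = 2 ^ d := by exact_mod_cast h
        have hj' : (j:ℤ) = 2 ^ d - 2 ^ r := by linarith
        rw [hj', e1, e2]; ring
    rw [hsq3] at hsq2
    have hc1' : c = 1 := by
      have h3 : (2:ℤ) ^ (d + 1) ≠ 0 := by positivity
      have h4 := mul_left_cancel₀ h3 hsq2
      have h5 : (2:ℕ) ^ 1 = 2 ^ c := by exact_mod_cast h4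
      exact (Nat.pow_right_injective (le_refl 2) h5).symm
    rw [hc1', pow_one] at hc
    have hΦZeq : frattini G = Subgroup.center G :=
      Subgroup.eq_of_le_of_card_ge hΦZ (by rw [hc, hΦ])
    have hcomZ : commutator G = Subgroup.center G := by
      apply le_antisymm
      · rw [← hΦZeq]; exact Cfsg.Agent.Lib.Helper2.commutator_le_frattini_of_pGroup hG
      · rw [← hΦZeq]
        have hex : ∃ x y : G, x * y ≠ y * x := by
          by_contra hcon
          push Not at hcon
          apply hnc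
          rw [eq_top_iff]
          intro w _
          exact Subgroup.mem_center_iff.2 (fun g => hcon g w)
        obtain ⟨x, y, hxy⟩ := hex
        have hxy2 : x * y = z * (y * x) := (hcomm x y).resolve_left hxy
        have hzcomm : z ∈ commutator G := by
          have h1 : ⁅x, y⁆ ∈ commutator G :=
            Subgroup.commutator_mem_commutator (Subgroup.mem_top x) (Subgroup.mem_top y)
          have h2 : ⁅x, y⁆ = z := by
            rw [commutatorElement_def, hxy2]; group
          rwa [h2] at h1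
        intro w hw
        rcases hall w hw with h | h
        · rw [h]; exact Subgroup.one_mem _
        · rw [h]; exact hzcomm
    exact ⟨⟨hG, hΦZeq, hcomZ⟩, hc⟩

end Cfsg.Agent.Lib.Helper8
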