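import Mathlib

set_option autoImplicit false
set_option linter.style.haveILetI false
set_option linter.unusedSectionVars false

universe u

namespace Cfsg.Agent.Lib.Helper8

open Matrix

section
variable {F : Type u} [Field F]

/-- scalar matrices in `GL₂` -/
noncomputable def h8scal (a : Fˣ) : GL (Fin 2) F := Matrix.GeneralLinearGroup.scalar (Fin 2) a

theorem h8scal_val (a : Fˣ) :
    ((h8scal a : GL (Fin 2) F) : Matrix (Fin 2) (Fin 2) F) = !![(a : F), 0; 0, (a : F)] := by
  unfold h8scal
  rw [Matrix.GeneralLinearGroup.coe_scalar]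
  ext i j; fin_cases i <;> fin_cases j <;> simp [Matrix.scalar_apply]

theorem h8scal_injective : Function.Injective (h8scal (F := F)) := by
  intro a b hab
  have h1 := congrArg (fun g : GL (Fin 2) F => (g : Matrix (Fin 2) (Fin 2) F) 0 0) hab
  simp only [h8scal_val] at h1
  exact Units.ext (by simpa using h1)

theorem h8scal_comm (a : Fˣ) (c : GL (Fin 2) F) : c * h8scal a = h8scal a * c :=
  (Matrix.GeneralLinearGroup.scalar_commute a c).symm

/-- companion matrices -/
def h8comp (t : F) (d : Fˣ) : GL (Fin 2) F :=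
  Matrix.GeneralLinearGroup.mkOfDetNeZero !![0, -(d : F); 1, t]
    (by rw [Matrix.det_fin_two_of]; simp)

theorem h8comp_val (t : F) (d : Fˣ) :
    ((h8comp t d : GL (Fin 2) F) : Matrix (Fin 2) (Fin 2) F) = !![0, -(d : F); 1, t] := rfl

theorem h8_ch_identity (a b c d v0 v1 : F) :
    !![a, b; c, d] * !![v0, a * v0 + b * v1; v1, c * v0 + d * v1]
      = !![v0, a * v0 + b * v1; v1, c * v0 + d * v1] * !![0, -(a * d - b * c); 1, a + d] := by
  ext i j; fin_cases i <;> fin_cases j <;> simp [Matrix.mul_apply, Fin.sum_univ_two] <;> ring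

theorem h8_conj_companion (g : GL (Fin 2) F) (hg : ¬ ∃ a : Fˣ, g = h8scal a) :
    IsConj g (h8comp (Matrix.trace (g : Matrix (Fin 2) (Fin 2) F))
      (Matrix.GeneralLinearGroup.det g)) := by
  obtain ⟨a, b, c, d, hgm⟩ : ∃ a b c d : F, (g : Matrix (Fin 2) (Fin 2) F) = !![a, b; c, d] :=
    ⟨_, _, _, _, Matrix.eta_fin_two _⟩
  have hdet : ((Matrix.GeneralLinearGroup.det g : Fˣ) : F) = a * d - b * c := by
    rw [Matrix.GeneralLinearGroup.val_det_apply, hgm, Matrix.det_fin_two_of]
  have htr : Matrix.trace (g : Matrix (Fin 2) (Fin 2) F) = a + d := by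
    rw [hgm, Matrix.trace_fin_two_of]
  have hv : ∃ v0 v1 : F, v0 * (c * v0 + d * v1) - (a * v0 + b * v1) * v1 ≠ 0 := by
    by_cases hc : c = 0
    · by_cases hb : b = 0
      · have had : a ≠ d := by
          intro had
          apply hg
          have ha0 : a ≠ 0 := by
            intro ha0
            have h0 := (Matrix.GeneralLinearGroup.det g).ne_zero
            rw [hdet, hc, hb, ha0] at h0; simp at h0
          refine ⟨Units.mk0 a ha0, Units.ext ?_⟩
          rw [h8scal_val, hgm, hb, hc, ← had]; rfl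
        refine ⟨1, 1, ?_⟩
        rw [hc, hb]; intro h0; apply had; linear_combination -h0
      · refine ⟨0, 1, ?_⟩
        simp [hb]
    · refine ⟨1, 0, ?_⟩
      simp [hc]
  obtain ⟨v0, v1, hv⟩ := hv
  let P : GL (Fin 2) F := Matrix.GeneralLinearGroup.mkOfDetNeZero
    !![v0, a * v0 + b * v1; v1, c * v0 + d * v1] (by rw [Matrix.det_fin_two_of]; exact hv)
  have hk : g * P = P * h8comp (Matrix.trace (g : Matrix (Fin 2) (Fin 2) F))
      (Matrix.GeneralLinearGroup.det g) := by
    apply Units.ext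
    rw [Units.val_mul, Units.val_mul, h8comp_val, htr, hdet, hgm]
    exact h8_ch_identity a b c d v0 v1
  rw [isConj_iff]
  refine ⟨P⁻¹, ?_⟩
  rw [inv_inv, mul_assoc, hk, inv_mul_cancel_left]

open Classical in
/-- the classifying invariant -/
noncomputable def h8Psi (g : GL (Fin 2) F) : Fˣ ⊕ (F × Fˣ) :=
  if h : ∃ a : Fˣ, g = h8scal a then Sum.inl (Classical.choose h)
  else Sum.inr (Matrix.trace (g : Matrix (Fin 2) (Fin 2) F), Matrix.GeneralLinearGroup.det g)

theorem h8Psi_scal (a : Fˣ) : h8Psi (h8scal a) = Sum.inl a := by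
  have h : ∃ b : Fˣ, h8scal a = h8scal b := ⟨a, rfl⟩
  unfold h8Psi
  rw [dif_pos h]
  congr 1
  exact (h8scal_injective (Classical.choose_spec h)).symm

theorem h8Psi_nonscal (g : GL (Fin 2) F) (h : ¬ ∃ a : Fˣ, g = h8scal a) :
    h8Psi g = Sum.inr (Matrix.trace (g : Matrix (Fin 2) (Fin 2) F),
      Matrix.GeneralLinearGroup.det g) := by
  unfold h8Psi; rw [dif_neg h]

theorem h8Psi_conj (c g : GL (Fin 2) F) : h8Psi (c * g * c⁻¹) = h8Psi g := by
  by_cases h : ∃ a : Fˣ, g = h8scal a
  · obtain ⟨a, rfl⟩ := h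
    have e : c * h8scal a * c⁻¹ = h8scal a := by
      rw [h8scal_comm, mul_assoc, mul_inv_cancel, mul_one]
    rw [e]
  · have h' : ¬ ∃ a : Fˣ, c * g * c⁻¹ = h8scal a := by
      rintro ⟨a, ha⟩
      apply h
      refine ⟨a, ?_⟩
      have e : g = c⁻¹ * (c * g * c⁻¹) * c := by group
      rw [e, ha, mul_assoc, ← h8scal_comm, inv_mul_cancel_left]
    rw [h8Psi_nonscal _ h', h8Psi_nonscal _ h]
    have htr : Matrix.trace ((c * g * c⁻¹ : GL (Fin 2) F) : Matrix (Fin 2) (Fin 2) F)
        = Matrix.trace (g : Matrix (Fin 2) (Fin 2) F) := by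
      rw [Units.val_mul, Matrix.trace_mul_comm, ← Units.val_mul, ← mul_assoc, inv_mul_cancel,
        one_mul]
    have hdet : Matrix.GeneralLinearGroup.det (c * g * c⁻¹) = Matrix.GeneralLinearGroup.det g := by
      rw [map_mul, map_mul, map_inv, mul_inv_cancel_comm]
    rw [htr, hdet]

theorem h8_card_conjClasses_GL2 [Fintype F] :
    Nat.card (ConjClasses (GL (Fin 2) F)) = Fintype.card F ^ 2 - 1 := by
  classical
  let f : ConjClasses (GL (Fin 2) F) → Fˣ ⊕ (F × Fˣ) :=
    Quotient.lift h8Psi (by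
      intro g h hgh
      obtain ⟨c, rfl⟩ := isConj_iff.mp hgh
      exact (h8Psi_conj c g).symm)
  have hinj : Function.Injective f := by
    intro x y hxy
    induction x using Quotient.inductionOn with | _ g =>
    induction y using Quotient.inductionOn with | _ h =>
    change h8Psi g = h8Psi h at hxy
    apply Quotient.sound
    show IsConj g h
    by_cases hg : ∃ a : Fˣ, g = h8scal a
    · obtain ⟨a, rfl⟩ := hg
      rw [h8Psi_scal] at hxy
      by_cases hh : ∃ b : Fˣ, h = h8scal b
      · obtain ⟨b, rfl⟩ := hh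
        rw [h8Psi_scal] at hxy
        rw [Sum.inl.inj hxy]
      · rw [h8Psi_nonscal _ hh] at hxy; exact absurd hxy (by simp)
    · rw [h8Psi_nonscal _ hg] at hxy
      by_cases hh : ∃ b : Fˣ, h = h8scal b
      · obtain ⟨b, rfl⟩ := hh
        rw [h8Psi_scal] at hxy; exact absurd hxy (by simp)
      · rw [h8Psi_nonscal _ hh] at hxy
        have h1 := Sum.inr.inj hxy
        have e1 := (Prod.mk.inj h1).1
        have e2 := (Prod.mk.inj h1).2
        have c1 := h8_conj_companion g hg
        have c2 := h8_conj_companion h hh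
        rw [e1, e2] at c1
        exact c1.trans c2.symm
  have hsurj : Function.Surjective f := by
    rintro (a | ⟨t, d⟩)
    · exact ⟨ConjClasses.mk (h8scal a), h8Psi_scal a⟩
    · refine ⟨ConjClasses.mk (h8comp t d), ?_⟩
      show h8Psi (h8comp t d) = _
      have hns : ¬ ∃ a : Fˣ, h8comp t d = h8scal a := by
        rintro ⟨a, ha⟩
        have h1 := congrArg (fun g : GL (Fin 2) F => (g : Matrix (Fin 2) (Fin 2) F) 1 0) ha
        simp [h8comp_val, h8scal_val] at h1
      rw [h8Psi_nonscal _ hns]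
      have e1 : Matrix.trace ((h8comp t d : GL (Fin 2) F) : Matrix (Fin 2) (Fin 2) F) = t := by
        rw [h8comp_val, Matrix.trace_fin_two_of, zero_add]
      have e2 : Matrix.GeneralLinearGroup.det (h8comp t d) = d := by
        apply Units.ext
        rw [Matrix.GeneralLinearGroup.val_det_apply, h8comp_val, Matrix.det_fin_two_of]
        ring
      rw [e1, e2]
  rw [Nat.card_congr (Equiv.ofBijective f ⟨hinj, hsurj⟩), Nat.card_sum, Nat.card_prod,
    Nat.card_units, Nat.card_eq_fintype_card]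
  obtain ⟨k, hk⟩ : ∃ k, Fintype.card F = k + 1 :=
    ⟨Fintype.card F - 1, by have := Fintype.card_pos (α := F); omega⟩
  rw [hk, Nat.add_sub_cancel]
  symm
  apply Nat.sub_eq_of_eq_add
  ring

end

end Cfsg.Agent.Lib.Helper8
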