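import Mathlib
import Cfsg.Agent.Lib.Helper8.CoprimeOmega
import Cfsg.Agent.Lib.Helper8.SubgroupCount

set_option autoImplicit false
universe u
namespace Cfsg.Agent.Lib.Helper8

section
variable {X : Type u} [Group X] [Finite X]

/-- one-sided invariance under conjugation gives two-sided invariance (finite group) -/
theorem h8_conj_mem_iff (a : X) (M : Subgroup X) (hM : ∀ x ∈ M, a * x * a⁻¹ ∈ M) (x : X) :
    a * x * a⁻¹ ∈ M ↔ x ∈ M := by
  refine ⟨fun h => ?_, hM x⟩
  let f : M → M := fun y => ⟨a * y.1 * a⁻¹, hM y.1 y.2⟩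
  have hinj : Function.Injective f := by
    intro y z hyz
    have h1 : a * y.1 * a⁻¹ = a * z.1 * a⁻¹ := congrArg Subtype.val hyz
    apply Subtype.ext
    exact mul_left_cancel (mul_right_cancel h1)
  obtain ⟨y, hy⟩ := Finite.surjective_of_injective hinj ⟨a * x * a⁻¹, h⟩
  have h1 : a * y.1 * a⁻¹ = a * x * a⁻¹ := congrArg Subtype.val hy
  have hxy : y.1 = x := mul_left_cancel (mul_right_cancel h1)
  rw [← hxy]; exact y.2

/-- an element of odd prime power order normalizing `M ≤ Q` with `|Q : M| = 2` fixes an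
element of `Q \ M` -/
theorem h8_fixed_in_diff (q : ℕ) [hq : Fact q.Prime] (hq2 : q ≠ 2) (a : X) (s : ℕ)
    (has : a ^ (q ^ s) = 1) (M Q : Subgroup X) (hMQ : M ≤ Q) (k : ℕ) (hM : Nat.card M = 2 ^ k)
    (hQ : Nat.card Q = 2 ^ (k + 1)) (hMinv : ∀ x ∈ M, a * x * a⁻¹ ∈ M)
    (hQinv : ∀ x ∈ Q, a * x * a⁻¹ ∈ Q) : ∃ y ∈ Q, y ∉ M ∧ a * y = y * a := by
  classical
  let S := {y : X // y ∈ ((Q : Set X) \ (M : Set X))}
  let f : Function.End S := fun y => ⟨a * y.1 * a⁻¹, hQinv y.1 y.2.1,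
    fun h => y.2.2 ((h8_conj_mem_iff a M hMinv y.1).1 h)⟩
  have hfk : ∀ i : ℕ, ∀ y : S, (((f ^ i) y : S) : X) = a ^ i * y.1 * (a ^ i)⁻¹ := by
    intro i
    induction i with
    | zero =>
      intro y
      rw [pow_zero, pow_zero, one_mul, inv_one, mul_one]
      rfl
    | succ i ih =>
      intro y
      have e0 : (f ^ (i + 1)) y = f ((f ^ i) y) := by rw [pow_succ']; rfl
      rw [e0]
      show a * (((f ^ i) y : S) : X) * a⁻¹ = _
      rw [ih, pow_succ']; group
  have hf : f ^ (q ^ s) = 1 := by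
    funext y
    apply Subtype.ext
    rw [hfk, has, one_mul, inv_one, mul_one]
    rfl
  have : Fintype S := Fintype.ofFinite S
  have hmod := Equiv.Perm.card_fixedPoints_modEq (f := f) (p := q) (n := s) hf
  have hS : Fintype.card S = 2 ^ k := by
    rw [← Nat.card_eq_fintype_card]
    have h1 : Nat.card S = ((Q : Set X) \ (M : Set X)).ncard := Nat.card_coe_set_eq _
    have hQ' : (Q : Set X).ncard = 2 ^ (k + 1) := by
      rw [← Nat.card_coe_set_eq]; exact hQ
    have hM' : (M : Set X).ncard = 2 ^ k := by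
      rw [← Nat.card_coe_set_eq]; exact hM
    rw [h1, Set.ncard_sdiff (show (M : Set X) ⊆ Q from hMQ), hQ', hM', pow_succ]
    omega
  have hne : Fintype.card (Function.fixedPoints f) ≠ 0 := by
    intro h0
    rw [hS, h0] at hmod
    have h1 : q ∣ 2 ^ k := (Nat.modEq_zero_iff_dvd).1 hmod
    have h2 := hq.out.dvd_of_dvd_pow h1
    exact hq2 ((Nat.prime_dvd_prime_iff_eq hq.out Nat.prime_two).1 h2)
  obtain ⟨⟨y, hy⟩⟩ := Fintype.card_pos_iff.1 (Nat.pos_of_ne_zero hne)
  refine ⟨y.1, y.2.1, y.2.2, ?_⟩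
  have h1 : a * y.1 * a⁻¹ = y.1 := congrArg Subtype.val hy
  calc a * y.1 = (a * y.1 * a⁻¹) * a := by group
    _ = y.1 * a := by rw [h1]

/-- subgroups of intermediate order inside a `p`-subgroup -/
theorem h8_exists_between (p : ℕ) [Fact p.Prime] (H P : Subgroup X) (hHP : H ≤ P) (n m : ℕ)
    (hH : Nat.card H = p ^ n) (hnm : n ≤ m) (hm : p ^ m ∣ Nat.card P) :
    ∃ K : Subgroup X, H ≤ K ∧ K ≤ P ∧ Nat.card K = p ^ m := by
  have h1 : Nat.card (H.subgroupOf P) = p ^ n := by
    rw [← hH]; exact Nat.card_congr (Subgroup.subgroupOfEquivOfLe hHP).toEquiv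
  obtain ⟨K', hK', hHK'⟩ := Sylow.exists_subgroup_card_pow_prime_le p (G := ↥P) hm
    (H.subgroupOf P) h1 hnm
  refine ⟨K'.map P.subtype, ?_, Subgroup.map_subtype_le K', ?_⟩
  · have := Subgroup.map_mono (f := P.subtype) hHK'
    rwa [Subgroup.map_subgroupOf_eq_of_le hHP] at this
  · rw [← hK']; exact Subgroup.card_subtype P K'

/-- Burnside-type: if `a` (odd prime power order) normalizes the `2`-group `Q` and all its
maximal subgroups, it centralizes `Q` -/
theorem h8_centralizes_of_max_inv (q : ℕ) [Fact q.Prime] (hq2 : q ≠ 2) (a : X) (s : ℕ)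
    (has : a ^ (q ^ s) = 1) (Q : Subgroup X) (k : ℕ) (hQ : Nat.card Q = 2 ^ (k + 1))
    (hQinv : ∀ x ∈ Q, a * x * a⁻¹ ∈ Q)
    (hmax : ∀ M : Subgroup X, M ≤ Q → Nat.card M = 2 ^ k → ∀ x ∈ M, a * x * a⁻¹ ∈ M) :
    ∀ x ∈ Q, a * x = x * a := by
  have h2 : Fact (Nat.Prime 2) := ⟨Nat.prime_two⟩
  have hQp : IsPGroup 2 Q := IsPGroup.of_card hQ
  obtain ⟨C, hCdef⟩ : ∃ C : Subgroup X, C = Q ⊓ Subgroup.centralizer {a} := ⟨_, rfl⟩
  have hCQ : C ≤ Q := by rw [hCdef]; exact inf_le_left
  by_cases hC : C = Q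
  · intro x hx
    have h1 : x ∈ C := by rw [hC]; exact hx
    rw [hCdef] at h1
    have h3 := (Subgroup.mem_inf.1 h1).2
    rw [Subgroup.mem_centralizer_singleton_iff] at h3
    exact h3.symm
  · exfalso
    obtain ⟨c, hc⟩ := (hQp.to_le hCQ).exists_card_eq
    have hck : c ≤ k := by
      have hlt : Nat.card C < Nat.card Q := by
        by_contra hcon
        exact hC (Subgroup.eq_of_le_of_card_ge hCQ (not_lt.1 hcon))
      rw [hc, hQ] at hlt
      have := (Nat.pow_lt_pow_iff_right (by norm_num : 1 < 2)).1 hlt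
      omega
    obtain ⟨M, hCM, hMQ, hM⟩ := h8_exists_between 2 C Q hCQ c k hc hck
      (by rw [hQ]; exact pow_dvd_pow 2 (Nat.le_succ k))
    obtain ⟨y, hyQ, hyM, hay⟩ := h8_fixed_in_diff q hq2 a s has M Q hMQ k hM hQ
      (hmax M hMQ hM) hQinv
    apply hyM
    apply hCM
    rw [hCdef]
    exact Subgroup.mem_inf.2 ⟨hyQ, by
      rw [Subgroup.mem_centralizer_singleton_iff]; exact hay.symm⟩

/-- an element of odd prime power order normalizing a cyclic `2`-group centralizes it -/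
theorem h8_centralizes_cyclic (q : ℕ) [Fact q.Prime] (hq2 : q ≠ 2) (a : X) (s : ℕ)
    (has : a ^ (q ^ s) = 1) (E : Subgroup X) (hE : IsCyclic E) (j : ℕ)
    (hEc : Nat.card E = 2 ^ j) (hEinv : ∀ x ∈ E, a * x * a⁻¹ ∈ E) :
    ∀ x ∈ E, a * x = x * a := by
  rcases Nat.eq_zero_or_pos j with rfl | hj
  · intro x hx
    have hbot : E = ⊥ := Subgroup.card_eq_one.1 (by simpa using hEc)
    rw [hbot, Subgroup.mem_bot] at hx
    rw [hx]; simp
  · obtain ⟨j', rfl⟩ : ∃ j', j = j' + 1 := ⟨j - 1, by omega⟩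
    apply h8_centralizes_of_max_inv q hq2 a s has E j' hEc hEinv
    intro M hME hM x hx
    obtain ⟨M', hM'def⟩ : ∃ M' : Subgroup X, M' = M.map (MulAut.conj a).toMonoidHom := ⟨_, rfl⟩
    have hM'E : M' ≤ E := by
      rw [hM'def]
      rintro _ ⟨y, hy, rfl⟩
      exact hEinv y (hME hy)
    have hM'c : Nat.card M' = Nat.card M := by
      rw [hM'def]; exact Subgroup.card_map_of_injective (MulAut.conj a).injective
    have heq : M.subgroupOf E = M'.subgroupOf E := by
      apply h8_cyclic_subgroup_eq_of_card_eq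
      rw [Nat.card_congr (Subgroup.subgroupOfEquivOfLe hME).toEquiv,
        Nat.card_congr (Subgroup.subgroupOfEquivOfLe hM'E).toEquiv, hM'c]
    have heq' : M = M' := by
      have := Subgroup.subgroupOf_inj.1 heq
      rwa [inf_eq_left.2 hME, inf_eq_left.2 hM'E] at this
    have hmem : a * x * a⁻¹ ∈ M' := by
      rw [hM'def]; exact ⟨x, hx, rfl⟩
    rwa [← heq'] at hmem

theorem h8_s3803_pp (q : ℕ) [hq : Fact q.Prime] (hq2 : q ≠ 2) (a : X) (s : ℕ)
    (has : a ^ (q ^ s) = 1)
    (P : Subgroup X) (hP : IsPGroup 2 P) (hPinv : ∀ x ∈ P, a * x * a⁻¹ ∈ P) (k : ℕ)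
    (hk1 : 1 ≤ k) (hkP : 2 ^ (k + 1) ∣ Nat.card P)
    (hinv : ∀ E : Subgroup X, E ≤ P → (Nat.card E = 2 ^ k ∨ (k = 1 ∧ Nat.card E = 4)) →
      ∀ x ∈ E, a * x * a⁻¹ ∈ E) :
    ∀ x ∈ P, a * x = x * a := by
  have h2 : Fact (Nat.Prime 2) := ⟨Nat.prime_two⟩
  have hqodd : Nat.Coprime (q ^ s) 2 := by
    apply Nat.Coprime.pow_left
    exact (Nat.coprime_primes hq.out Nat.prime_two).2 hq2
  apply h8_coprime_aut_omega 2 4 (by norm_num) (by decide) a (q ^ s) hqodd has (Nat.card P) P rfl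
    hP hPinv
  intro x hx hx4
  obtain ⟨j, hj, hj2⟩ : ∃ j, Nat.card (Subgroup.zpowers x) = 2 ^ j ∧ j ≤ 2 := by
    rw [Nat.card_zpowers]
    have hdvd : orderOf x ∣ 2 ^ 2 := orderOf_dvd_of_pow_eq_one (by norm_num; exact hx4)
    obtain ⟨j, hj, hjeq⟩ := (Nat.dvd_prime_pow Nat.prime_two).1 hdvd
    exact ⟨j, hjeq, hj⟩
  have hzP : Subgroup.zpowers x ≤ P := (Subgroup.zpowers_le).2 hx
  have hxz : x ∈ Subgroup.zpowers x := Subgroup.mem_zpowers x
  by_cases hk : k = 1
  · have hzinv : ∀ y ∈ Subgroup.zpowers x, a * y * a⁻¹ ∈ Subgroup.zpowers x := by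
      rcases (by omega : j = 0 ∨ j = 1 ∨ j = 2) with rfl | rfl | rfl
      · intro y hy
        have hbot : Subgroup.zpowers x = ⊥ := Subgroup.card_eq_one.1 (by simpa using hj)
        rw [hbot, Subgroup.mem_bot] at hy ⊢
        rw [hy]; group
      · exact hinv _ hzP (Or.inl (by rw [hj, hk]))
      · exact hinv _ hzP (Or.inr ⟨hk, by rw [hj]; norm_num⟩)
    exact h8_centralizes_cyclic q hq2 a s has (Subgroup.zpowers x) inferInstance j hj hzinv x hxz
  · have hk2 : 2 ≤ k := by omega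
    obtain ⟨E, hzE, hEP, hE⟩ := h8_exists_between 2 (Subgroup.zpowers x) P hzP j k hj
      (by omega) (dvd_trans (pow_dvd_pow 2 (Nat.le_succ k)) hkP)
    obtain ⟨Q, hEQ, hQP, hQ⟩ := h8_exists_between 2 E P hEP k (k + 1) hE (Nat.le_succ k) hkP
    have hEinv := hinv E hEP (Or.inl hE)
    have hQp : IsPGroup 2 Q := IsPGroup.of_card hQ
    by_cases huniq : ∀ M : Subgroup X, M ≤ Q → Nat.card M = 2 ^ k → M = E
    · have hEcyc : IsCyclic E := by
        have hex : ∃ y ∈ Q, y ∉ E := by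
          by_contra hcon
          push Not at hcon
          have h1 := Subgroup.card_le_of_le (show Q ≤ E from hcon)
          rw [hQ, hE] at h1
          have := (Nat.pow_le_pow_iff_right (by norm_num : 1 < 2)).1 h1
          omega
        obtain ⟨y, hyQ, hyE⟩ := hex
        have hzyQ : Subgroup.zpowers y ≤ Q := (Subgroup.zpowers_le).2 hyQ
        obtain ⟨i, hi⟩ := (hQp.to_le hzyQ).exists_card_eq
        have hik : ¬ i ≤ k := by
          intro hik
          obtain ⟨M, hyM, hMQ, hM⟩ := h8_exists_between 2 (Subgroup.zpowers y) Q hzyQ i k hi hik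
            (by rw [hQ]; exact pow_dvd_pow 2 (Nat.le_succ k))
          have := huniq M hMQ hM
          rw [this] at hyM
          exact hyE (hyM (Subgroup.mem_zpowers y))
        have hi1 : i ≤ k + 1 := by
          have h1 := Subgroup.card_le_of_le hzyQ
          rw [hQ, hi] at h1
          exact (Nat.pow_le_pow_iff_right (by norm_num : 1 < 2)).1 h1
        have hzeq : Subgroup.zpowers y = Q := by
          apply Subgroup.eq_of_le_of_card_ge hzyQ
          rw [hQ, hi]
          exact Nat.pow_le_pow_right (by norm_num) (by omega)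
        have hEz : E ≤ Subgroup.zpowers y := by rw [hzeq]; exact hEQ
        exact Subgroup.isCyclic_of_le hEz
      exact h8_centralizes_cyclic q hq2 a s has E hEcyc k hE hEinv x (hzE hxz)
    · push Not at huniq
      obtain ⟨M, hMQ, hM, hME⟩ := huniq
      have hMinv := hinv M (hMQ.trans hQP) (Or.inl hM)
      have hsup : E ⊔ M = Q := by
        apply Subgroup.eq_of_le_of_card_ge (sup_le hEQ hMQ)
        obtain ⟨i, hi⟩ := (hQp.to_le (sup_le hEQ hMQ)).exists_card_eq
        have hik : ¬ i ≤ k := by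
          intro hik
          have h1 : E = E ⊔ M := by
            apply Subgroup.eq_of_le_of_card_ge le_sup_left
            rw [hi, hE]
            exact Nat.pow_le_pow_right (by norm_num) hik
          have h2 : M ≤ E := by rw [h1]; exact le_sup_right
          exact hME (Subgroup.eq_of_le_of_card_ge h2 (by rw [hE, hM]))
        rw [hQ, hi]
        exact Nat.pow_le_pow_right (by norm_num) (by omega)
      have hQinv : ∀ y ∈ Q, a * y * a⁻¹ ∈ Q := by
        have hle : E ⊔ M ≤ (E ⊔ M).comap (MulAut.conj a).toMonoidHom :=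
          sup_le (fun y hy => Subgroup.mem_comap.2
              ((le_sup_left : E ≤ E ⊔ M) (hEinv y hy)))
            (fun y hy => Subgroup.mem_comap.2 ((le_sup_right : M ≤ E ⊔ M) (hMinv y hy)))
        intro y hy
        rw [← hsup] at hy ⊢
        exact Subgroup.mem_comap.1 (hle hy)
      exact h8_centralizes_of_max_inv q hq2 a s has Q k hQ hQinv
        (fun M' hM'Q hM' => hinv M' (hM'Q.trans hQP) (Or.inl hM')) x (hEQ (hzE hxz))

theorem h8_s3803 (P A D : Subgroup X) (hP : IsPGroup 2 P) (hA : Odd (Nat.card A))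
    (hAP : A ≤ Subgroup.normalizer (P : Set X)) (hDP : D ≤ P) (hD1 : 1 < Nat.card D)
    (hD2 : Nat.card D < Nat.card P)
    (hinv : ∀ E : Subgroup X, E ≤ P →
      (Nat.card E = Nat.card D ∨ (Nat.card D = 2 ∧ Nat.card E = 4)) →
      A ≤ Subgroup.normalizer (E : Set X)) :
    A ≤ Subgroup.centralizer (P : Set X) := by
  have h2 : Fact (Nat.Prime 2) := ⟨Nat.prime_two⟩
  obtain ⟨k, hk⟩ := (hP.to_le hDP).exists_card_eq
  obtain ⟨n, hn⟩ := hP.exists_card_eq
  have hk1 : 1 ≤ k := by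
    by_contra hcon
    have : k = 0 := by omega
    rw [hk, this] at hD1
    norm_num at hD1
  have hkn : k + 1 ≤ n := by
    rw [hk, hn] at hD2
    have := (Nat.pow_lt_pow_iff_right (by norm_num : 1 < 2)).1 hD2
    omega
  have hkP : 2 ^ (k + 1) ∣ Nat.card P := by rw [hn]; exact pow_dvd_pow 2 hkn
  have hmemC : ∀ a : X, (∀ x ∈ P, a * x = x * a) → a ∈ Subgroup.centralizer (P : Set X) := by
    intro a h
    rw [Subgroup.mem_centralizer_iff]
    intro x hx
    exact (h x hx).symm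
  have hpp : ∀ a ∈ A, ∀ (q : ℕ) (s : ℕ), q.Prime → a ^ (q ^ s) = 1 →
      a ∈ Subgroup.centralizer (P : Set X) := by
    intro a ha q s hq has
    have : Fact q.Prime := ⟨hq⟩
    by_cases hq2 : q = 2
    · subst hq2
      have h1 : a ^ Nat.card A = 1 := by
        have h0 := congrArg Subtype.val (pow_card_eq_one' (G := A) (x := ⟨a, ha⟩))
        rw [Subgroup.coe_pow, Subgroup.coe_one] at h0
        exact h0
      have hcop : Nat.gcd (2 ^ s) (Nat.card A) = 1 :=
        Nat.Coprime.pow_left s (Nat.coprime_two_left.2 hA)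
      have h3 := pow_gcd_eq_one.2 ⟨has, h1⟩
      rw [hcop, pow_one] at h3
      rw [h3]; exact Subgroup.one_mem _
    · apply hmemC
      apply h8_s3803_pp q hq2 a s has P hP
        (fun x hx => (Subgroup.mem_normalizer_iff.1 (hAP ha) x).1 hx) k hk1 hkP
      intro E hEP hE x hx
      have hEn : a ∈ Subgroup.normalizer (E : Set X) := by
        apply hinv E hEP _ ha
        rcases hE with h | ⟨h1, h4⟩
        · left; rw [h, hk]
        · right; exact ⟨by rw [hk, h1]; norm_num, h4⟩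
      exact (Subgroup.mem_normalizer_iff.1 hEn x).1 hx
  have hgen : ∀ (m : ℕ) (a : X), a ∈ A → orderOf a = m →
      a ∈ Subgroup.centralizer (P : Set X) := by
    intro m
    induction m using Nat.strong_induction_on with
    | _ m ih =>
    intro a ha hm
    by_cases hm1 : m = 1
    · rw [hm1, orderOf_eq_one_iff] at hm
      rw [hm]; exact Subgroup.one_mem _
    · have hmpos : 0 < m := by rw [← hm]; exact orderOf_pos a
      have hq : (Nat.minFac m).Prime := Nat.minFac_prime hm1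
      obtain ⟨e, m', hqm', hmeq⟩ := Nat.exists_eq_pow_mul_and_not_dvd
        (Nat.pos_iff_ne_zero.1 hmpos) (Nat.minFac m) hq.ne_one
      have he : e ≠ 0 := by
        rintro rfl
        rw [pow_zero, one_mul] at hmeq
        exact hqm' (hmeq ▸ Nat.minFac_dvd m)
      have hm'pos : 0 < m' := by
        rcases Nat.eq_zero_or_pos m' with h | h
        · rw [h, mul_zero] at hmeq; omega
        · exact h
      have h1 : (a ^ m') ^ ((Nat.minFac m) ^ e) = 1 := by
        rw [← pow_mul, mul_comm, ← hmeq, ← hm, pow_orderOf_eq_one]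
      have h2 : (a ^ ((Nat.minFac m) ^ e)) ^ m' = 1 := by
        rw [← pow_mul, ← hmeq, ← hm, pow_orderOf_eq_one]
      have hc1 := hpp (a ^ m') (A.pow_mem ha m') (Nat.minFac m) e hq h1
      have hlt : orderOf (a ^ ((Nat.minFac m) ^ e)) < m := by
        have h3 := Nat.le_of_dvd hm'pos (orderOf_dvd_of_pow_eq_one h2)
        have h4 : m' < m := by
          have h5 : 2 ≤ (Nat.minFac m) ^ e := by
            calc 2 ≤ Nat.minFac m := hq.two_le
              _ = (Nat.minFac m) ^ 1 := (pow_one _).symm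
              _ ≤ (Nat.minFac m) ^ e := Nat.pow_le_pow_right hq.pos (Nat.one_le_iff_ne_zero.2 he)
          rw [hmeq]
          nlinarith
        omega
      have hc2 := ih _ hlt (a ^ ((Nat.minFac m) ^ e)) (A.pow_mem ha _) rfl
      have hcop : Nat.gcd m' ((Nat.minFac m) ^ e) = 1 :=
        Nat.Coprime.pow_right e ((Nat.Prime.coprime_iff_not_dvd hq).2 hqm').symm
      have hb := Nat.gcd_eq_gcd_ab m' ((Nat.minFac m) ^ e)
      rw [hcop] at hb
      have ha_eq : a = (a ^ m') ^ (Nat.gcdA m' ((Nat.minFac m) ^ e)) *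
          (a ^ ((Nat.minFac m) ^ e)) ^ (Nat.gcdB m' ((Nat.minFac m) ^ e)) := by
        rw [← zpow_natCast a m', ← zpow_natCast a ((Nat.minFac m) ^ e), ← zpow_mul, ← zpow_mul,
          ← zpow_add, ← hb]
        simp
      rw [ha_eq]
      exact Subgroup.mul_mem _ (Subgroup.zpow_mem _ hc1 _) (Subgroup.zpow_mem _ hc2 _)
  intro a ha
  exact hgen _ a ha rfl

end

end Cfsg.Agent.Lib.Helper8
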