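import Mathlib
import Cfsg.Prelude.Def_Local
import Cfsg.Agent.Lib.Helper7.Coprime
import Cfsg.Agent.Lib.Helper3.EA
import Cfsg.Agent.Lib.Helper1.PSolv

set_option autoImplicit false

namespace Cfsg.Agent.Lib.Helper8

open scoped Pointwise
open Cfsg.Agent.Lib.Helper7

universe u

variable {G : Type u} [Group G]

/-- `H` is a `p`-complement: order prime to `p`, index a power of `p`. -/
def h8_IsPCompl (p : ℕ) (H : Subgroup G) : Prop :=
  (Nat.card H).Coprime p ∧ ∃ n : ℕ, H.index = p ^ n

theorem h8_exists_normal_of_isPSolvable {p : ℕ} (hG : Cfsg.IsPSolvable p G) [Nontrivial G] :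
    ∃ N : Subgroup G, N.Normal ∧ N ≠ ⊥ ∧
      ((∃ m : ℕ, Nat.card N = p ^ m) ∨ (Nat.card N).Coprime p) := by
  obtain ⟨n, H, h0, hn, hmono, hnorm, hfac⟩ := hG
  by_contra hcon
  have key : ∀ i : Fin (n + 1), H i = ⊥ := by
    intro i
    induction i using Fin.induction with
    | zero => exact h0
    | succ i ih =>
      by_contra hne
      have h2 : (H i.castSucc).relIndex (H i.succ) = Nat.card (H i.succ) := by
        rw [ih, Subgroup.relIndex_bot_left]
      apply hcon
      refine ⟨H i.succ, hnorm _, hne, ?_⟩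
      rcases hfac i with ⟨m, hm⟩ | hc
      · exact Or.inl ⟨m, by rw [← h2, hm]⟩
      · exact Or.inr (by rw [← h2]; exact hc)
  have h1 := key (Fin.last n)
  rw [hn] at h1
  exact top_ne_bot h1

theorem h8_isPCompl_card_eq [Finite G] {p : ℕ} {H₁ H₂ : Subgroup G}
    (h₁ : h8_IsPCompl p H₁) (h₂ : h8_IsPCompl p H₂) : Nat.card H₁ = Nat.card H₂ := by
  obtain ⟨c1, a, ha⟩ := h₁
  obtain ⟨c2, b, hb⟩ := h₂
  have e1 := Subgroup.card_mul_index H₁
  have e2 := Subgroup.card_mul_index H₂
  rw [ha] at e1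
  rw [hb] at e2
  apply Nat.dvd_antisymm
  · have h : Nat.card H₁ ∣ Nat.card H₂ * p ^ b := by rw [e2, ← e1]; exact Dvd.intro _ rfl
    exact (Nat.Coprime.pow_right b c1).dvd_of_dvd_mul_right h
  · have h : Nat.card H₂ ∣ Nat.card H₁ * p ^ a := by rw [e1, ← e2]; exact Dvd.intro _ rfl
    exact (Nat.Coprime.pow_right a c2).dvd_of_dvd_mul_right h

theorem h8_isPCompl_conj [Finite G] {p : ℕ} {H : Subgroup G} (h : h8_IsPCompl p H) (g : G) :
    h8_IsPCompl p (MulAut.conj g • H) := by
  obtain ⟨c, a, ha⟩ := h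
  refine ⟨by rw [card_conj_smul]; exact c, a, ?_⟩
  have e1 := Subgroup.card_mul_index H
  have e2 := Subgroup.card_mul_index (MulAut.conj g • H)
  rw [card_conj_smul, ← e1] at e2
  rw [← ha]
  exact Nat.eq_of_mul_eq_mul_left Nat.card_pos e2

theorem h8_isPCompl_map [Finite G] {p : ℕ} [Fact p.Prime] {G' : Type u} [Group G'] {f : G →* G'}
    (hf : Function.Surjective f) {H : Subgroup G} (h : h8_IsPCompl p H) :
    h8_IsPCompl p (H.map f) := by
  obtain ⟨c, a, ha⟩ := h
  refine ⟨Nat.Coprime.coprime_dvd_left (Subgroup.card_map_dvd _ f) c, ?_⟩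
  have h1 := Subgroup.index_map_dvd (H := H) hf
  rw [ha] at h1
  obtain ⟨b, _, hb⟩ := (Nat.dvd_prime_pow Fact.out).1 h1
  exact ⟨b, hb⟩

theorem h8_card_comap_mk [Finite G] (N : Subgroup G) [N.Normal] (Hb : Subgroup (G ⧸ N)) :
    Nat.card (Hb.comap (QuotientGroup.mk' N)) = Nat.card Hb * Nat.card N := by
  have e1 := Subgroup.card_mul_index (Hb.comap (QuotientGroup.mk' N))
  rw [Subgroup.index_comap_of_surjective Hb (QuotientGroup.mk'_surjective N),
    Subgroup.card_eq_card_quotient_mul_card_subgroup N, ← Subgroup.card_mul_index Hb] at e1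
  have e2 : Nat.card (Hb.comap (QuotientGroup.mk' N)) * Hb.index =
      (Nat.card Hb * Nat.card N) * Hb.index := by rw [e1]; ring
  have hpos : 0 < Hb.index := Nat.pos_of_ne_zero Subgroup.index_ne_zero_of_finite
  exact Nat.eq_of_mul_eq_mul_right hpos e2

theorem h8_isPCompl_comap [Finite G] {p : ℕ} (N : Subgroup G) [N.Normal]
    (hN : (Nat.card N).Coprime p) {Hb : Subgroup (G ⧸ N)} (h : h8_IsPCompl p Hb) :
    h8_IsPCompl p (Hb.comap (QuotientGroup.mk' N)) := by
  obtain ⟨c, a, ha⟩ := h
  refine ⟨by rw [h8_card_comap_mk]; exact Nat.Coprime.mul_left c hN, a, ?_⟩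
  rw [Subgroup.index_comap_of_surjective Hb (QuotientGroup.mk'_surjective N), ha]

theorem h8_le_of_isPCompl [Finite G] {p : ℕ} (N : Subgroup G) [N.Normal]
    (hN : (Nat.card N).Coprime p) {H : Subgroup G} (h : h8_IsPCompl p H) : N ≤ H := by
  obtain ⟨c, a, ha⟩ := h
  have h1 := Cfsg.Agent.Lib.Helper3.card_sup_mul_card_inf H N
    (by rw [Subgroup.normalizer_eq_top]; exact le_top)
  obtain ⟨r, hr⟩ := Subgroup.card_dvd_of_le (le_sup_left : H ≤ H ⊔ N)
  have hHpos : 0 < Nat.card H := Nat.card_pos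
  have h2 : r * Nat.card ↥(H ⊓ N) = Nat.card N := by
    rw [hr] at h1
    have : Nat.card H * (r * Nat.card ↥(H ⊓ N)) = Nat.card H * Nat.card N := by
      rw [← h1]; ring
    exact Nat.eq_of_mul_eq_mul_left hHpos this
  have h3 : r ∣ p ^ a := by
    have h4 : Nat.card ↥(H ⊔ N) ∣ Nat.card G := Subgroup.card_subgroup_dvd_card _
    rw [hr, ← Subgroup.card_mul_index H, ha] at h4
    exact Nat.dvd_of_mul_dvd_mul_left hHpos h4
  have h5 : r.Coprime (p ^ a) :=
    Nat.Coprime.pow_right a (Nat.Coprime.coprime_dvd_left (Dvd.intro _ h2) hN)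
  have h6 : r = 1 := Nat.Coprime.eq_one_of_dvd h5 h3
  rw [h6, mul_one] at hr
  have h7 : H = H ⊔ N := Subgroup.eq_of_le_of_card_ge le_sup_left (le_of_eq hr)
  rw [h7]
  exact le_sup_right

theorem h8_exists_isPCompl_lift [Finite G] {p : ℕ} [Fact p.Prime] (N : Subgroup G) [N.Normal]
    {m : ℕ} (hN : Nat.card N = p ^ m) {Hb : Subgroup (G ⧸ N)} (h : h8_IsPCompl p Hb) :
    ∃ H : Subgroup G, h8_IsPCompl p H ∧ H ⊔ N = Hb.comap (QuotientGroup.mk' N) := by
  obtain ⟨c, a, ha⟩ := h
  have hNK : N ≤ Hb.comap (QuotientGroup.mk' N) := by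
    intro x hx
    rw [Subgroup.mem_comap]
    have : (QuotientGroup.mk' N) x = 1 := (QuotientGroup.eq_one_iff x).2 hx
    rw [this]; exact Subgroup.one_mem _
  have hKcard := h8_card_comap_mk N Hb
  have hN' : Nat.card (N.subgroupOf (Hb.comap (QuotientGroup.mk' N))) = p ^ m := by
    rw [card_subgroupOf_of_le hNK, hN]
  have hidx : (N.subgroupOf (Hb.comap (QuotientGroup.mk' N))).index = Nat.card Hb := by
    have e := Subgroup.card_mul_index (N.subgroupOf (Hb.comap (QuotientGroup.mk' N)))
    rw [hN', hKcard, hN, mul_comm] at e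
    exact Nat.eq_of_mul_eq_mul_right (pow_pos (Fact.out : p.Prime).pos m) e
  obtain ⟨H', hH'⟩ := Subgroup.exists_right_complement'_of_coprime
    (N := N.subgroupOf (Hb.comap (QuotientGroup.mk' N)))
    (by rw [hN', hidx]; exact (Nat.Coprime.pow_right m c).symm)
  have hH'card : Nat.card H' = Nat.card Hb := by
    have e := hH'.card_mul_card
    rw [hN', hKcard, hN, mul_comm] at e
    exact Nat.eq_of_mul_eq_mul_right (pow_pos (Fact.out : p.Prime).pos m) e
  have hHcard : Nat.card (H'.map (Subgroup.subtype _)) = Nat.card Hb := by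
    rw [Subgroup.card_map_of_injective (Subgroup.subtype_injective _), hH'card]
  have hHle : H'.map (Subgroup.subtype _) ≤ Hb.comap (QuotientGroup.mk' N) := by
    rintro _ ⟨x, _, rfl⟩
    exact x.2
  refine ⟨H'.map (Subgroup.subtype _), ⟨by rw [hHcard]; exact c, a + m, ?_⟩, ?_⟩
  · have e1 := Subgroup.card_mul_index (H'.map (Subgroup.subtype (Hb.comap (QuotientGroup.mk' N))))
    rw [hHcard, Subgroup.card_eq_card_quotient_mul_card_subgroup N, ← Subgroup.card_mul_index Hb,
      ha, hN] at e1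
    have e2 : Nat.card Hb * (H'.map (Subgroup.subtype (Hb.comap (QuotientGroup.mk' N)))).index =
        Nat.card Hb * p ^ (a + m) := by rw [e1]; ring
    exact Nat.eq_of_mul_eq_mul_left Nat.card_pos e2
  · apply Subgroup.eq_of_le_of_card_ge (sup_le hHle hNK)
    rw [card_sup_of_coprime (A := H'.map (Subgroup.subtype _)) (N := N)
      (by rw [Subgroup.normalizer_eq_top]; exact le_top)
      (by rw [hHcard, hN]; exact Nat.Coprime.pow_right m c), hKcard, hHcard, mul_comm]

/-- **Hall's theorem for `p`-complements** in finite `p`-solvable groups. -/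
theorem h8_pCompl_aux (p : ℕ) [Fact p.Prime] : ∀ (n : ℕ) (G : Type u) [Group G] [Finite G],
    Nat.card G = n → Cfsg.IsPSolvable p G →
    (∃ H : Subgroup G, h8_IsPCompl p H) ∧
    (∀ H₁ H₂ : Subgroup G, h8_IsPCompl p H₁ → h8_IsPCompl p H₂ →
      ∃ g : G, MulAut.conj g • H₁ = H₂) ∧
    (∀ U : Subgroup G, (Nat.card U).Coprime p →
      ∃ H : Subgroup G, h8_IsPCompl p H ∧ ∃ g : G, MulAut.conj g • U ≤ H) := by
  intro n
  induction n using Nat.strong_induction_on with
  | _ n IH =>
  intro G _ _ hcard hG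
  rcases subsingleton_or_nontrivial G with hsub | hnt
  · have htop : h8_IsPCompl p (⊤ : Subgroup G) := by
      refine ⟨?_, 0, ?_⟩
      · rw [Subgroup.card_top, Nat.card_of_subsingleton (1 : G)]; exact Nat.coprime_one_left p
      · rw [Subgroup.index_top, pow_zero]
    refine ⟨⟨⊤, htop⟩, ?_, ?_⟩
    · intro H₁ H₂ _ _
      exact ⟨1, Subsingleton.elim _ _⟩
    · intro U _
      exact ⟨⊤, htop, 1, le_top⟩
  · obtain ⟨N, hNn, hNbot, hNcase⟩ := h8_exists_normal_of_isPSolvable hG
    have hlt : Nat.card (G ⧸ N) < n := by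
      have h1 := Subgroup.card_eq_card_quotient_mul_card_subgroup N
      have h2 : 1 < Nat.card N := by
        by_contra hle
        exact hNbot (Subgroup.eq_bot_of_card_le (H := N) (by omega))
      have h3 : 0 < Nat.card (G ⧸ N) := Nat.card_pos
      rw [hcard] at h1
      nlinarith
    obtain ⟨hE, hC, hD⟩ := IH _ hlt (G ⧸ N) rfl
      (Cfsg.Agent.Lib.Helper1.isPSolvable_of_surjective p (QuotientGroup.mk' N)
        (QuotientGroup.mk'_surjective N) hG)
    have hsurj := QuotientGroup.mk'_surjective N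
    have hker : (QuotientGroup.mk' N).ker = N := QuotientGroup.ker_mk' N
    rcases hNcase with ⟨m, hm⟩ | hNcop
    · -- `N` is a `p`-group
      have hNsolv : Group.IsSolvable N := by
        have hNp : IsPGroup p N := IsPGroup.of_card hm
        have : Group.IsNilpotent N := hNp.isNilpotent
        infer_instance
      have hnormtop : ∀ A : Subgroup G, A ≤ Subgroup.normalizer (N : Set G) := by
        intro A
        rw [Subgroup.normalizer_eq_top]; exact le_top
      refine ⟨?_, ?_, ?_⟩
      · obtain ⟨Hb, hHb⟩ := hE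
        obtain ⟨H, hH, _⟩ := h8_exists_isPCompl_lift N hm hHb
        exact ⟨H, hH⟩
      · intro H₁ H₂ h₁ h₂
        obtain ⟨gb, hgb⟩ := hC _ _ (h8_isPCompl_map hsurj h₁) (h8_isPCompl_map hsurj h₂)
        obtain ⟨g, rfl⟩ := hsurj gb
        have h₁' := h8_isPCompl_conj h₁ g
        have hsup : MulAut.conj g • H₁ ⊔ N = H₂ ⊔ N := by
          have e1 := Subgroup.comap_map_eq (QuotientGroup.mk' N) (MulAut.conj g • H₁)
          have e2 := Subgroup.comap_map_eq (QuotientGroup.mk' N) H₂
          rw [hker] at e1 e2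
          rw [← e1, ← e2, map_conj_smul, hgb]
        obtain ⟨x, hx, hxe⟩ := sz_conj_sub (MulAut.conj g • H₁) N (hnormtop _)
          (by rw [hm]; exact Nat.Coprime.pow_right m h₁'.1) (Or.inr hNsolv) H₂
          (by rw [sup_comm, hsup]; exact le_sup_left) (h8_isPCompl_card_eq h₂ h₁')
        exact ⟨x * g, by rw [← conj_smul_conj_smul]; exact hxe⟩
      · intro U hU
        obtain ⟨Hb, hHb, gb, hgb⟩ := hD (U.map (QuotientGroup.mk' N))
          (Nat.Coprime.coprime_dvd_left (Subgroup.card_map_dvd _ _) hU)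
        obtain ⟨g, rfl⟩ := hsurj gb
        obtain ⟨H, hH, hHsup⟩ := h8_exists_isPCompl_lift N hm hHb
        have hU'le : MulAut.conj g • U ≤ H ⊔ N := by
          rw [hHsup]
          intro x hx
          rw [Subgroup.mem_comap]
          apply hgb
          rw [← map_conj_smul]
          exact Subgroup.mem_map_of_mem _ hx
        have hU'cop : (Nat.card (MulAut.conj g • U : Subgroup G)).Coprime (Nat.card N) := by
          rw [card_conj_smul, hm]; exact Nat.Coprime.pow_right m hU
        have hH₀cop : (Nat.card (H ⊓ (N ⊔ MulAut.conj g • U) : Subgroup G)).Coprime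
            (Nat.card N) := by
          rw [hm]
          exact Nat.Coprime.pow_right m
            (Nat.Coprime.coprime_dvd_left (Subgroup.card_dvd_of_le inf_le_left) hH.1)
        have hsupeq : H ⊓ (N ⊔ MulAut.conj g • U) ⊔ N = MulAut.conj g • U ⊔ N := by
          apply le_antisymm
          · apply sup_le _ le_sup_right
            rw [sup_comm (MulAut.conj g • U) N]
            exact inf_le_right
          · apply sup_le _ le_sup_right
            intro x hx
            have hx' : x ∈ N ⊔ H := by rw [sup_comm]; exact hU'le hx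
            obtain ⟨y, hy, h, hh, rfl⟩ := exists_mul_of_mem_sup (hnormtop H) hx'
            have hh' : h ∈ N ⊔ MulAut.conj g • U := by
              have e : h = y⁻¹ * (y * h) := by group
              rw [e]
              exact Subgroup.mul_mem _ (Subgroup.mem_sup_left (N.inv_mem hy))
                (Subgroup.mem_sup_right hx)
            exact Subgroup.mul_mem _ (Subgroup.mem_sup_right hy)
              (Subgroup.mem_sup_left ⟨hh, hh'⟩)
        have hcardeq : Nat.card (H ⊓ (N ⊔ MulAut.conj g • U) : Subgroup G) =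
            Nat.card (MulAut.conj g • U : Subgroup G) := by
          have e1 := card_sup_of_coprime (hnormtop (H ⊓ (N ⊔ MulAut.conj g • U))) hH₀cop
          have e2 := card_sup_of_coprime (hnormtop (MulAut.conj g • U)) hU'cop
          rw [hsupeq, e2] at e1
          exact (Nat.eq_of_mul_eq_mul_left Nat.card_pos e1).symm
        obtain ⟨x, hx, hxe⟩ := sz_conj_sub (MulAut.conj g • U) N (hnormtop _) hU'cop
          (Or.inr hNsolv) (H ⊓ (N ⊔ MulAut.conj g • U)) inf_le_right hcardeq
        refine ⟨H, hH, x * g, ?_⟩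
        rw [← conj_smul_conj_smul, hxe]
        exact inf_le_left
    · -- `N` is a `p'`-group
      refine ⟨?_, ?_, ?_⟩
      · obtain ⟨Hb, hHb⟩ := hE
        exact ⟨_, h8_isPCompl_comap N hNcop hHb⟩
      · intro H₁ H₂ h₁ h₂
        obtain ⟨gb, hgb⟩ := hC _ _ (h8_isPCompl_map hsurj h₁) (h8_isPCompl_map hsurj h₂)
        obtain ⟨g, rfl⟩ := hsurj gb
        have h₁' := h8_isPCompl_conj h₁ g
        refine ⟨g, ?_⟩
        have e1 := Subgroup.comap_map_eq (QuotientGroup.mk' N) (MulAut.conj g • H₁)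
        have e2 := Subgroup.comap_map_eq (QuotientGroup.mk' N) H₂
        rw [hker, sup_eq_left.2 (h8_le_of_isPCompl N hNcop h₁')] at e1
        rw [hker, sup_eq_left.2 (h8_le_of_isPCompl N hNcop h₂)] at e2
        rw [← e1, ← e2, map_conj_smul, hgb]
      · intro U hU
        obtain ⟨Hb, hHb, gb, hgb⟩ := hD (U.map (QuotientGroup.mk' N))
          (Nat.Coprime.coprime_dvd_left (Subgroup.card_map_dvd _ _) hU)
        obtain ⟨g, rfl⟩ := hsurj gb
        refine ⟨_, h8_isPCompl_comap N hNcop hHb, g, ?_⟩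
        intro x hx
        rw [Subgroup.mem_comap]
        apply hgb
        rw [← map_conj_smul]
        exact Subgroup.mem_map_of_mem _ hx

end Cfsg.Agent.Lib.Helper8
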