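import Mathlib
import Cfsg.Agent.Lib.Helper8.GL2Conj

set_option autoImplicit false
set_option linter.style.haveILetI false
set_option linter.unusedSectionVars false

universe u

namespace Cfsg.Agent.Lib.Helper8

open Matrix

section
variable {F : Type u} [Field F]

/-- companion matrices in `SL₂` -/
def h8compS (t : F) : Matrix.SpecialLinearGroup (Fin 2) F :=
  ⟨!![0, -1; 1, t], by rw [Matrix.det_fin_two_of]; ring⟩

theorem h8compS_val (t : F) :
    ((h8compS t : Matrix.SpecialLinearGroup (Fin 2) F) : Matrix (Fin 2) (Fin 2) F)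
      = !![0, -1; 1, t] := rfl

/-- conjugating a matrix of `SL₂` to a companion matrix inside `SL₂`, given a cyclic vector
whose determinant has an inverse square root -/
theorem h8_sl2_conj_of_vec (g : Matrix.SpecialLinearGroup (Fin 2) F) (a b c d v0 v1 s : F)
    (hgm : (g : Matrix (Fin 2) (Fin 2) F) = !![a, b; c, d])
    (hs : s * s * (v0 * (c * v0 + d * v1) - (a * v0 + b * v1) * v1) = 1) :
    IsConj g (h8compS (a + d)) := by
  have hdet : a * d - b * c = 1 := by
    have h0 := g.det_coe
    rw [hgm, Matrix.det_fin_two_of] at h0; exact h0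
  let M : Matrix (Fin 2) (Fin 2) F := !![v0, a * v0 + b * v1; v1, c * v0 + d * v1]
  have hMdet : M.det = v0 * (c * v0 + d * v1) - (a * v0 + b * v1) * v1 :=
    Matrix.det_fin_two_of _ _ _ _
  let P : Matrix.SpecialLinearGroup (Fin 2) F := ⟨s • M, by
    rw [Matrix.det_smul, hMdet, Fintype.card_fin, pow_two, hs]⟩
  have hk : g * P = P * h8compS (a + d) := by
    apply Subtype.ext
    rw [Matrix.SpecialLinearGroup.coe_mul, Matrix.SpecialLinearGroup.coe_mul, h8compS_val, hgm]
    show !![a, b; c, d] * (s • M) = (s • M) * !![0, -1; 1, a + d]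
    rw [Matrix.mul_smul, Matrix.smul_mul]
    congr 1
    have h0 := h8_ch_identity a b c d v0 v1
    rw [hdet] at h0
    exact h0
  rw [isConj_iff]
  refine ⟨P⁻¹, ?_⟩
  rw [inv_inv, mul_assoc, hk, inv_mul_cancel_left]

theorem h8_sl2_conj_companion [Fintype F] [CharP F 2] (g : Matrix.SpecialLinearGroup (Fin 2) F)
    (hg : g ≠ 1) : IsConj g (h8compS (Matrix.trace (g : Matrix (Fin 2) (Fin 2) F))) := by
  obtain ⟨a, b, c, d, hgm⟩ : ∃ a b c d : F, (g : Matrix (Fin 2) (Fin 2) F) = !![a, b; c, d] :=
    ⟨_, _, _, _, Matrix.eta_fin_two _⟩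
  have hdet : a * d - b * c = 1 := by
    have h0 := g.det_coe
    rw [hgm, Matrix.det_fin_two_of] at h0; exact h0
  have htr : Matrix.trace (g : Matrix (Fin 2) (Fin 2) F) = a + d := by
    rw [hgm, Matrix.trace_fin_two_of]
  have h2 : (2 : F) = 0 := CharTwo.two_eq_zero
  have hv : ∃ v0 v1 : F, v0 * (c * v0 + d * v1) - (a * v0 + b * v1) * v1 ≠ 0 := by
    by_cases hc : c = 0
    · by_cases hb : b = 0
      · have had : a ≠ d := by
          intro had
          apply hg
          have ha2 : a * a = 1 := by rw [hb, hc, ← had] at hdet; linear_combination hdet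
          have ha1 : a = 1 := by
            have h3 : (a - 1) ^ 2 = 0 := by linear_combination ha2 + (1 - a) * h2
            have h4 : a - 1 = 0 := by simpa using h3
            linear_combination h4
          apply Subtype.ext
          rw [hgm, hb, hc, ← had, ha1]
          exact Matrix.one_fin_two.symm
        refine ⟨1, 1, ?_⟩
        rw [hc, hb]; intro h0; apply had; linear_combination -h0
      · exact ⟨0, 1, by simp [hb]⟩
    · exact ⟨1, 0, by simp [hc]⟩
  obtain ⟨v0, v1, hv⟩ := hv
  obtain ⟨s, hs⟩ := FiniteField.isSquare_of_char_two (ringChar.eq F 2)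
    (v0 * (c * v0 + d * v1) - (a * v0 + b * v1) * v1)⁻¹
  rw [htr]
  exact h8_sl2_conj_of_vec g a b c d v0 v1 s hgm (by rw [← hs, inv_mul_cancel₀ hv])

open Classical in
/-- the classifying invariant in characteristic 2 -/
noncomputable def h8PsiS (g : Matrix.SpecialLinearGroup (Fin 2) F) : Option F :=
  if g = 1 then none else some (Matrix.trace (g : Matrix (Fin 2) (Fin 2) F))

theorem h8_sl2_trace_conj (c g : Matrix.SpecialLinearGroup (Fin 2) F) :
    Matrix.trace ((c * g * c⁻¹ : Matrix.SpecialLinearGroup (Fin 2) F) : Matrix (Fin 2) (Fin 2) F)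
      = Matrix.trace (g : Matrix (Fin 2) (Fin 2) F) := by
  rw [Matrix.SpecialLinearGroup.coe_mul, Matrix.trace_mul_comm,
    ← Matrix.SpecialLinearGroup.coe_mul, ← mul_assoc, inv_mul_cancel, one_mul]

theorem h8PsiS_conj (c g : Matrix.SpecialLinearGroup (Fin 2) F) :
    h8PsiS (c * g * c⁻¹) = h8PsiS g := by
  unfold h8PsiS
  by_cases hg : g = 1
  · subst hg
    rw [mul_one, mul_inv_cancel]
  · have h' : c * g * c⁻¹ ≠ 1 := fun h0 => hg (conj_eq_one_iff.mp h0)
    rw [if_neg h', if_neg hg, h8_sl2_trace_conj]

theorem h8compS_ne_one (t : F) : (h8compS t : Matrix.SpecialLinearGroup (Fin 2) F) ≠ 1 := by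
  intro h
  have h1 := congrArg (fun g : Matrix.SpecialLinearGroup (Fin 2) F =>
    (g : Matrix (Fin 2) (Fin 2) F) 1 0) h
  simp [h8compS_val] at h1

theorem h8_card_conjClasses_SL2_even [Fintype F] [CharP F 2] :
    Nat.card (ConjClasses (Matrix.SpecialLinearGroup (Fin 2) F)) = Fintype.card F + 1 := by
  classical
  let f : ConjClasses (Matrix.SpecialLinearGroup (Fin 2) F) → Option F :=
    Quotient.lift h8PsiS (by
      intro g h hgh
      obtain ⟨c, rfl⟩ := isConj_iff.mp hgh
      exact (h8PsiS_conj c g).symm)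
  have hinj : Function.Injective f := by
    intro x y hxy
    induction x using Quotient.inductionOn with | _ g =>
    induction y using Quotient.inductionOn with | _ h =>
    change h8PsiS g = h8PsiS h at hxy
    apply Quotient.sound
    show IsConj g h
    unfold h8PsiS at hxy
    by_cases hg : g = 1
    · by_cases hh : h = 1
      · rw [hg, hh]
      · rw [if_pos hg, if_neg hh] at hxy; exact absurd hxy (by simp)
    · by_cases hh : h = 1
      · rw [if_neg hg, if_pos hh] at hxy; exact absurd hxy (by simp)
      · rw [if_neg hg, if_neg hh] at hxy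
        have e1 := Option.some.inj hxy
        have c1 := h8_sl2_conj_companion g hg
        have c2 := h8_sl2_conj_companion h hh
        rw [e1] at c1
        exact c1.trans c2.symm
  have hsurj : Function.Surjective f := by
    rintro (_ | t)
    · refine ⟨ConjClasses.mk 1, ?_⟩
      show h8PsiS 1 = none
      unfold h8PsiS; rw [if_pos rfl]
    · refine ⟨ConjClasses.mk (h8compS t), ?_⟩
      show h8PsiS (h8compS t) = some t
      unfold h8PsiS
      rw [if_neg (h8compS_ne_one t), h8compS_val, Matrix.trace_fin_two_of, zero_add]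
  rw [Nat.card_congr (Equiv.ofBijective f ⟨hinj, hsurj⟩), Finite.card_option,
    Nat.card_eq_fintype_card]

end

end Cfsg.Agent.Lib.Helper8
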