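import Mathlib
import Cfsg.Agent.Lib.Helper8.SL2Conj

set_option autoImplicit false
set_option linter.style.haveILetI false
set_option linter.unusedSectionVars false

universe u

namespace Cfsg.Agent.Lib.Helper8

open Matrix

section
variable {F : Type u} [Field F]

theorem h8_fin_two_inj {x y z w x' y' z' w' : F} (h : !![x, y; z, w] = !![x', y'; z', w']) :
    x = x' ∧ y = y' ∧ z = z' ∧ w = w' := by
  refine ⟨?_, ?_, ?_, ?_⟩
  · have h0 := congrFun (congrFun h 0) 0; simpa using h0
  · have h0 := congrFun (congrFun h 0) 1; simpa using h0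
  · have h0 := congrFun (congrFun h 1) 0; simpa using h0
  · have h0 := congrFun (congrFun h 1) 1; simpa using h0

theorem h8_sq_inj_char2 [CharP F 2] (a a' : F) (h : a * a = a' * a') : a = a' := by
  have h2 : (2 : F) = 0 := CharTwo.two_eq_zero
  have h3 : (a - a') ^ 2 = 0 := by linear_combination h + (a' * (a' - a)) * h2
  have h4 : a - a' = 0 := by simpa using h3
  linear_combination h4

/-- an element of `SL₂` in characteristic 2 is an involution iff it is not 1 and has trace 0 -/
theorem h8_sl2_invol_trace [CharP F 2] (g : Matrix.SpecialLinearGroup (Fin 2) F)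
    (hgg : g * g = 1) (hg1 : g ≠ 1) :
    Matrix.trace (g : Matrix (Fin 2) (Fin 2) F) = 0 := by
  obtain ⟨a, b, c, d, hgm⟩ : ∃ a b c d : F, (g : Matrix (Fin 2) (Fin 2) F) = !![a, b; c, d] :=
    ⟨_, _, _, _, Matrix.eta_fin_two _⟩
  have h2 : (2 : F) = 0 := CharTwo.two_eq_zero
  have h0 := congrArg Subtype.val hgg
  rw [Matrix.SpecialLinearGroup.coe_mul, hgm, Matrix.mul_fin_two] at h0
  have h1 : ((1 : Matrix.SpecialLinearGroup (Fin 2) F) : Matrix (Fin 2) (Fin 2) F)
      = !![1, 0; 0, 1] := Matrix.one_fin_two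
  rw [h1] at h0
  obtain ⟨e00, e01, e10, e11⟩ := h8_fin_two_inj h0
  rw [hgm, Matrix.trace_fin_two_of]
  by_contra ht
  have hb : b = 0 := by
    have h3 : b * (a + d) = 0 := by linear_combination e01
    rcases mul_eq_zero.mp h3 with h4 | h4
    · exact h4
    · exact absurd h4 ht
  have hc : c = 0 := by
    have h3 : c * (a + d) = 0 := by linear_combination e10
    rcases mul_eq_zero.mp h3 with h4 | h4
    · exact h4
    · exact absurd h4 ht
  have ha : a = 1 := h8_sq_inj_char2 a 1 (by rw [hb] at e00; linear_combination e00)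
  have hd : d = 1 := h8_sq_inj_char2 d 1 (by rw [hc] at e11; linear_combination e11)
  apply ht
  rw [ha, hd]; linear_combination h2

theorem h8_sl2_mem_class_iff [Fintype F] [CharP F 2] (g x : Matrix.SpecialLinearGroup (Fin 2) F)
    (hgg : g * g = 1) (hg1 : g ≠ 1) :
    x ∈ (ConjClasses.mk g).carrier ↔
      (x ≠ 1 ∧ Matrix.trace (x : Matrix (Fin 2) (Fin 2) F) = 0) := by
  rw [ConjClasses.mem_carrier_iff_mk_eq, ConjClasses.mk_eq_mk_iff_isConj]
  have htg := h8_sl2_invol_trace g hgg hg1
  constructor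
  · intro hx
    obtain ⟨c, rfl⟩ := isConj_iff.mp hx.symm
    exact ⟨fun h0 => hg1 (conj_eq_one_iff.mp h0), by rw [h8_sl2_trace_conj, htg]⟩
  · rintro ⟨hx1, hxt⟩
    have c1 := h8_sl2_conj_companion x hx1
    have c2 := h8_sl2_conj_companion g hg1
    rw [hxt] at c1
    rw [htg] at c2
    exact c1.trans c2.symm

theorem h8_s2302 [Fintype F] [CharP F 2] (g h : Matrix.SpecialLinearGroup (Fin 2) F)
    (hg : orderOf g = 2) (hh : orderOf h = 2) :
    IsConj g h ∧ Nat.card (ConjClasses.mk g).carrier = Fintype.card F ^ 2 - 1 := by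
  classical
  have h2 : (2 : F) = 0 := CharTwo.two_eq_zero
  have hgg : g * g = 1 := by
    have h0 := pow_orderOf_eq_one g
    rw [hg, pow_two] at h0; exact h0
  have hhh : h * h = 1 := by
    have h0 := pow_orderOf_eq_one h
    rw [hh, pow_two] at h0; exact h0
  have hg1 : g ≠ 1 := by
    intro h0; rw [h0, orderOf_one] at hg; omega
  have hh1 : h ≠ 1 := by
    intro h0; rw [h0, orderOf_one] at hh; omega
  constructor
  · have c1 := h8_sl2_conj_companion g hg1
    have c2 := h8_sl2_conj_companion h hh1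
    rw [h8_sl2_invol_trace g hgg hg1] at c1
    rw [h8_sl2_invol_trace h hhh hh1] at c2
    exact c1.trans c2.symm
  · have hmem := fun x => h8_sl2_mem_class_iff g x hgg hg1
    -- the map to pairs of off-diagonal entries
    have hne : ∀ x : Matrix.SpecialLinearGroup (Fin 2) F, x ∈ (ConjClasses.mk g).carrier →
        (((x : Matrix (Fin 2) (Fin 2) F) 0 1, (x : Matrix (Fin 2) (Fin 2) F) 1 0) : F × F) ≠ 0 := by
      intro x hx h0
      obtain ⟨hx1, hxt⟩ := (hmem x).mp hx
      have hb : (x : Matrix (Fin 2) (Fin 2) F) 0 1 = 0 := congrArg Prod.fst h0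
      have hc : (x : Matrix (Fin 2) (Fin 2) F) 1 0 = 0 := congrArg Prod.snd h0
      rw [Matrix.trace_fin_two] at hxt
      have hdet := x.det_coe
      rw [Matrix.det_fin_two, hb, hc] at hdet
      have had : (x : Matrix (Fin 2) (Fin 2) F) 1 1 = (x : Matrix (Fin 2) (Fin 2) F) 0 0 := by
        linear_combination hxt - (x : Matrix (Fin 2) (Fin 2) F) 0 0 * h2
      have ha : (x : Matrix (Fin 2) (Fin 2) F) 0 0 = 1 :=
        h8_sq_inj_char2 _ 1 (by rw [had] at hdet; linear_combination hdet)
      apply hx1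
      apply Subtype.ext
      rw [Matrix.eta_fin_two (x : Matrix (Fin 2) (Fin 2) F), hb, hc, had, ha]
      exact Matrix.one_fin_two.symm
    let φ : ↥(ConjClasses.mk g).carrier → {p : F × F // p ≠ 0} := fun x =>
      ⟨((x.1 : Matrix (Fin 2) (Fin 2) F) 0 1, (x.1 : Matrix (Fin 2) (Fin 2) F) 1 0), hne x.1 x.2⟩
    have hinj : Function.Injective φ := by
      rintro ⟨x, hx⟩ ⟨y, hy⟩ hxy
      have h0 := congrArg Subtype.val hxy
      have hb : (x : Matrix (Fin 2) (Fin 2) F) 0 1 = (y : Matrix (Fin 2) (Fin 2) F) 0 1 :=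
        congrArg Prod.fst h0
      have hc : (x : Matrix (Fin 2) (Fin 2) F) 1 0 = (y : Matrix (Fin 2) (Fin 2) F) 1 0 :=
        congrArg Prod.snd h0
      obtain ⟨_, hxt⟩ := (hmem x).mp hx
      obtain ⟨_, hyt⟩ := (hmem y).mp hy
      rw [Matrix.trace_fin_two] at hxt hyt
      have hdx := x.det_coe
      have hdy := y.det_coe
      rw [Matrix.det_fin_two] at hdx hdy
      have hadx : (x : Matrix (Fin 2) (Fin 2) F) 1 1 = (x : Matrix (Fin 2) (Fin 2) F) 0 0 := by
        linear_combination hxt - (x : Matrix (Fin 2) (Fin 2) F) 0 0 * h2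
      have hady : (y : Matrix (Fin 2) (Fin 2) F) 1 1 = (y : Matrix (Fin 2) (Fin 2) F) 0 0 := by
        linear_combination hyt - (y : Matrix (Fin 2) (Fin 2) F) 0 0 * h2
      have ha : (x : Matrix (Fin 2) (Fin 2) F) 0 0 = (y : Matrix (Fin 2) (Fin 2) F) 0 0 := by
        apply h8_sq_inj_char2
        rw [hadx] at hdx
        rw [hady] at hdy
        rw [hb, hc] at hdx
        linear_combination hdx - hdy
      apply Subtype.ext
      apply Subtype.ext
      show (x : Matrix (Fin 2) (Fin 2) F) = (y : Matrix (Fin 2) (Fin 2) F)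
      rw [Matrix.eta_fin_two (x : Matrix (Fin 2) (Fin 2) F),
        Matrix.eta_fin_two (y : Matrix (Fin 2) (Fin 2) F), hb, hc, hadx, hady, ha]
    have hsurj : Function.Surjective φ := by
      rintro ⟨⟨b, c⟩, hbc⟩
      obtain ⟨s, hs⟩ := FiniteField.isSquare_of_char_two (ringChar.eq F 2) (1 + b * c)
      let x : Matrix.SpecialLinearGroup (Fin 2) F :=
        ⟨!![s, b; c, s], by rw [Matrix.det_fin_two_of]; linear_combination -hs⟩
      have hx1 : x ≠ 1 := by
        intro h0
        have h1 := congrArg Subtype.val h0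
        have h3 : ((1 : Matrix.SpecialLinearGroup (Fin 2) F) : Matrix (Fin 2) (Fin 2) F)
            = !![1, 0; 0, 1] := Matrix.one_fin_two
        rw [h3] at h1
        obtain ⟨_, e01, e10, _⟩ := h8_fin_two_inj h1
        exact hbc (Prod.ext e01 e10)
      have hxt : Matrix.trace (x : Matrix (Fin 2) (Fin 2) F) = 0 := by
        show Matrix.trace !![s, b; c, s] = 0
        rw [Matrix.trace_fin_two_of]; linear_combination s * h2
      exact ⟨⟨x, (hmem x).mpr ⟨hx1, hxt⟩⟩, rfl⟩
    rw [Nat.card_congr (Equiv.ofBijective φ ⟨hinj, hsurj⟩), Nat.card_eq_fintype_card,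
      Fintype.card_subtype_compl, Fintype.card_subtype_eq, Fintype.card_prod, pow_two]

end

end Cfsg.Agent.Lib.Helper8
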