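import Mathlib
import Cfsg.Agent.Lib.Helper8.SL2Conj2

set_option autoImplicit false
set_option linter.style.haveILetI false
set_option linter.unusedSectionVars false
set_option linter.unusedVariables false

universe u

namespace Cfsg.Agent.Lib.Helper8

open Matrix

section
variable {F : Type u} [Field F]

local notation "SLF" => Matrix.SpecialLinearGroup (Fin 2) F
local notation "MF" => Matrix (Fin 2) (Fin 2) F

/-- twisted companion matrices in `SL₂` -/
def h8compT (δ : Fˣ) (t : F) : SLF :=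
  ⟨!![0, -((δ⁻¹ : Fˣ) : F); (δ : F), t], by rw [Matrix.det_fin_two_of]; simp⟩

theorem h8compT_val (δ : Fˣ) (t : F) :
    ((h8compT δ t : SLF) : MF) = !![0, -((δ⁻¹ : Fˣ) : F); (δ : F), t] := rfl

theorem h8compT_trace (δ : Fˣ) (t : F) : Matrix.trace ((h8compT δ t : SLF) : MF) = t := by
  rw [h8compT_val, Matrix.trace_fin_two_of, zero_add]

theorem h8_fin_two_congr {x y z w x' y' z' w' : F} (h1 : x = x') (h2 : y = y') (h3 : z = z')
    (h4 : w = w') : !![x, y; z, w] = !![x', y'; z', w'] := by rw [h1, h2, h3, h4]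

/-- conjugating to a twisted companion matrix -/
theorem h8_sl2_conj_twisted (g : SLF) (a b c d v0 v1 : F) (δ : Fˣ)
    (hgm : (g : MF) = !![a, b; c, d])
    (hδ : v0 * (c * v0 + d * v1) - (a * v0 + b * v1) * v1 = δ) :
    IsConj g (h8compT δ (a + d)) := by
  have hdet : a * d - b * c = 1 := by
    have h0 := g.det_coe
    rw [hgm, Matrix.det_fin_two_of] at h0; exact h0
  obtain ⟨l, hl⟩ : ∃ l : F, l = ((δ⁻¹ : Fˣ) : F) := ⟨_, rfl⟩
  have hlδ : l * (δ : F) = 1 := by rw [hl]; simp
  let P : SLF := ⟨!![v0, l * (a * v0 + b * v1); v1, l * (c * v0 + d * v1)], by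
    rw [Matrix.det_fin_two_of]; linear_combination l * hδ + hlδ⟩
  have hk : g * P = P * h8compT δ (a + d) := by
    apply Subtype.ext
    rw [Matrix.SpecialLinearGroup.coe_mul, Matrix.SpecialLinearGroup.coe_mul, h8compT_val, hgm,
      ← hl]
    show !![a, b; c, d] * !![v0, l * (a * v0 + b * v1); v1, l * (c * v0 + d * v1)]
      = !![v0, l * (a * v0 + b * v1); v1, l * (c * v0 + d * v1)] * !![0, -l; (δ : F), a + d]
    rw [Matrix.mul_fin_two, Matrix.mul_fin_two]
    refine h8_fin_two_congr ?_ ?_ ?_ ?_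
    · linear_combination (-(a * v0 + b * v1)) * hlδ
    · linear_combination (-l * v0) * hdet
    · linear_combination (-(c * v0 + d * v1)) * hlδ
    · linear_combination (-l * v1) * hdet
  rw [isConj_iff]
  refine ⟨P⁻¹, ?_⟩
  rw [inv_inv, mul_assoc, hk, inv_mul_cancel_left]

/-- rescaling the parameter of a twisted companion matrix by a square -/
theorem h8compT_scale (δ δ' : Fˣ) (t s : F) (hs : s * s * (δ : F) = δ') :
    IsConj (h8compT δ t) (h8compT δ' t) := by
  have h0 := h8_sl2_conj_twisted (h8compT δ t) 0 (-((δ⁻¹ : Fˣ) : F)) (δ : F) t s 0 δ'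
    (h8compT_val δ t) (by linear_combination hs)
  rw [zero_add] at h0
  exact h0

/-- minus the identity -/
def h8negOne : SLF := ⟨!![-1, 0; 0, -1], by rw [Matrix.det_fin_two_of]; ring⟩

theorem h8negOne_conj (c : SLF) : c * h8negOne * c⁻¹ = h8negOne := by
  have h0 : c * h8negOne = h8negOne * c := by
    obtain ⟨p, q, r, s, hcm⟩ : ∃ p q r s : F, (c : MF) = !![p, q; r, s] :=
      ⟨_, _, _, _, Matrix.eta_fin_two _⟩
    apply Subtype.ext
    rw [Matrix.SpecialLinearGroup.coe_mul, Matrix.SpecialLinearGroup.coe_mul, hcm]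
    show !![p, q; r, s] * !![-1, 0; 0, -1] = !![-1, 0; 0, -1] * !![p, q; r, s]
    rw [Matrix.mul_fin_two, Matrix.mul_fin_two]
    refine h8_fin_two_congr ?_ ?_ ?_ ?_ <;> ring
  rw [h0, mul_assoc, mul_inv_cancel, mul_one]

/-- a non-scalar element has a cyclic vector -/
theorem h8_sl2_exists_vec (g : SLF) (a b c d : F) (hgm : (g : MF) = !![a, b; c, d])
    (hg1 : g ≠ 1) (hgn : g ≠ h8negOne) :
    ∃ v0 v1 : F, v0 * (c * v0 + d * v1) - (a * v0 + b * v1) * v1 ≠ 0 := by
  have hdet : a * d - b * c = 1 := by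
    have h0 := g.det_coe
    rw [hgm, Matrix.det_fin_two_of] at h0; exact h0
  by_cases hc : c = 0
  · by_cases hb : b = 0
    · have had : a ≠ d := by
        intro had
        have ha2 : (a - 1) * (a + 1) = 0 := by
          rw [hb, hc, ← had] at hdet; linear_combination hdet
        rcases mul_eq_zero.mp ha2 with h1 | h1
        · apply hg1
          apply Subtype.ext
          have ha1 : a = 1 := by linear_combination h1
          rw [hgm, hb, hc, ← had, ha1]
          exact Matrix.one_fin_two.symm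
        · apply hgn
          apply Subtype.ext
          have ha1 : a = -1 := by linear_combination h1
          rw [hgm, hb, hc, ← had, ha1]
          rfl
      refine ⟨1, 1, ?_⟩
      rw [hc, hb]; intro h0; apply had; linear_combination -h0
    · exact ⟨0, 1, by simp [hb]⟩
  · exact ⟨1, 0, by simp [hc]⟩

/-- every non-scalar element is conjugate to a twisted companion matrix -/
theorem h8_sl2_conj_some_twisted (g : SLF) (hg1 : g ≠ 1) (hgn : g ≠ h8negOne) :
    ∃ δ : Fˣ, IsConj g (h8compT δ (Matrix.trace (g : MF))) := by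
  obtain ⟨a, b, c, d, hgm⟩ : ∃ a b c d : F, (g : MF) = !![a, b; c, d] :=
    ⟨_, _, _, _, Matrix.eta_fin_two _⟩
  obtain ⟨v0, v1, hv⟩ := h8_sl2_exists_vec g a b c d hgm hg1 hgn
  have htr : Matrix.trace (g : MF) = a + d := by rw [hgm, Matrix.trace_fin_two_of]
  rw [htr]
  exact ⟨Units.mk0 _ hv, h8_sl2_conj_twisted g a b c d v0 v1 (Units.mk0 _ hv) hgm rfl⟩

/-- for `t² ≠ 4` all twisted companion matrices of trace `t` are conjugate -/
theorem h8compT_conj_one [Fintype F] (hodd : Fintype.card F % 2 = 1) (h2 : (2 : F) ≠ 0)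
    (δ : Fˣ) (t : F) (ht : t * t ≠ 4) : IsConj (h8compT δ t) (h8compT 1 t) := by
  obtain ⟨l, hl⟩ : ∃ l : F, l = ((δ⁻¹ : Fˣ) : F) := ⟨_, rfl⟩
  have hlδ : l * (δ : F) = 1 := by rw [hl]; simp
  have hκ : 4 - t * t ≠ 0 := fun h0 => ht (by linear_combination -h0)
  obtain ⟨W, Y, hWY⟩ := FiniteField.exists_root_sum_quadratic
    (f := Polynomial.C (1 : F) * Polynomial.X ^ 2 + Polynomial.C 0 * Polynomial.X + Polynomial.C 0)
    (g := Polynomial.C (4 - t * t) * Polynomial.X ^ 2 + Polynomial.C 0 * Polynomial.X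
      + Polynomial.C (-(4 * (δ : F))))
    (Polynomial.degree_quadratic one_ne_zero) (Polynomial.degree_quadratic hκ) hodd
  simp only [Polynomial.eval_add, Polynomial.eval_mul, Polynomial.eval_C, Polynomial.eval_pow,
    Polynomial.eval_X] at hWY
  have h4 : (4 : F) ≠ 0 := by
    intro h0; apply h2
    have h5 : (2 : F) * 2 = 0 := by linear_combination h0
    rcases mul_eq_zero.mp h5 with h6 | h6 <;> exact h6
  have c1 : IsConj (h8compT δ t) (h8compT (Units.mk0 4 h4) t) := by
    have h0 := h8_sl2_conj_twisted (h8compT δ t) 0 (-l) (δ : F) t (l * (W - t * Y)) (2 * Y)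
      (Units.mk0 4 h4) (by rw [h8compT_val, hl])
      (by
        show l * (W - t * Y) * ((δ : F) * (l * (W - t * Y)) + t * (2 * Y))
          - (0 * (l * (W - t * Y)) + -l * (2 * Y)) * (2 * Y) = 4
        linear_combination (l * (W - t * Y) ^ 2 + 4) * hlδ + l * hWY)
    rw [zero_add] at h0
    exact h0
  obtain ⟨hh, hhh⟩ : ∃ hh : F, 2 * hh = 1 := ⟨2⁻¹, mul_inv_cancel₀ h2⟩
  have c2 : IsConj (h8compT (Units.mk0 4 h4) t) (h8compT 1 t) :=
    h8compT_scale (Units.mk0 4 h4) 1 t hh (by
      show hh * hh * 4 = ((1 : Fˣ) : F)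
      rw [Units.val_one]
      linear_combination (2 * hh + 1) * hhh)
  exact c1.trans c2

/-- conjugacy of twisted companion matrices forces a norm equation -/
theorem h8compT_conj_imp (ε : Fˣ) (t : F) (h : IsConj (h8compT 1 t) (h8compT ε t)) :
    ∃ p q : F, (ε : F) * (p * p - t * p * q + q * q) = 1 := by
  obtain ⟨P, hP⟩ := isConj_iff.mp h
  have hk : P * h8compT 1 t = h8compT ε t * P := by rw [← hP]; group
  obtain ⟨p, q, r, s, hPm⟩ : ∃ p q r s : F, (P : MF) = !![p, q; r, s] :=
    ⟨_, _, _, _, Matrix.eta_fin_two _⟩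
  have hdet : p * s - q * r = 1 := by
    have h0 := P.det_coe
    rw [hPm, Matrix.det_fin_two_of] at h0; exact h0
  have hlε : ((ε⁻¹ : Fˣ) : F) * (ε : F) = 1 := by simp
  have h0 := congrArg Subtype.val hk
  rw [Matrix.SpecialLinearGroup.coe_mul, Matrix.SpecialLinearGroup.coe_mul, h8compT_val,
    h8compT_val, hPm, Matrix.mul_fin_two, Matrix.mul_fin_two] at h0
  obtain ⟨e00, e01, e10, e11⟩ := h8_fin_two_inj h0
  simp only [inv_one, Units.val_one] at e00 e01 e10 e11
  have hr : r = -(ε : F) * q := by linear_combination (ε : F) * e00 - r * hlε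
  exact ⟨p, q, by linear_combination hdet - p * e10 - (t * p - q) * hr⟩

theorem h8compT_not_conj_two (ε : Fˣ) (hε : ¬ IsSquare (ε : F)) :
    ¬ IsConj (h8compT 1 2) (h8compT ε 2) := by
  intro h
  obtain ⟨p, q, hpq⟩ := h8compT_conj_imp ε 2 h
  have hne : p - q ≠ 0 := by
    intro h0
    have h1 : (ε : F) * ((p - q) * (p - q)) = 1 := by linear_combination hpq
    rw [h0] at h1; simp at h1
  apply hε
  refine ⟨(p - q)⁻¹, ?_⟩
  field_simp
  linear_combination hpq

theorem h8compT_not_conj_neg_two (ε : Fˣ) (hε : ¬ IsSquare (ε : F)) :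
    ¬ IsConj (h8compT 1 (-2)) (h8compT ε (-2)) := by
  intro h
  obtain ⟨p, q, hpq⟩ := h8compT_conj_imp ε (-2) h
  have hne : p + q ≠ 0 := by
    intro h0
    have h1 : (ε : F) * ((p + q) * (p + q)) = 1 := by linear_combination hpq
    rw [h0] at h1; simp at h1
  apply hε
  refine ⟨(p + q)⁻¹, ?_⟩
  field_simp
  linear_combination hpq

/-- two non-scalar elements of the same trace, neither conjugate to the standard companion
matrix, are conjugate -/
theorem h8_sl2_conj_of_nonconj [Fintype F] (hF : ringChar F ≠ 2) (g h : SLF)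
    (hg1 : g ≠ 1) (hgn : g ≠ h8negOne) (hh1 : h ≠ 1) (hhn : h ≠ h8negOne)
    (hgc : ¬ IsConj g (h8compT 1 (Matrix.trace (g : MF))))
    (hhc : ¬ IsConj h (h8compT 1 (Matrix.trace (h : MF))))
    (htr : Matrix.trace (g : MF) = Matrix.trace (h : MF)) : IsConj g h := by
  classical
  obtain ⟨δ, hδ⟩ := h8_sl2_conj_some_twisted g hg1 hgn
  obtain ⟨δ', hδ'⟩ := h8_sl2_conj_some_twisted h hh1 hhn
  have hns : ∀ (x : SLF) (η : Fˣ), IsConj x (h8compT η (Matrix.trace (x : MF))) →
      ¬ IsConj x (h8compT 1 (Matrix.trace (x : MF))) → ¬ IsSquare (η : F) := by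
    rintro x η hx hxc ⟨r, hr⟩
    apply hxc
    have hr0 : r ≠ 0 := by
      intro h0; rw [h0, mul_zero] at hr; exact η.ne_zero hr
    exact hx.trans (h8compT_scale η 1 _ r⁻¹ (by
      rw [Units.val_one, hr]; field_simp))
  have n1 := hns g δ hδ hgc
  have n2 := hns h δ' hδ' hhc
  have hsq : IsSquare ((δ : F) * (δ' : F)) := by
    rw [← quadraticChar_neg_one_iff_not_isSquare] at n1 n2
    rw [← quadraticChar_one_iff_isSquare (mul_ne_zero δ.ne_zero δ'.ne_zero), map_mul, n1, n2]
    norm_num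
  obtain ⟨r, hr⟩ := hsq
  have c1 : IsConj (h8compT δ (Matrix.trace (g : MF))) (h8compT δ' (Matrix.trace (g : MF))) :=
    h8compT_scale δ δ' _ (r / (δ : F)) (by
      have hd := δ.ne_zero
      field_simp
      linear_combination -hr)
  rw [htr] at c1 hδ
  exact (hδ.trans c1).trans hδ'.symm

/-- a non-scalar element not conjugate to the standard companion matrix has trace `±2` -/
theorem h8_sl2_trace_of_nonconj [Fintype F] (hodd : Fintype.card F % 2 = 1) (h2 : (2 : F) ≠ 0)
    (g : SLF) (hg1 : g ≠ 1) (hgn : g ≠ h8negOne)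
    (hgc : ¬ IsConj g (h8compT 1 (Matrix.trace (g : MF)))) :
    Matrix.trace (g : MF) * Matrix.trace (g : MF) = 4 := by
  by_contra ht
  obtain ⟨δ, hδ⟩ := h8_sl2_conj_some_twisted g hg1 hgn
  exact hgc (hδ.trans (h8compT_conj_one hodd h2 δ _ ht))

open Classical in
/-- the classifying invariant in odd characteristic -/
noncomputable def h8PsiO (g : SLF) : Option (Option (Option (Option F))) :=
  if g = 1 then none
  else if g = h8negOne then some none
  else if IsConj g (h8compT 1 (Matrix.trace (g : MF))) then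
    some (some (some (some (Matrix.trace (g : MF)))))
  else if Matrix.trace (g : MF) = 2 then some (some none)
  else some (some (some none))

theorem h8PsiO_cases (g : SLF) :
    (g = 1 ∧ h8PsiO g = none) ∨
    (g ≠ 1 ∧ g = h8negOne ∧ h8PsiO g = some none) ∨
    (g ≠ 1 ∧ g ≠ h8negOne ∧ IsConj g (h8compT 1 (Matrix.trace (g : MF))) ∧
      h8PsiO g = some (some (some (some (Matrix.trace (g : MF)))))) ∨
    (g ≠ 1 ∧ g ≠ h8negOne ∧ ¬ IsConj g (h8compT 1 (Matrix.trace (g : MF))) ∧
      Matrix.trace (g : MF) = 2 ∧ h8PsiO g = some (some none)) ∨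
    (g ≠ 1 ∧ g ≠ h8negOne ∧ ¬ IsConj g (h8compT 1 (Matrix.trace (g : MF))) ∧
      Matrix.trace (g : MF) ≠ 2 ∧ h8PsiO g = some (some (some none))) := by
  unfold h8PsiO
  by_cases h1 : g = 1
  · exact Or.inl ⟨h1, by rw [if_pos h1]⟩
  · by_cases h2 : g = h8negOne
    · exact Or.inr (Or.inl ⟨h1, h2, by rw [if_neg h1, if_pos h2]⟩)
    · by_cases h3 : IsConj g (h8compT 1 (Matrix.trace (g : MF)))
      · exact Or.inr (Or.inr (Or.inl ⟨h1, h2, h3, by rw [if_neg h1, if_neg h2, if_pos h3]⟩))
      · by_cases h4 : Matrix.trace (g : MF) = 2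
        · exact Or.inr (Or.inr (Or.inr (Or.inl ⟨h1, h2, h3, h4, by
            rw [if_neg h1, if_neg h2, if_neg h3, if_pos h4]⟩)))
        · exact Or.inr (Or.inr (Or.inr (Or.inr ⟨h1, h2, h3, h4, by
            rw [if_neg h1, if_neg h2, if_neg h3, if_neg h4]⟩)))

theorem h8PsiO_conj (c g : SLF) : h8PsiO (c * g * c⁻¹) = h8PsiO g := by
  have e1 : c * g * c⁻¹ = 1 ↔ g = 1 := conj_eq_one_iff
  have e2 : c * g * c⁻¹ = h8negOne ↔ g = h8negOne := by
    constructor
    · intro h0
      have e : g = c⁻¹ * (c * g * c⁻¹) * c := by group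
      rw [e, h0]
      have e' := h8negOne_conj c⁻¹
      rw [inv_inv] at e'; exact e'
    · intro h0; rw [h0]; exact h8negOne_conj c
  have e3 : Matrix.trace ((c * g * c⁻¹ : SLF) : MF) = Matrix.trace (g : MF) :=
    h8_sl2_trace_conj c g
  have e4 : ∀ X : SLF, IsConj (c * g * c⁻¹) X ↔ IsConj g X := by
    intro X
    have hc : IsConj g (c * g * c⁻¹) := isConj_iff.mpr ⟨c, rfl⟩
    exact ⟨fun h0 => hc.trans h0, fun h0 => hc.symm.trans h0⟩
  rcases h8PsiO_cases g with ⟨g1, eg⟩ | ⟨g1, g2, eg⟩ | ⟨g1, g2, g3, eg⟩ | ⟨g1, g2, g3, g4, eg⟩ |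
    ⟨g1, g2, g3, g4, eg⟩
  · rw [eg]; unfold h8PsiO; rw [if_pos (e1.mpr g1)]
  · rw [eg]; unfold h8PsiO
    rw [if_neg (fun h0 => g1 (e1.mp h0)), if_pos (e2.mpr g2)]
  · rw [eg]; unfold h8PsiO
    rw [if_neg (fun h0 => g1 (e1.mp h0)), if_neg (fun h0 => g2 (e2.mp h0)), e3,
      if_pos ((e4 _).mpr g3)]
  · rw [eg]; unfold h8PsiO
    rw [if_neg (fun h0 => g1 (e1.mp h0)), if_neg (fun h0 => g2 (e2.mp h0)), e3,
      if_neg (fun h0 => g3 ((e4 _).mp h0)), if_pos g4]
  · rw [eg]; unfold h8PsiO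
    rw [if_neg (fun h0 => g1 (e1.mp h0)), if_neg (fun h0 => g2 (e2.mp h0)), e3,
      if_neg (fun h0 => g3 ((e4 _).mp h0)), if_neg g4]

theorem h8_card_conjClasses_SL2_odd [Fintype F] (hodd : Odd (Fintype.card F)) :
    Nat.card (ConjClasses SLF) = Fintype.card F + 4 := by
  classical
  have hodd' : Fintype.card F % 2 = 1 := Nat.odd_iff.mp hodd
  have hF : ringChar F ≠ 2 := by
    intro h0
    have := FiniteField.even_card_iff_char_two.mp h0
    omega
  have h2 : (2 : F) ≠ 0 := Ring.two_ne_zero hF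
  let f : ConjClasses SLF → Option (Option (Option (Option F))) :=
    Quotient.lift h8PsiO (by
      intro g h hgh
      obtain ⟨c, rfl⟩ := isConj_iff.mp hgh
      exact (h8PsiO_conj c g).symm)
  have hinj : Function.Injective f := by
    intro x y hxy
    induction x using Quotient.inductionOn with | _ g =>
    induction y using Quotient.inductionOn with | _ h =>
    change h8PsiO g = h8PsiO h at hxy
    apply Quotient.sound
    show IsConj g h
    rcases h8PsiO_cases g with ⟨g1, eg⟩ | ⟨g1, g2, eg⟩ | ⟨g1, g2, g3, eg⟩ | ⟨g1, g2, g3, g4, eg⟩ |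
      ⟨g1, g2, g3, g4, eg⟩ <;>
    rcases h8PsiO_cases h with ⟨h1, eh⟩ | ⟨h1, h2', eh⟩ | ⟨h1, h2', h3, eh⟩ | ⟨h1, h2', h3, h4, eh⟩ |
      ⟨h1, h2', h3, h4, eh⟩ <;>
    rw [eg, eh] at hxy <;>
    first
    | (exfalso; simp at hxy; done)
    | (rw [g1, h1]; done)
    | (rw [g2, h2']; done)
    | (have e1 : Matrix.trace (g : MF) = Matrix.trace (h : MF) := by simpa using hxy
       rw [e1] at g3
       exact g3.trans h3.symm)
    | (exact h8_sl2_conj_of_nonconj hF g h g1 g2 h1 h2' g3 h3 (g4.trans h4.symm))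
    | (have tg := h8_sl2_trace_of_nonconj hodd' h2 g g1 g2 g3
       have th := h8_sl2_trace_of_nonconj hodd' h2 h h1 h2' h3
       have tg' : Matrix.trace (g : MF) = -2 := by
         have h5 : (Matrix.trace (g : MF) - 2) * (Matrix.trace (g : MF) + 2) = 0 := by
           linear_combination tg
         rcases mul_eq_zero.mp h5 with h6 | h6
         · exact absurd (sub_eq_zero.mp h6) g4
         · linear_combination h6
       have th' : Matrix.trace (h : MF) = -2 := by
         have h5 : (Matrix.trace (h : MF) - 2) * (Matrix.trace (h : MF) + 2) = 0 := by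
           linear_combination th
         rcases mul_eq_zero.mp h5 with h6 | h6
         · exact absurd (sub_eq_zero.mp h6) h4
         · linear_combination h6
       exact h8_sl2_conj_of_nonconj hF g h g1 g2 h1 h2' g3 h3 (tg'.trans th'.symm))
  have hsurj : Function.Surjective f := by
    obtain ⟨ε0, hε0⟩ := FiniteField.exists_nonsquare hF
    have hε00 : ε0 ≠ 0 := by
      intro h0; apply hε0; rw [h0]; exact ⟨0, by ring⟩
    obtain ⟨ε, hε⟩ : ∃ ε : Fˣ, ¬ IsSquare (ε : F) := ⟨Units.mk0 ε0 hε00, hε0⟩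
    have hT1 : ∀ (η : Fˣ) (t : F), h8compT η t ≠ 1 := by
      intro η t h0
      have h1 := congrArg (fun g : SLF => (g : MF) 1 0) h0
      simp [h8compT_val] at h1
    have hTn : ∀ (η : Fˣ) (t : F), h8compT η t ≠ h8negOne := by
      intro η t h0
      have h1 := congrArg (fun g : SLF => (g : MF) 1 0) h0
      simp [h8compT_val, h8negOne] at h1
    rintro (_ | _ | _ | _ | t)
    · refine ⟨ConjClasses.mk 1, ?_⟩
      show h8PsiO 1 = none
      unfold h8PsiO; rw [if_pos rfl]
    · refine ⟨ConjClasses.mk h8negOne, ?_⟩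
      show h8PsiO h8negOne = some none
      have hn1 : (h8negOne : SLF) ≠ 1 := by
        intro h0
        have h1 := congrArg (fun g : SLF => (g : MF) 0 0) h0
        simp [h8negOne] at h1
        apply h2; linear_combination -h1
      unfold h8PsiO; rw [if_neg hn1, if_pos rfl]
    · refine ⟨ConjClasses.mk (h8compT ε 2), ?_⟩
      show h8PsiO (h8compT ε 2) = some (some none)
      unfold h8PsiO
      rw [if_neg (hT1 ε 2), if_neg (hTn ε 2), h8compT_trace,
        if_neg (fun h0 => h8compT_not_conj_two ε hε h0.symm), if_pos rfl]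
    · refine ⟨ConjClasses.mk (h8compT ε (-2)), ?_⟩
      show h8PsiO (h8compT ε (-2)) = some (some (some none))
      have hne : (-2 : F) ≠ 2 := by
        intro h0; apply h2
        have h5 : (2 : F) * 2 = 0 := by linear_combination -h0
        rcases mul_eq_zero.mp h5 with h6 | h6 <;> exact h6
      unfold h8PsiO
      rw [if_neg (hT1 ε (-2)), if_neg (hTn ε (-2)), h8compT_trace,
        if_neg (fun h0 => h8compT_not_conj_neg_two ε hε h0.symm), if_neg hne]
    · refine ⟨ConjClasses.mk (h8compT 1 t), ?_⟩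
      show h8PsiO (h8compT 1 t) = some (some (some (some t)))
      unfold h8PsiO
      rw [if_neg (hT1 1 t), if_neg (hTn 1 t), h8compT_trace, if_pos (IsConj.refl _)]
  rw [Nat.card_congr (Equiv.ofBijective f ⟨hinj, hsurj⟩), Finite.card_option, Finite.card_option,
    Finite.card_option, Finite.card_option, Nat.card_eq_fintype_card]

end

end Cfsg.Agent.Lib.Helper8
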