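import Mathlib
import Cfsg.Agent.Lib.Helper8.SL2Odd
import Cfsg.Agent.Lib.Helper8.SL2Conj
import Cfsg.Agent.Lib.Helper8.ConjClass

set_option autoImplicit false
set_option linter.style.haveILetI false
set_option linter.unusedSectionVars false
set_option linter.unusedVariables false

universe u

namespace Cfsg.Agent.Lib.Helper8

open Matrix

section
variable {F : Type u} [Field F]

local notation "SLF" => Matrix.SpecialLinearGroup (Fin 2) F
local notation "MF" => Matrix (Fin 2) (Fin 2) F

/-- parametrisation of the elements of trace `t` in `SL₂` -/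
noncomputable def h8trPar (t : F) :
    (F × Fˣ) ⊕ ({a : F // a * (t - a) = 1} × F) → {g : SLF // Matrix.trace (g : MF) = t} :=
  Sum.elim
    (fun p => ⟨⟨!![p.1, (p.2 : F); (p.1 * (t - p.1) - 1) * ((p.2⁻¹ : Fˣ) : F), t - p.1], by
        rw [Matrix.det_fin_two_of]
        have h0 : (p.2 : F) * ((p.2⁻¹ : Fˣ) : F) = 1 := by simp
        linear_combination (-(p.1 * (t - p.1) - 1)) * h0⟩, by
      show Matrix.trace
        (!![p.1, (p.2 : F); (p.1 * (t - p.1) - 1) * ((p.2⁻¹ : Fˣ) : F), t - p.1] : MF) = t
      rw [Matrix.trace_fin_two_of]; ring⟩)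
    (fun p => ⟨⟨!![(p.1 : F), 0; p.2, t - (p.1 : F)], by
        rw [Matrix.det_fin_two_of]
        linear_combination p.1.2⟩, by
      show Matrix.trace (!![(p.1 : F), 0; p.2, t - (p.1 : F)] : MF) = t
      rw [Matrix.trace_fin_two_of]; ring⟩)

theorem h8trPar_inl (t : F) (a : F) (b : Fˣ) :
    (((h8trPar t (Sum.inl (a, b))) : SLF) : MF)
      = !![a, (b : F); (a * (t - a) - 1) * ((b⁻¹ : Fˣ) : F), t - a] := rfl

theorem h8trPar_inr (t : F) (a : {a : F // a * (t - a) = 1}) (c : F) :
    (((h8trPar t (Sum.inr (a, c))) : SLF) : MF) = !![(a : F), 0; c, t - (a : F)] := rfl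

theorem h8_card_trace_eq [Fintype F] (t : F) :
    Nat.card {g : SLF // Matrix.trace (g : MF) = t}
      = Fintype.card F * (Fintype.card F - 1)
        + Nat.card {a : F // a * (t - a) = 1} * Fintype.card F := by
  have hinj : Function.Injective (h8trPar t) := by
    rintro (⟨a, b⟩ | ⟨a, c⟩) (⟨a', b'⟩ | ⟨a', c'⟩) h
    · have h0 := congrArg (fun g : {g : SLF // Matrix.trace (g : MF) = t} => ((g : SLF) : MF)) h
      simp only [h8trPar_inl] at h0
      obtain ⟨e00, e01, e10, e11⟩ := h8_fin_two_inj h0
      rw [e00, Units.ext e01]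
    · have h0 := congrArg (fun g : {g : SLF // Matrix.trace (g : MF) = t} => ((g : SLF) : MF)) h
      simp only [h8trPar_inl, h8trPar_inr] at h0
      obtain ⟨e00, e01, e10, e11⟩ := h8_fin_two_inj h0
      exact absurd e01 b.ne_zero
    · have h0 := congrArg (fun g : {g : SLF // Matrix.trace (g : MF) = t} => ((g : SLF) : MF)) h
      simp only [h8trPar_inl, h8trPar_inr] at h0
      obtain ⟨e00, e01, e10, e11⟩ := h8_fin_two_inj h0
      exact absurd e01.symm b'.ne_zero
    · have h0 := congrArg (fun g : {g : SLF // Matrix.trace (g : MF) = t} => ((g : SLF) : MF)) h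
      simp only [h8trPar_inr] at h0
      obtain ⟨e00, e01, e10, e11⟩ := h8_fin_two_inj h0
      rw [Subtype.ext e00, e10]
  have hsurj : Function.Surjective (h8trPar t) := by
    rintro ⟨g, hg⟩
    obtain ⟨a, b, c, d, hgm⟩ : ∃ a b c d : F, (g : MF) = !![a, b; c, d] :=
      ⟨_, _, _, _, Matrix.eta_fin_two _⟩
    have hdet : a * d - b * c = 1 := by
      have h0 := g.det_coe
      rw [hgm, Matrix.det_fin_two_of] at h0; exact h0
    have htr : a + d = t := by
      rw [hgm, Matrix.trace_fin_two_of] at hg; exact hg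
    by_cases hb : b = 0
    · refine ⟨Sum.inr (⟨a, by linear_combination hdet - a * htr + c * hb⟩, c), ?_⟩
      apply Subtype.ext
      apply Subtype.ext
      rw [h8trPar_inr, hgm]
      refine h8_fin_two_congr rfl hb.symm rfl ?_
      show t - a = d
      linear_combination -htr
    · refine ⟨Sum.inl (a, Units.mk0 b hb), ?_⟩
      apply Subtype.ext
      apply Subtype.ext
      rw [h8trPar_inl, hgm]
      obtain ⟨l, hl⟩ : ∃ l : F, l = (((Units.mk0 b hb)⁻¹ : Fˣ) : F) := ⟨_, rfl⟩
      have hlb : l * b = 1 := by rw [hl]; simp [hb]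
      rw [← hl]
      refine h8_fin_two_congr rfl rfl ?_ ?_
      · linear_combination l * hdet - l * a * htr + c * hlb
      · linear_combination -htr
  rw [← Nat.card_congr (Equiv.ofBijective _ ⟨hinj, hsurj⟩), Nat.card_sum, Nat.card_prod,
    Nat.card_prod, Nat.card_units, Nat.card_eq_fintype_card]

theorem h8_card_roots_two [CharP F 2] {t : F} (ht : t ≠ 0) (a₀ : F)
    (h₀ : a₀ * (t - a₀) = 1) : Nat.card {a : F // a * (t - a) = 1} = 2 := by
  have h2 : (2 : F) = 0 := CharTwo.two_eq_zero
  have e0 : Nat.card {a : F // a * (t - a) = 1} = ({a : F | a * (t - a) = 1}).ncard :=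
    Nat.card_coe_set_eq _
  have hset : {a : F | a * (t - a) = 1} = {a₀, t - a₀} := by
    ext a
    show a * (t - a) = 1 ↔ a ∈ ({a₀, t - a₀} : Set F)
    rw [Set.mem_insert_iff, Set.mem_singleton_iff]
    constructor
    · intro ha
      have h3 : (a - a₀) * (t - a - a₀) = 0 := by linear_combination ha - h₀
      rcases mul_eq_zero.mp h3 with h | h
      · left; linear_combination h
      · right; linear_combination -h
    · rintro (rfl | rfl)
      · exact h₀
      · linear_combination h₀
  have hne : a₀ ≠ t - a₀ := by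
    intro h; apply ht; linear_combination (-1 : F) * h + a₀ * h2
  rw [e0, hset, Set.ncard_pair hne]

theorem h8_card_roots_zero [CharP F 2] : Nat.card {a : F // a * (0 - a) = 1} = 1 := by
  have h2 : (2 : F) = 0 := CharTwo.two_eq_zero
  have e1 : Nat.card {a : F // a * (0 - a) = 1} = ({a : F | a * (0 - a) = 1}).ncard :=
    Nat.card_coe_set_eq _
  have hs : {a : F | a * (0 - a) = 1} = {1} := by
    ext a
    show a * (0 - a) = 1 ↔ a ∈ ({1} : Set F)
    rw [Set.mem_singleton_iff]
    constructor
    · intro ha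
      have h3 : (a - 1) ^ 2 = 0 := by linear_combination -ha - a * h2
      have h4 : a - 1 = 0 := by simpa using h3
      linear_combination h4
    · rintro rfl
      linear_combination (-1 : F) * h2
  rw [e1, hs, Set.ncard_singleton]

theorem h8_sl2_trace_one_char2 [CharP F 2] : Matrix.trace ((1 : SLF) : MF) = 0 := by
  have h2 : (2 : F) = 0 := CharTwo.two_eq_zero
  rw [Matrix.SpecialLinearGroup.coe_one, Matrix.trace_one, Fintype.card_fin]
  exact_mod_cast h2

theorem h8_sl2_even_class_set [Fintype F] [CharP F 2] (g : SLF) (hg : g ≠ 1) :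
    {h : SLF | IsConj g h}
      = {h : SLF | h ≠ 1 ∧ Matrix.trace (h : MF) = Matrix.trace (g : MF)} := by
  ext h
  show IsConj g h ↔ (h ≠ 1 ∧ Matrix.trace (h : MF) = Matrix.trace (g : MF))
  constructor
  · intro hc
    obtain ⟨c, rfl⟩ := isConj_iff.mp hc
    refine ⟨?_, h8_sl2_trace_conj c g⟩
    intro h1
    exact hg (conj_eq_one_iff.mp h1)
  · rintro ⟨h1, htr⟩
    have c1 := h8_sl2_conj_companion g hg
    have c2 := h8_sl2_conj_companion h h1
    rw [htr] at c2
    exact c1.trans c2.symm

theorem h8_sl2_even_index_tr_ne [Fintype F] [CharP F 2] (g : SLF)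
    (ht : Matrix.trace (g : MF) ≠ 0) :
    (Subgroup.centralizer ({g} : Set SLF)).index = Fintype.card F * (Fintype.card F - 1)
      + Nat.card {a : F // a * (Matrix.trace (g : MF) - a) = 1} * Fintype.card F := by
  have htr1 : Matrix.trace ((1 : SLF) : MF) = 0 := h8_sl2_trace_one_char2
  have hg : g ≠ 1 := by rintro rfl; exact ht htr1
  rw [← h8_ncard_conj_eq_index, h8_sl2_even_class_set g hg, ← h8_card_trace_eq]
  have hset : {h : SLF | h ≠ 1 ∧ Matrix.trace (h : MF) = Matrix.trace (g : MF)}
      = {h : SLF | Matrix.trace (h : MF) = Matrix.trace (g : MF)} := by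
    ext h
    show (h ≠ 1 ∧ Matrix.trace (h : MF) = Matrix.trace (g : MF))
      ↔ Matrix.trace (h : MF) = Matrix.trace (g : MF)
    constructor
    · exact fun h0 => h0.2
    · intro h0
      refine ⟨?_, h0⟩
      rintro rfl
      exact ht (h0 ▸ htr1)
  rw [hset]
  exact (Nat.card_coe_set_eq _).symm

theorem h8_sl2_even_index_tr_zero [Fintype F] [CharP F 2] (g : SLF) (hg : g ≠ 1)
    (ht : Matrix.trace (g : MF) = 0) :
    (Subgroup.centralizer ({g} : Set SLF)).index = Fintype.card F ^ 2 - 1 := by
  have htr1 : Matrix.trace ((1 : SLF) : MF) = 0 := h8_sl2_trace_one_char2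
  rw [← h8_ncard_conj_eq_index, h8_sl2_even_class_set g hg, ht]
  have hset : {h : SLF | h ≠ 1 ∧ Matrix.trace (h : MF) = 0}
      = {h : SLF | Matrix.trace (h : MF) = 0} \ {1} := by
    ext h
    show (h ≠ 1 ∧ Matrix.trace (h : MF) = 0) ↔ _
    rw [Set.mem_sdiff, Set.mem_singleton_iff]
    exact ⟨fun h0 => ⟨h0.2, h0.1⟩, fun h0 => ⟨h0.2, h0.1⟩⟩
  rw [hset, Set.ncard_sdiff_singleton_of_mem
    (show (1 : SLF) ∈ {h : SLF | Matrix.trace (h : MF) = 0} from htr1)]
  have e0 : ({h : SLF | Matrix.trace (h : MF) = 0}).ncard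
      = Nat.card {h : SLF // Matrix.trace (h : MF) = 0} := (Nat.card_coe_set_eq _).symm
  rw [e0, h8_card_trace_eq, h8_card_roots_zero, one_mul]
  obtain ⟨k, hk⟩ : ∃ k, Fintype.card F = k + 1 :=
    ⟨Fintype.card F - 1, by have := Fintype.card_pos (α := F); omega⟩
  rw [hk, Nat.add_sub_cancel]
  have h5 : (k + 1) ^ 2 = (k + 1) * k + (k + 1) := by ring
  rw [h5]

theorem h8compS_trace (t : F) : Matrix.trace ((h8compS t : SLF) : MF) = t := by
  rw [h8compS_val, Matrix.trace_fin_two_of, zero_add]

theorem h8_sl2_even_cs [Fintype F] [CharP F 2] (h4 : 4 ≤ Fintype.card F) :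
    Set.range (fun g : SLF => (Subgroup.centralizer ({g} : Set SLF)).index) =
      {1, Fintype.card F * (Fintype.card F - 1), Fintype.card F ^ 2 - 1,
        Fintype.card F * (Fintype.card F + 1)} := by
  classical
  have h2 : (2 : F) = 0 := CharTwo.two_eq_zero
  obtain ⟨k, hk⟩ : ∃ k, Fintype.card F = k + 1 := ⟨Fintype.card F - 1, by omega⟩
  have hq2 : Fintype.card F * (Fintype.card F - 1) + 2 * Fintype.card F
      = Fintype.card F * (Fintype.card F + 1) := by
    rw [hk, Nat.add_sub_cancel]; ring
  ext n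
  simp only [Set.mem_range, Set.mem_insert_iff, Set.mem_singleton_iff]
  constructor
  · rintro ⟨g, rfl⟩
    by_cases hg : g = 1
    · left
      rw [hg]
      have : Subgroup.centralizer ({1} : Set SLF) = ⊤ := by
        ext x
        rw [Subgroup.mem_centralizer_singleton_iff]
        simp
      rw [this, Subgroup.index_top]
    · by_cases ht : Matrix.trace (g : MF) = 0
      · right; right; left
        exact h8_sl2_even_index_tr_zero g hg ht
      · rw [h8_sl2_even_index_tr_ne g ht]
        by_cases hroot : ∃ a : F, a * (Matrix.trace (g : MF) - a) = 1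
        · obtain ⟨a, ha⟩ := hroot
          right; right; right
          rw [h8_card_roots_two ht a ha, hq2]
        · right; left
          haveI : IsEmpty {a : F // a * (Matrix.trace (g : MF) - a) = 1} :=
            ⟨fun a => hroot ⟨a.1, a.2⟩⟩
          rw [Nat.card_of_isEmpty, zero_mul, add_zero]
  · rintro (rfl | rfl | rfl | rfl)
    · refine ⟨1, ?_⟩
      have : Subgroup.centralizer ({1} : Set SLF) = ⊤ := by
        ext x
        rw [Subgroup.mem_centralizer_singleton_iff]
        simp
      rw [this, Subgroup.index_top]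
    · -- some trace without roots
      let φ : F → F := fun a => if a = 0 then 0 else a + a⁻¹
      have hφ : ¬ Function.Injective φ := by
        intro hinj
        have h01 : φ 0 = φ 1 := by
          show (if (0 : F) = 0 then (0 : F) else 0 + 0⁻¹) = (if (1 : F) = 0 then 0 else 1 + 1⁻¹)
          rw [if_pos rfl, if_neg one_ne_zero, inv_one]
          linear_combination (-1 : F) * h2
        exact zero_ne_one (hinj h01)
      have hφ2 : ¬ Function.Surjective φ := fun hs => hφ (Finite.injective_iff_surjective.mpr hs)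
      rw [Function.Surjective] at hφ2
      push Not at hφ2
      obtain ⟨t, ht⟩ := hφ2
      have ht0 : t ≠ 0 := by
        rintro rfl
        apply ht 0
        show (if (0 : F) = 0 then (0 : F) else 0 + 0⁻¹) = 0
        rw [if_pos rfl]
      have hno : ¬ ∃ a : F, a * (t - a) = 1 := by
        rintro ⟨a, ha⟩
        have ha0 : a ≠ 0 := by
          rintro rfl
          rw [zero_mul] at ha
          exact zero_ne_one ha
        apply ht a
        show (if a = 0 then (0 : F) else a + a⁻¹) = t
        rw [if_neg ha0]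
        field_simp
        linear_combination -ha
      refine ⟨h8compS t, ?_⟩
      have htr : Matrix.trace ((h8compS t : SLF) : MF) ≠ 0 := by rw [h8compS_trace]; exact ht0
      rw [h8_sl2_even_index_tr_ne _ htr, h8compS_trace]
      haveI : IsEmpty {a : F // a * (t - a) = 1} := ⟨fun a => hno ⟨a.1, a.2⟩⟩
      rw [Nat.card_of_isEmpty, zero_mul, add_zero]
    · refine ⟨h8compS 0, ?_⟩
      exact h8_sl2_even_index_tr_zero _ (h8compS_ne_one 0) (h8compS_trace 0)
    · -- split trace
      obtain ⟨a, ha⟩ : ∃ a : F, a ∉ ({0, 1} : Finset F) := by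
        by_contra hcon
        push Not at hcon
        have h5 : (Finset.univ : Finset F) ⊆ {0, 1} := fun a _ => hcon a
        have h6 := Finset.card_le_card h5
        rw [Finset.card_univ] at h6
        have h7 : ({0, 1} : Finset F).card ≤ 2 := Finset.card_le_two
        omega
      rw [Finset.mem_insert, Finset.mem_singleton] at ha
      push Not at ha
      obtain ⟨ha0, ha1⟩ := ha
      have hl : a * a⁻¹ = 1 := mul_inv_cancel₀ ha0
      have ht0 : a + a⁻¹ ≠ 0 := by
        intro h0
        have h3 : (a - 1) ^ 2 = 0 := by linear_combination a * h0 - hl - a * h2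
        have h4 : a - 1 = 0 := by simpa using h3
        apply ha1
        linear_combination h4
      refine ⟨h8compS (a + a⁻¹), ?_⟩
      have htr : Matrix.trace ((h8compS (a + a⁻¹) : SLF) : MF) ≠ 0 := by
        rw [h8compS_trace]; exact ht0
      rw [h8_sl2_even_index_tr_ne _ htr, h8compS_trace,
        h8_card_roots_two ht0 a (by linear_combination hl), hq2]

theorem h8_s2507 [Fintype F] (h2 : 2 ∣ Fintype.card F) (h4 : 4 ≤ Fintype.card F) :
    Set.range (fun g : (Matrix.ProjectiveSpecialLinearGroup (Fin 2) F) =>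
      (Subgroup.centralizer ({g} : Set (Matrix.ProjectiveSpecialLinearGroup (Fin 2) F))).index) =
      {1, Fintype.card F * (Fintype.card F - 1), Fintype.card F ^ 2 - 1,
        Fintype.card F * (Fintype.card F + 1)} := by
  have hchar : ringChar F = 2 :=
    FiniteField.even_card_iff_char_two.mpr (Nat.mod_eq_zero_of_dvd h2)
  haveI : CharP F 2 := ringChar.of_eq hchar
  have h2F : (2 : F) = 0 := CharTwo.two_eq_zero
  have hcen : Subgroup.center SLF = ⊥ := by
    rw [eq_bot_iff]
    intro A hA
    rw [Matrix.SpecialLinearGroup.mem_center_iff] at hA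
    obtain ⟨r, hr, hA⟩ := hA
    rw [Fintype.card_fin] at hr
    have hr1 : r = 1 := by
      have h3 : (r - 1) ^ 2 = 0 := by linear_combination hr + (1 - r) * h2F
      have h4 : r - 1 = 0 := by simpa using h3
      linear_combination h4
    rw [Subgroup.mem_bot]
    apply Subtype.ext
    rw [← hA, hr1, map_one, Matrix.SpecialLinearGroup.coe_one]
  let π := QuotientGroup.mk' (Subgroup.center SLF)
  have hπs : Function.Surjective π := QuotientGroup.mk'_surjective _
  have hπi : Function.Injective π := by
    rw [← MonoidHom.ker_eq_bot_iff, QuotientGroup.ker_mk', hcen]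
  have hidx : ∀ g : SLF, (Subgroup.centralizer ({π g} : Set
      (Matrix.ProjectiveSpecialLinearGroup (Fin 2) F))).index
      = (Subgroup.centralizer ({g} : Set SLF)).index := by
    intro g
    rw [← Subgroup.index_comap_of_surjective (Subgroup.centralizer ({π g} : Set
      (Matrix.ProjectiveSpecialLinearGroup (Fin 2) F))) hπs]
    congr 1
    ext x
    rw [Subgroup.mem_comap, Subgroup.mem_centralizer_singleton_iff,
      Subgroup.mem_centralizer_singleton_iff, ← map_mul, ← map_mul]
    exact hπi.eq_iff
  rw [← h8_sl2_even_cs h4]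
  ext n
  constructor
  · rintro ⟨x, rfl⟩
    obtain ⟨g, rfl⟩ := hπs x
    exact ⟨g, (hidx g).symm⟩
  · rintro ⟨g, rfl⟩
    exact ⟨π g, hidx g⟩

end

end Cfsg.Agent.Lib.Helper8
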