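import Mathlib
import Cfsg.Agent.Lib.Helper8.SL2Odd

set_option autoImplicit false
set_option linter.style.haveILetI false
set_option linter.unusedSectionVars false
set_option linter.unusedVariables false

universe u

namespace Cfsg.Agent.Lib.Helper8

open Matrix

section
variable {F : Type u} [Field F]

local notation "SLF" => Matrix.SpecialLinearGroup (Fin 2) F
local notation "MF" => Matrix (Fin 2) (Fin 2) F

/-- upper unitriangular element of `SL₂` -/
def h8uni (b : F) : SLF := ⟨!![1, b; 0, 1], by rw [Matrix.det_fin_two_of]; ring⟩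

theorem h8uni_val (b : F) : ((h8uni b : SLF) : MF) = !![1, b; 0, 1] := rfl

theorem h8uni_zero : h8uni (0 : F) = 1 := by
  apply Subtype.ext
  rw [h8uni_val, Matrix.SpecialLinearGroup.coe_one, Matrix.one_fin_two]

theorem h8uni_ne_one {b : F} (hb : b ≠ 0) : h8uni b ≠ 1 := by
  intro h0
  have h1 := congrArg (fun g : SLF => (g : MF) 0 1) h0
  simp [h8uni] at h1
  exact hb h1

theorem h8uni_mul (b c : F) : h8uni b * h8uni c = h8uni (b + c) := by
  apply Subtype.ext
  rw [Matrix.SpecialLinearGroup.coe_mul, h8uni_val, h8uni_val, h8uni_val, Matrix.mul_fin_two]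
  refine h8_fin_two_congr ?_ ?_ ?_ ?_ <;> ring

theorem h8uni_pow (b : F) (n : ℕ) : h8uni b ^ n = h8uni (n * b) := by
  induction n with
  | zero => rw [pow_zero, Nat.cast_zero, zero_mul, h8uni_zero]
  | succ k ih =>
    rw [pow_succ, ih, h8uni_mul]
    congr 1
    push_cast; ring

theorem h8uni_orderOf (p : ℕ) [Fact p.Prime] [CharP F p] {b : F} (hb : b ≠ 0) :
    orderOf (h8uni b) = p := by
  apply orderOf_eq_prime
  · rw [h8uni_pow, CharP.cast_eq_zero, zero_mul, h8uni_zero]
  · exact h8uni_ne_one hb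

/-- a non-identity element of trace 2 is conjugate to an upper unitriangular element -/
theorem h8_sl2_conj_uni (g : SLF) (hg1 : g ≠ 1) (ht : Matrix.trace (g : MF) = 2) :
    ∃ b : F, b ≠ 0 ∧ IsConj g (h8uni b) := by
  obtain ⟨a, b, c, d, hgm⟩ : ∃ a b c d : F, (g : MF) = !![a, b; c, d] :=
    ⟨_, _, _, _, Matrix.eta_fin_two _⟩
  have hdet : a * d - b * c = 1 := by
    have h0 := g.det_coe
    rw [hgm, Matrix.det_fin_two_of] at h0; exact h0
  have htr : a + d = 2 := by
    rw [hgm, Matrix.trace_fin_two_of] at ht; exact ht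
  by_cases hb : b = 0
  · have ha : a = 1 := by
      have h0 : (a - 1) * (a - 1) = 0 := by
        linear_combination (-1 : F) * hdet + a * htr - c * hb
      have h1 := mul_self_eq_zero.mp h0
      linear_combination h1
    have hd : d = 1 := by linear_combination htr - ha
    have hc : c ≠ 0 := by
      intro hc
      apply hg1
      apply Subtype.ext
      rw [hgm, Matrix.SpecialLinearGroup.coe_one, Matrix.one_fin_two, ha, hb, hc, hd]
    refine ⟨-c, neg_ne_zero.mpr hc, ?_⟩
    let P : SLF := ⟨!![0, -1; 1, 0], by rw [Matrix.det_fin_two_of]; ring⟩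
    have hk : g * P = P * h8uni (-c) := by
      apply Subtype.ext
      rw [Matrix.SpecialLinearGroup.coe_mul, Matrix.SpecialLinearGroup.coe_mul, h8uni_val, hgm]
      show !![a, b; c, d] * !![0, -1; 1, 0] = !![0, -1; 1, 0] * !![1, -c; 0, 1]
      rw [Matrix.mul_fin_two, Matrix.mul_fin_two, ha, hb, hd]
      refine h8_fin_two_congr ?_ ?_ ?_ ?_ <;> ring
    rw [isConj_iff]
    refine ⟨P⁻¹, ?_⟩
    rw [inv_inv, mul_assoc, hk, inv_mul_cancel_left]
  · obtain ⟨l, hl⟩ : ∃ l : F, l * b = 1 := ⟨b⁻¹, inv_mul_cancel₀ hb⟩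
    have hl0 : l ≠ 0 := by
      rintro rfl
      rw [zero_mul] at hl
      exact zero_ne_one hl
    refine ⟨l, hl0, ?_⟩
    let P : SLF := ⟨!![b, 0; 1 - a, l], by
      rw [Matrix.det_fin_two_of]; linear_combination hl⟩
    have hk : g * P = P * h8uni l := by
      apply Subtype.ext
      rw [Matrix.SpecialLinearGroup.coe_mul, Matrix.SpecialLinearGroup.coe_mul, h8uni_val, hgm]
      show !![a, b; c, d] * !![b, 0; 1 - a, l] = !![b, 0; 1 - a, l] * !![1, l; 0, 1]
      rw [Matrix.mul_fin_two, Matrix.mul_fin_two]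
      refine h8_fin_two_congr ?_ ?_ ?_ ?_
      · ring
      · ring
      · linear_combination (-1 : F) * hdet + htr
      · linear_combination l * htr
    rw [isConj_iff]
    refine ⟨P⁻¹, ?_⟩
    rw [inv_inv, mul_assoc, hk, inv_mul_cancel_left]

theorem h8uni_conj_iff {b b' : F} (hb : b ≠ 0) (hb' : b' ≠ 0) :
    IsConj (h8uni b) (h8uni b') ↔ IsSquare (b * b') := by
  constructor
  · intro h
    obtain ⟨P, hP⟩ := isConj_iff.mp h
    have hk : P * h8uni b = h8uni b' * P := by rw [← hP]; group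
    obtain ⟨p, q, r, s, hPm⟩ : ∃ p q r s : F, (P : MF) = !![p, q; r, s] :=
      ⟨_, _, _, _, Matrix.eta_fin_two _⟩
    have hdet : p * s - q * r = 1 := by
      have h0 := P.det_coe
      rw [hPm, Matrix.det_fin_two_of] at h0; exact h0
    have h0 := congrArg Subtype.val hk
    rw [Matrix.SpecialLinearGroup.coe_mul, Matrix.SpecialLinearGroup.coe_mul, h8uni_val,
      h8uni_val, hPm, Matrix.mul_fin_two, Matrix.mul_fin_two] at h0
    obtain ⟨e00, e01, e10, e11⟩ := h8_fin_two_inj h0
    have hr : r = 0 := by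
      have h1 : b' * r = 0 := by linear_combination -e00
      rcases mul_eq_zero.mp h1 with h2 | h2
      · exact absurd h2 hb'
      · exact h2
    refine ⟨p * b, ?_⟩
    linear_combination (-(b * b')) * hdet - (b * p) * e01 - (b * b' * q) * hr
  · rintro ⟨m, hm⟩
    have hm0 : m ≠ 0 := by
      rintro rfl
      rw [mul_zero] at hm
      rcases mul_eq_zero.mp hm with h | h
      · exact hb h
      · exact hb' h
    obtain ⟨l, hl⟩ : ∃ l : F, l * b = 1 := ⟨b⁻¹, inv_mul_cancel₀ hb⟩
    obtain ⟨n, hn⟩ : ∃ n : F, n * m = 1 := ⟨m⁻¹, inv_mul_cancel₀ hm0⟩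
    let P : SLF := ⟨!![m * l, 0; 0, b * n], by
      rw [Matrix.det_fin_two_of]; linear_combination (m * n) * hl + hn⟩
    have hk : P * h8uni b = h8uni b' * P := by
      apply Subtype.ext
      rw [Matrix.SpecialLinearGroup.coe_mul, Matrix.SpecialLinearGroup.coe_mul, h8uni_val,
        h8uni_val]
      show !![m * l, 0; 0, b * n] * !![1, b; 0, 1] = !![1, b'; 0, 1] * !![m * l, 0; 0, b * n]
      rw [Matrix.mul_fin_two, Matrix.mul_fin_two]
      refine h8_fin_two_congr ?_ ?_ ?_ ?_
      · ring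
      · linear_combination m * hl - m * hn - n * hm
      · ring
      · ring
    rw [isConj_iff]
    exact ⟨P, by rw [hk, mul_inv_cancel_right]⟩

theorem h8_sl2_orderOf_iff (p : ℕ) [Fact p.Prime] [CharP F p] (g : SLF) :
    orderOf g = p ↔ g ≠ 1 ∧ Matrix.trace (g : MF) = 2 := by
  have hp := (Fact.out : p.Prime)
  constructor
  · intro h
    have hg1 : g ≠ 1 := by
      rintro rfl
      rw [orderOf_one] at h
      exact hp.one_lt.ne h
    refine ⟨hg1, ?_⟩
    have hgp : g ^ p = 1 := by rw [← h]; exact pow_orderOf_eq_one g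
    have hgp' : (g : MF) ^ p = 1 := by
      rw [← Matrix.SpecialLinearGroup.coe_pow, hgp, Matrix.SpecialLinearGroup.coe_one]
    have hnil : IsNilpotent ((g : MF) - 1) := by
      refine ⟨p, ?_⟩
      rw [sub_pow_char_of_commute p (Commute.one_right _), hgp', one_pow, sub_self]
    have h1 := (Matrix.isNilpotent_trace_of_isNilpotent hnil).eq_zero
    rw [Matrix.trace_sub, Matrix.trace_one, Fintype.card_fin] at h1
    push_cast at h1
    linear_combination h1
  · rintro ⟨hg1, ht⟩
    obtain ⟨b, hb, hc⟩ := h8_sl2_conj_uni g hg1 ht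
    obtain ⟨c, hc⟩ := isConj_iff.mp hc
    rw [← h8uni_orderOf p hb]
    have hs : c * g = h8uni b * c := by rw [← hc]; group
    exact SemiconjBy.orderOf_eq c (show SemiconjBy c g (h8uni b) from hs)

/-- the conjugates of `h8uni b` -/
def h8uniC (b x y : F) : SLF :=
  ⟨!![1 - b * x * y, b * x * x; -(b * y * y), 1 + b * x * y], by
    rw [Matrix.det_fin_two_of]; ring⟩

theorem h8uniC_val (b x y : F) : ((h8uniC b x y : SLF) : MF)
    = !![1 - b * x * y, b * x * x; -(b * y * y), 1 + b * x * y] := rfl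

theorem h8uniC_semiconj (b x q y s : F) (P : SLF) (hPm : (P : MF) = !![x, q; y, s]) :
    P * h8uni b = h8uniC b x y * P := by
  have hdet : x * s - q * y = 1 := by
    have h0 := P.det_coe
    rw [hPm, Matrix.det_fin_two_of] at h0; exact h0
  apply Subtype.ext
  rw [Matrix.SpecialLinearGroup.coe_mul, Matrix.SpecialLinearGroup.coe_mul, h8uni_val,
    h8uniC_val, hPm, Matrix.mul_fin_two, Matrix.mul_fin_two]
  refine h8_fin_two_congr ?_ ?_ ?_ ?_
  · ring
  · linear_combination (-(b * x)) * hdet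
  · ring
  · linear_combination (-(b * y)) * hdet

theorem h8uniC_conj (b x y : F) (hv : ¬ (x = 0 ∧ y = 0)) : IsConj (h8uni b) (h8uniC b x y) := by
  obtain ⟨q, s, hqs⟩ : ∃ q s : F, x * s - q * y = 1 := by
    by_cases hx : x = 0
    · have hy : y ≠ 0 := fun hy => hv ⟨hx, hy⟩
      refine ⟨-y⁻¹, 0, ?_⟩
      rw [hx, zero_mul, zero_sub, neg_mul, neg_neg, inv_mul_cancel₀ hy]
    · refine ⟨0, x⁻¹, ?_⟩
      rw [zero_mul, sub_zero, mul_inv_cancel₀ hx]
  let P : SLF := ⟨!![x, q; y, s], by rw [Matrix.det_fin_two_of]; exact hqs⟩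
  have hk : P * h8uni b = h8uniC b x y * P := h8uniC_semiconj b x q y s P rfl
  exact isConj_iff.mpr ⟨P, by rw [hk, mul_inv_cancel_right]⟩

theorem h8uniC_surj (b : F) (g : SLF) (h : IsConj (h8uni b) g) :
    ∃ x y : F, ¬ (x = 0 ∧ y = 0) ∧ h8uniC b x y = g := by
  obtain ⟨P, hP⟩ := isConj_iff.mp h
  obtain ⟨x, q, y, s, hPm⟩ : ∃ x q y s : F, (P : MF) = !![x, q; y, s] :=
    ⟨_, _, _, _, Matrix.eta_fin_two _⟩
  have hdet : x * s - q * y = 1 := by
    have h0 := P.det_coe
    rw [hPm, Matrix.det_fin_two_of] at h0; exact h0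
  refine ⟨x, y, ?_, ?_⟩
  · rintro ⟨hx, hy⟩
    rw [hx, hy] at hdet; simp at hdet
  · rw [← hP, h8uniC_semiconj b x q y s P hPm, mul_inv_cancel_right]

theorem h8uniC_eq_iff {b : F} (hb : b ≠ 0) (x y x' y' : F) :
    h8uniC b x y = h8uniC b x' y' ↔ (x' = x ∧ y' = y) ∨ (x' = -x ∧ y' = -y) := by
  constructor
  · intro h
    have h0 := congrArg Subtype.val h
    rw [h8uniC_val, h8uniC_val] at h0
    obtain ⟨e00, e01, e10, e11⟩ := h8_fin_two_inj h0
    have hxx : x' * x' = x * x := mul_left_cancel₀ hb (by linear_combination -e01)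
    have hyy : y' * y' = y * y := mul_left_cancel₀ hb (by linear_combination e10)
    have hxy : x' * y' = x * y := mul_left_cancel₀ hb (by linear_combination -e11)
    rcases mul_self_eq_mul_self_iff.mp hxx with hx | hx
    · rcases mul_self_eq_mul_self_iff.mp hyy with hy | hy
      · exact Or.inl ⟨hx, hy⟩
      · by_cases hx0 : x = 0
        · right
          refine ⟨?_, hy⟩
          rw [hx, hx0, neg_zero]
        · left
          refine ⟨hx, ?_⟩
          rw [hx] at hxy
          exact mul_left_cancel₀ hx0 hxy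
    · rcases mul_self_eq_mul_self_iff.mp hyy with hy | hy
      · by_cases hx0 : x = 0
        · left
          refine ⟨?_, hy⟩
          rw [hx, hx0, neg_zero]
        · right
          refine ⟨hx, ?_⟩
          rw [hx] at hxy
          have h1 : x * y' = x * (-y) := by linear_combination -hxy
          exact mul_left_cancel₀ hx0 h1
      · exact Or.inr ⟨hx, hy⟩
  · rintro (⟨hx, hy⟩ | ⟨hx, hy⟩)
    · rw [hx, hy]
    · rw [hx, hy]
      apply Subtype.ext
      rw [h8uniC_val, h8uniC_val]
      refine h8_fin_two_congr ?_ ?_ ?_ ?_ <;> ring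

theorem h8uni_class_card [Fintype F] (h2 : (2 : F) ≠ 0) {b : F} (hb : b ≠ 0) :
    Nat.card (ConjClasses.mk (h8uni b)).carrier * 2 = Fintype.card F ^ 2 - 1 := by
  classical
  haveI : Fintype SLF := Fintype.ofFinite _
  let S : Finset (F × F) := Finset.univ.filter (fun v => v ≠ 0)
  let T : Finset SLF := Finset.univ.filter (fun g => IsConj (h8uni b) g)
  let f : F × F → SLF := fun v => h8uniC b v.1 v.2
  have hST : ∀ v ∈ S, f v ∈ T := by
    intro v hv
    rw [Finset.mem_filter] at hv ⊢
    refine ⟨Finset.mem_univ _, h8uniC_conj b v.1 v.2 (fun h => hv.2 (Prod.ext h.1 h.2))⟩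
  have h1 := Finset.card_eq_sum_card_fiberwise hST
  have hfib : ∀ g ∈ T, (S.filter (fun v => f v = g)).card = 2 := by
    intro g hg
    rw [Finset.mem_filter] at hg
    obtain ⟨x, y, hxy, hg'⟩ := h8uniC_surj b g hg.2
    have hne : ((x, y) : F × F) ≠ (-x, -y) := by
      intro h0
      have hx : x = -x := congrArg Prod.fst h0
      have hy : y = -y := congrArg Prod.snd h0
      have hx0 : x = 0 := by
        have h3 : (2 : F) * x = 0 := by linear_combination hx
        rcases mul_eq_zero.mp h3 with h | h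
        · exact absurd h h2
        · exact h
      have hy0 : y = 0 := by
        have h3 : (2 : F) * y = 0 := by linear_combination hy
        rcases mul_eq_zero.mp h3 with h | h
        · exact absurd h h2
        · exact h
      exact hxy ⟨hx0, hy0⟩
    have hset : S.filter (fun v => f v = g) = {(x, y), (-x, -y)} := by
      ext w
      rw [Finset.mem_filter, Finset.mem_insert, Finset.mem_singleton, ← hg']
      constructor
      · rintro ⟨_, hw⟩
        rcases (h8uniC_eq_iff hb x y w.1 w.2).mp hw.symm with ⟨h3, h4⟩ | ⟨h3, h4⟩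
        · exact Or.inl (Prod.ext h3 h4)
        · exact Or.inr (Prod.ext h3 h4)
      · intro hw
        have h5 : (w.1 = x ∧ w.2 = y) ∨ (w.1 = -x ∧ w.2 = -y) := by
          rcases hw with hw | hw
          · left; rw [hw]; exact ⟨rfl, rfl⟩
          · right; rw [hw]; exact ⟨rfl, rfl⟩
        refine ⟨?_, ((h8uniC_eq_iff hb x y w.1 w.2).mpr h5).symm⟩
        rw [Finset.mem_filter]
        refine ⟨Finset.mem_univ _, ?_⟩
        intro hw0
        have hw1 : w.1 = 0 := congrArg Prod.fst hw0
        have hw2 : w.2 = 0 := congrArg Prod.snd hw0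
        rcases h5 with ⟨h3, h4⟩ | ⟨h3, h4⟩
        · exact hxy ⟨by rw [← h3, hw1], by rw [← h4, hw2]⟩
        · exact hxy ⟨neg_eq_zero.mp (by rw [← h3, hw1]), neg_eq_zero.mp (by rw [← h4, hw2])⟩
    rw [hset, Finset.card_pair hne]
  rw [Finset.sum_congr rfl hfib, Finset.sum_const, smul_eq_mul] at h1
  have hS : S.card = Fintype.card F ^ 2 - 1 := by
    show (Finset.univ.filter (fun v : F × F => v ≠ 0)).card = _
    rw [Finset.filter_ne', Finset.card_erase_of_mem (Finset.mem_univ _), Finset.card_univ,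
      Fintype.card_prod, pow_two]
  have hT : Nat.card (ConjClasses.mk (h8uni b)).carrier = T.card := by
    rw [← Fintype.card_coe T, ← Nat.card_eq_fintype_card]
    apply Nat.card_congr
    refine Equiv.subtypeEquivRight (fun g => ?_)
    rw [ConjClasses.mem_carrier_iff_mk_eq, ConjClasses.mk_eq_mk_iff_isConj, Finset.mem_filter]
    exact ⟨fun h => ⟨Finset.mem_univ _, h.symm⟩, fun h => h.2.symm⟩
  rw [hT, ← h1, hS]

theorem h8_s2301 [Fintype F] (p : ℕ) [Fact p.Prime] [CharP F p] (hp : p ≠ 2) :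
    Nat.card {C : ConjClasses SLF // ∃ g : SLF, orderOf g = p ∧ ConjClasses.mk g = C} = 2 ∧
    (∀ g : SLF, orderOf g = p →
      Nat.card (ConjClasses.mk g).carrier = (Fintype.card F ^ 2 - 1) / 2) ∧
    ∀ g h : SLF, (g : MF) 0 0 = 1 → (g : MF) 1 1 = 1 → (g : MF) 1 0 = 0 → (g : MF) 0 1 ≠ 0 →
      (h : MF) 0 0 = 1 → (h : MF) 1 1 = 1 → (h : MF) 1 0 = 0 → (h : MF) 0 1 ≠ 0 →
      (IsConj g h ↔ IsSquare ((g : MF) 0 1 * (h : MF) 0 1)) := by
  classical
  have hF : ringChar F ≠ 2 := by rw [ringChar.eq F p]; exact hp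
  have h2 : (2 : F) ≠ 0 := Ring.two_ne_zero hF
  refine ⟨?_, ?_, ?_⟩
  · obtain ⟨ε, hε⟩ := FiniteField.exists_nonsquare hF
    have hε0 : ε ≠ 0 := by
      rintro rfl
      exact hε ⟨0, by simp⟩
    have hne : ConjClasses.mk (h8uni (1 : F)) ≠ ConjClasses.mk (h8uni ε) := by
      rw [Ne, ConjClasses.mk_eq_mk_iff_isConj, h8uni_conj_iff one_ne_zero hε0, one_mul]
      exact hε
    have hset : {C : ConjClasses SLF | ∃ g : SLF, orderOf g = p ∧ ConjClasses.mk g = C}
        = {ConjClasses.mk (h8uni (1 : F)), ConjClasses.mk (h8uni ε)} := by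
      ext C
      constructor
      · rintro ⟨g, hg, rfl⟩
        obtain ⟨hg1, ht⟩ := (h8_sl2_orderOf_iff p g).mp hg
        obtain ⟨b, hb, hc⟩ := h8_sl2_conj_uni g hg1 ht
        by_cases hsq : IsSquare b
        · left
          rw [ConjClasses.mk_eq_mk_iff_isConj]
          refine hc.trans ((h8uni_conj_iff hb one_ne_zero).mpr ?_)
          rw [mul_one]; exact hsq
        · right
          rw [Set.mem_singleton_iff, ConjClasses.mk_eq_mk_iff_isConj]
          refine hc.trans ((h8uni_conj_iff hb hε0).mpr ?_)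
          rw [← quadraticChar_one_iff_isSquare (mul_ne_zero hb hε0), map_mul,
            quadraticChar_neg_one_iff_not_isSquare.mpr hsq,
            quadraticChar_neg_one_iff_not_isSquare.mpr hε]
          norm_num
      · rintro (rfl | rfl)
        · exact ⟨h8uni 1, h8uni_orderOf p one_ne_zero, rfl⟩
        · exact ⟨h8uni ε, h8uni_orderOf p hε0, rfl⟩
    have e0 : Nat.card {C : ConjClasses SLF // ∃ g : SLF, orderOf g = p ∧ ConjClasses.mk g = C}
        = ({C : ConjClasses SLF | ∃ g : SLF, orderOf g = p ∧ ConjClasses.mk g = C}).ncard :=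
      Nat.card_coe_set_eq _
    rw [e0, hset, Set.ncard_pair hne]
  · intro g hg
    obtain ⟨hg1, ht⟩ := (h8_sl2_orderOf_iff p g).mp hg
    obtain ⟨b, hb, hc⟩ := h8_sl2_conj_uni g hg1 ht
    have h1 := h8uni_class_card h2 hb
    rw [ConjClasses.mk_eq_mk_iff_isConj.mpr hc]
    generalize Fintype.card F ^ 2 = n at h1 ⊢
    omega
  · intro g h g00 g11 g10 g01 h00 h11 h10 h01
    have hg : g = h8uni ((g : MF) 0 1) := by
      apply Subtype.ext
      have h0 := Matrix.eta_fin_two (g : MF)
      rw [g00, g11, g10] at h0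
      exact h0
    have hh : h = h8uni ((h : MF) 0 1) := by
      apply Subtype.ext
      have h0 := Matrix.eta_fin_two (h : MF)
      rw [h00, h11, h10] at h0
      exact h0
    have key := h8uni_conj_iff g01 h01
    rw [← hg, ← hh] at key
    exact key

end

end Cfsg.Agent.Lib.Helper8
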