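import Mathlib
import Cfsg.Agent.Lib.Helper8.SL2Odd
import Cfsg.Agent.Lib.Helper8.SL2Unip
import Cfsg.Agent.Lib.Helper8.SL2Even
import Cfsg.Agent.Lib.Helper8.ConjClass

set_option autoImplicit false
set_option linter.style.haveILetI false
set_option linter.unusedSectionVars false
set_option linter.unusedVariables false

universe u

namespace Cfsg.Agent.Lib.Helper8

open Matrix

/-- counting the image of a set under a map whose fibres are the orbits of a fixed-point-free
involution -/
theorem h8_ncard_image_two {α β : Type*} (f : α → β) (S : Set α) (hS : S.Finite) (σ : α → α)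
    (hσS : ∀ a ∈ S, σ a ∈ S) (hσne : ∀ a, σ a ≠ a)
    (hf : ∀ a b, f a = f b ↔ (b = a ∨ b = σ a)) : S.ncard = (f '' S).ncard * 2 := by
  classical
  let s : Finset α := hS.toFinset
  let t : Finset β := s.image f
  have hst : ∀ a ∈ s, f a ∈ t := fun a ha => Finset.mem_image_of_mem f ha
  have h1 := Finset.card_eq_sum_card_fiberwise hst
  have hfib : ∀ b ∈ t, (s.filter (fun a => f a = b)).card = 2 := by
    intro b hb
    obtain ⟨a, ha, rfl⟩ := Finset.mem_image.mp hb
    have haS : a ∈ S := hS.mem_toFinset.mp ha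
    have hset : s.filter (fun x => f x = f a) = {a, σ a} := by
      ext x
      rw [Finset.mem_filter, Finset.mem_insert, Finset.mem_singleton]
      constructor
      · rintro ⟨_, hx⟩
        exact (hf a x).mp hx.symm
      · intro hx
        refine ⟨?_, ((hf a x).mpr hx).symm⟩
        rcases hx with rfl | rfl
        · exact ha
        · exact hS.mem_toFinset.mpr (hσS a haS)
    rw [hset, Finset.card_pair (hσne a).symm]
  rw [Finset.sum_congr rfl hfib, Finset.sum_const, smul_eq_mul] at h1
  have e1 : S.ncard = s.card := Set.ncard_eq_toFinset_card S hS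
  have e2 : (f '' S).ncard = t.card := by
    have h3 : (f '' S) = (↑t : Set β) := by
      rw [Finset.coe_image, Set.Finite.coe_toFinset]
    rw [h3, Set.ncard_coe_finset]
  rw [e1, e2, h1]

section
variable {F : Type u} [Field F]

local notation "SLF" => Matrix.SpecialLinearGroup (Fin 2) F
local notation "MF" => Matrix (Fin 2) (Fin 2) F
local notation "PSLF" => Matrix.ProjectiveSpecialLinearGroup (Fin 2) F

theorem h8negOne_mul_trace (h : SLF) :
    Matrix.trace ((h8negOne * h : SLF) : MF) = -Matrix.trace (h : MF) := by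
  obtain ⟨a, b, c, d, hm⟩ : ∃ a b c d : F, (h : MF) = !![a, b; c, d] :=
    ⟨_, _, _, _, Matrix.eta_fin_two _⟩
  rw [Matrix.SpecialLinearGroup.coe_mul, hm]
  show Matrix.trace (!![-1, 0; 0, -1] * !![a, b; c, d] : MF) = -Matrix.trace (!![a, b; c, d] : MF)
  rw [Matrix.mul_fin_two, Matrix.trace_fin_two_of, Matrix.trace_fin_two_of]; ring

theorem h8negOne_mem_center : (h8negOne : SLF) ∈ Subgroup.center SLF := by
  rw [Subgroup.mem_center_iff]
  intro g
  have h0 := h8negOne_conj g
  calc g * h8negOne = g * h8negOne * g⁻¹ * g := by group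
    _ = h8negOne * g := by rw [h0]

theorem h8negOne_mul_self : (h8negOne : SLF) * h8negOne = 1 := by
  apply Subtype.ext
  rw [Matrix.SpecialLinearGroup.coe_mul]
  show (!![-1, 0; 0, -1] : MF) * !![-1, 0; 0, -1] = ((1 : SLF) : MF)
  rw [Matrix.mul_fin_two, Matrix.SpecialLinearGroup.coe_one, Matrix.one_fin_two]
  refine h8_fin_two_congr ?_ ?_ ?_ ?_ <;> ring

theorem h8_sl2_center_cases (A : SLF) (hA : A ∈ Subgroup.center SLF) :
    A = 1 ∨ A = h8negOne := by
  rw [Matrix.SpecialLinearGroup.mem_center_iff] at hA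
  obtain ⟨r, hr, hA⟩ := hA
  rw [Fintype.card_fin] at hr
  have h3 : (r - 1) * (r + 1) = 0 := by linear_combination hr
  rcases mul_eq_zero.mp h3 with h | h
  · left
    have hr1 : r = 1 := by linear_combination h
    apply Subtype.ext
    rw [← hA, hr1, map_one, Matrix.SpecialLinearGroup.coe_one]
  · right
    have hr1 : r = -1 := by linear_combination h
    apply Subtype.ext
    rw [← hA, hr1]
    show Matrix.scalar (Fin 2) (-1 : F) = !![-1, 0; 0, -1]
    ext i j
    fin_cases i <;> fin_cases j <;> simp [Matrix.scalar_apply]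

theorem h8_psl2_mk_eq_iff (h h' : SLF) :
    (QuotientGroup.mk' (Subgroup.center SLF) h = QuotientGroup.mk' (Subgroup.center SLF) h')
      ↔ (h' = h ∨ h' = h8negOne * h) := by
  rw [QuotientGroup.mk'_apply, QuotientGroup.mk'_apply, QuotientGroup.eq]
  constructor
  · intro hc
    rcases h8_sl2_center_cases _ hc with h1 | h1
    · left
      exact (inv_mul_eq_one.mp h1).symm
    · right
      have h5 : h' = h * h8negOne := by rw [← h1]; group
      rw [h5]
      exact Subgroup.mem_center_iff.mp h8negOne_mem_center h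
  · rintro (rfl | rfl)
    · rw [inv_mul_cancel]; exact Subgroup.one_mem _
    · have h5 : h⁻¹ * (h8negOne * h) = h8negOne := by
        rw [← Subgroup.mem_center_iff.mp h8negOne_mem_center h]; group
      rw [h5]; exact h8negOne_mem_center

theorem h8_psl2_index_eq (g : SLF) :
    (Subgroup.centralizer ({QuotientGroup.mk' (Subgroup.center SLF) g} : Set PSLF)).index
      = ((QuotientGroup.mk' (Subgroup.center SLF)) '' {h : SLF | IsConj g h}).ncard := by
  rw [← h8_ncard_conj_eq_index]
  congr 1
  ext y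
  constructor
  · intro hy
    obtain ⟨d, rfl⟩ := isConj_iff.mp hy
    obtain ⟨c, rfl⟩ := QuotientGroup.mk'_surjective _ d
    exact ⟨c * g * c⁻¹, isConj_iff.mpr ⟨c, rfl⟩, by simp⟩
  · rintro ⟨h, hh, rfl⟩
    obtain ⟨c, rfl⟩ := isConj_iff.mp hh
    exact isConj_iff.mpr ⟨QuotientGroup.mk' _ c, by simp⟩

theorem h8_sl2_odd_class_set [Fintype F] (hodd : Fintype.card F % 2 = 1) (h2 : (2 : F) ≠ 0)
    (g : SLF) (ht : Matrix.trace (g : MF) * Matrix.trace (g : MF) ≠ 4) :
    {h : SLF | IsConj g h} = {h : SLF | Matrix.trace (h : MF) = Matrix.trace (g : MF)} := by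
  have htr1 : Matrix.trace ((1 : SLF) : MF) = 2 := by
    rw [Matrix.SpecialLinearGroup.coe_one, Matrix.trace_one, Fintype.card_fin]; norm_num
  have htrn : Matrix.trace ((h8negOne : SLF) : MF) = -2 := by
    show Matrix.trace (!![-1, 0; 0, -1] : MF) = -2
    rw [Matrix.trace_fin_two_of]; ring
  have key : ∀ h : SLF, Matrix.trace (h : MF) = Matrix.trace (g : MF) →
      IsConj h (h8compT 1 (Matrix.trace (g : MF))) := by
    intro h hh
    have h1 : h ≠ 1 := by
      rintro rfl
      apply ht; rw [← hh, htr1]; norm_num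
    have hn : h ≠ h8negOne := by
      rintro rfl
      apply ht; rw [← hh, htrn]; norm_num
    obtain ⟨δ, hδ⟩ := h8_sl2_conj_some_twisted h h1 hn
    rw [hh] at hδ
    exact hδ.trans (h8compT_conj_one hodd h2 δ _ ht)
  ext h
  show IsConj g h ↔ Matrix.trace (h : MF) = Matrix.trace (g : MF)
  constructor
  · intro hc
    obtain ⟨c, rfl⟩ := isConj_iff.mp hc
    exact h8_sl2_trace_conj c g
  · intro hh
    exact (key g rfl).trans (key h hh).symm

theorem h8_sl2_odd_index [Fintype F] (hodd : Fintype.card F % 2 = 1) (h2 : (2 : F) ≠ 0)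
    (g : SLF) (ht : Matrix.trace (g : MF) * Matrix.trace (g : MF) ≠ 4) :
    ({h : SLF | IsConj g h}).ncard = Fintype.card F * (Fintype.card F - 1)
      + Nat.card {a : F // a * (Matrix.trace (g : MF) - a) = 1} * Fintype.card F := by
  rw [h8_sl2_odd_class_set hodd h2 g ht, ← h8_card_trace_eq]
  exact (Nat.card_coe_set_eq _).symm

theorem h8_card_roots_two_odd {t : F} (ht : t * t ≠ 4) (a₀ : F)
    (h₀ : a₀ * (t - a₀) = 1) : Nat.card {a : F // a * (t - a) = 1} = 2 := by
  have e0 : Nat.card {a : F // a * (t - a) = 1} = ({a : F | a * (t - a) = 1}).ncard :=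
    Nat.card_coe_set_eq _
  have hset : {a : F | a * (t - a) = 1} = {a₀, t - a₀} := by
    ext a
    show a * (t - a) = 1 ↔ a ∈ ({a₀, t - a₀} : Set F)
    rw [Set.mem_insert_iff, Set.mem_singleton_iff]
    constructor
    · intro ha
      have h3 : (a - a₀) * (t - a - a₀) = 0 := by linear_combination ha - h₀
      rcases mul_eq_zero.mp h3 with h | h
      · left; linear_combination h
      · right; linear_combination -h
    · rintro (rfl | rfl)
      · exact h₀
      · linear_combination h₀
  have hne : a₀ ≠ t - a₀ := by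
    intro h; apply ht
    have h5 : t = 2 * a₀ := by linear_combination -h
    rw [h5] at h₀ ⊢
    linear_combination 4 * h₀
  rw [e0, hset, Set.ncard_pair hne]

theorem h8_sl2_odd_index_uni [Fintype F] (h2 : (2 : F) ≠ 0) (g : SLF) (hg1 : g ≠ 1)
    (ht : Matrix.trace (g : MF) = 2) :
    ({h : SLF | IsConj g h}).ncard * 2 = Fintype.card F ^ 2 - 1 := by
  obtain ⟨b, hb, hc⟩ := h8_sl2_conj_uni g hg1 ht
  have h1 := h8uni_class_card h2 hb
  rw [← ConjClasses.mk_eq_mk_iff_isConj.mpr hc, h8_carrier_eq] at h1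
  rw [← h1]
  rfl

theorem h8_sl2_odd_index_neg_uni [Fintype F] (h2 : (2 : F) ≠ 0) (g : SLF)
    (hgn : g ≠ h8negOne) (ht : Matrix.trace (g : MF) = -2) :
    ({h : SLF | IsConj g h}).ncard * 2 = Fintype.card F ^ 2 - 1 := by
  have h1 : h8negOne * g ≠ 1 := by
    intro h0
    apply hgn
    calc g = (h8negOne * h8negOne) * g := by rw [h8negOne_mul_self, one_mul]
      _ = h8negOne * (h8negOne * g) := by rw [mul_assoc]
      _ = h8negOne := by rw [h0, mul_one]
  have h3 := h8_sl2_odd_index_uni h2 (h8negOne * g) h1 (by rw [h8negOne_mul_trace, ht]; ring)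
  rw [h8_ncard_conj_eq_index] at h3 ⊢
  have hcen : Subgroup.centralizer ({h8negOne * g} : Set SLF)
      = Subgroup.centralizer ({g} : Set SLF) := by
    ext x
    rw [Subgroup.mem_centralizer_singleton_iff, Subgroup.mem_centralizer_singleton_iff]
    have hz := Subgroup.mem_center_iff.mp (h8negOne_mem_center (F := F))
    constructor
    · intro h
      have h5 : h8negOne * (x * g) = h8negOne * (g * x) := by
        rw [← mul_assoc, ← hz x, mul_assoc, h, mul_assoc]
      exact mul_left_cancel h5
    · intro h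
      rw [← mul_assoc, hz x, mul_assoc, h, mul_assoc]
  rw [hcen] at h3
  exact h3

theorem h8_psl2_index_of_tr_ne (g : SLF) (h2 : (2 : F) ≠ 0)
    (ht : Matrix.trace (g : MF) ≠ 0) :
    (Subgroup.centralizer ({QuotientGroup.mk' (Subgroup.center SLF) g} : Set PSLF)).index
      = ({h : SLF | IsConj g h}).ncard := by
  rw [h8_psl2_index_eq]
  apply Set.InjOn.ncard_image
  intro h hh h' hh' heq
  rcases (h8_psl2_mk_eq_iff h h').mp heq with h1 | h1
  · exact h1.symm
  · exfalso
    obtain ⟨c, rfl⟩ := isConj_iff.mp hh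
    obtain ⟨c', hc'⟩ := isConj_iff.mp hh'
    have t1 : Matrix.trace (h' : MF) = Matrix.trace (g : MF) := by
      rw [← hc']; exact h8_sl2_trace_conj c' g
    have t2 : Matrix.trace (h' : MF) = -Matrix.trace (g : MF) := by
      rw [h1, h8negOne_mul_trace, h8_sl2_trace_conj]
    apply ht
    have h5 : (2 : F) * Matrix.trace (g : MF) = 0 := by linear_combination t2 - t1
    rcases mul_eq_zero.mp h5 with h | h
    · exact absurd h h2
    · exact h

theorem h8_psl2_index_of_tr_zero [Fintype F] (hodd : Fintype.card F % 2 = 1) (h2 : (2 : F) ≠ 0)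
    (g : SLF) (ht : Matrix.trace (g : MF) = 0) :
    (Subgroup.centralizer ({QuotientGroup.mk' (Subgroup.center SLF) g} : Set PSLF)).index * 2
      = Fintype.card F * (Fintype.card F - 1)
        + Nat.card {a : F // a * (Matrix.trace (g : MF) - a) = 1} * Fintype.card F := by
  have ht4 : Matrix.trace (g : MF) * Matrix.trace (g : MF) ≠ 4 := by
    rw [ht, mul_zero]; intro h0
    have h5 : (2 : F) * 2 = 0 := by linear_combination -h0
    rcases mul_eq_zero.mp h5 with h | h <;> exact h2 h
  rw [h8_psl2_index_eq, ← h8_sl2_odd_index hodd h2 g ht4]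
  symm
  apply h8_ncard_image_two _ _ (Set.toFinite _) (fun h => h8negOne * h)
  · intro h hh
    rw [h8_sl2_odd_class_set hodd h2 g ht4] at hh ⊢
    show Matrix.trace ((h8negOne * h : SLF) : MF) = Matrix.trace (g : MF)
    have hh' : Matrix.trace (h : MF) = Matrix.trace (g : MF) := hh
    rw [h8negOne_mul_trace, hh', ht, neg_zero]
  · intro h h0
    have h5 : (h8negOne : SLF) = 1 := mul_right_cancel (h0.trans (one_mul h).symm)
    have h6 := congrArg (fun g : SLF => (g : MF) 0 0) h5
    simp [h8negOne] at h6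
    apply h2
    linear_combination -h6
  · intro h h'
    exact h8_psl2_mk_eq_iff h h'

theorem h8_psl2_odd_cs [Fintype F] (hodd : Fintype.card F % 2 = 1) (h7 : 7 ≤ Fintype.card F) :
    Set.range (fun x : PSLF => (Subgroup.centralizer ({x} : Set PSLF)).index) =
      {1, (Fintype.card F ^ 2 - 1) / 2,
        (Fintype.card F * (Fintype.card F - 1)
          + Nat.card {a : F // a * (0 - a) = 1} * Fintype.card F) / 2,
        Fintype.card F * (Fintype.card F - 1), Fintype.card F * (Fintype.card F + 1)} := by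
  classical
  have hF : ringChar F ≠ 2 := by
    intro h0
    have := FiniteField.even_card_iff_char_two.mp h0
    omega
  have h2 : (2 : F) ≠ 0 := Ring.two_ne_zero hF
  have h4 : (4 : F) ≠ 0 := by
    intro h0
    have h5 : (2 : F) * 2 = 0 := by linear_combination h0
    rcases mul_eq_zero.mp h5 with h | h <;> exact h2 h
  obtain ⟨k, hk⟩ : ∃ k, Fintype.card F = k + 1 := ⟨Fintype.card F - 1, by omega⟩
  have hq2 : Fintype.card F * (Fintype.card F - 1) + 2 * Fintype.card F
      = Fintype.card F * (Fintype.card F + 1) := by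
    rw [hk, Nat.add_sub_cancel]; ring
  have hπs : Function.Surjective (QuotientGroup.mk' (Subgroup.center SLF)) :=
    QuotientGroup.mk'_surjective _
  have I1 : ∀ g : SLF, g = 1 ∨ g = h8negOne →
      (Subgroup.centralizer ({QuotientGroup.mk' (Subgroup.center SLF) g} : Set PSLF)).index
        = 1 := by
    intro g hg
    have h5 : QuotientGroup.mk' (Subgroup.center SLF) g = 1 := by
      rcases hg with rfl | rfl
      · exact map_one _
      · exact (QuotientGroup.eq_one_iff _).mpr h8negOne_mem_center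
    rw [h5]
    have h6 : Subgroup.centralizer ({1} : Set PSLF) = ⊤ := by
      ext x
      rw [Subgroup.mem_centralizer_singleton_iff]
      simp
    rw [h6, Subgroup.index_top]
  have I2 : ∀ g : SLF, g ≠ 1 → g ≠ h8negOne →
      Matrix.trace (g : MF) * Matrix.trace (g : MF) = 4 →
      (Subgroup.centralizer ({QuotientGroup.mk' (Subgroup.center SLF) g} : Set PSLF)).index
        = (Fintype.card F ^ 2 - 1) / 2 := by
    intro g hg1 hgn ht
    have ht' : Matrix.trace (g : MF) = 2 ∨ Matrix.trace (g : MF) = -2 := by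
      have h5 : (Matrix.trace (g : MF) - 2) * (Matrix.trace (g : MF) + 2) = 0 := by
        linear_combination ht
      rcases mul_eq_zero.mp h5 with h | h
      · left; linear_combination h
      · right; linear_combination h
    have htne : Matrix.trace (g : MF) ≠ 0 := by
      intro h0; rw [h0, mul_zero] at ht; exact h4 ht.symm
    rw [h8_psl2_index_of_tr_ne g h2 htne]
    rcases ht' with h | h
    · have h5 := h8_sl2_odd_index_uni h2 g hg1 h; omega
    · have h5 := h8_sl2_odd_index_neg_uni h2 g hgn h; omega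
  have I3 : ∀ g : SLF, Matrix.trace (g : MF) = 0 →
      (Subgroup.centralizer ({QuotientGroup.mk' (Subgroup.center SLF) g} : Set PSLF)).index
        = (Fintype.card F * (Fintype.card F - 1)
          + Nat.card {a : F // a * (0 - a) = 1} * Fintype.card F) / 2 := by
    intro g ht
    have h5 := h8_psl2_index_of_tr_zero hodd h2 g ht
    rw [ht] at h5
    omega
  have I4 : ∀ g : SLF, Matrix.trace (g : MF) ≠ 0 →
      Matrix.trace (g : MF) * Matrix.trace (g : MF) ≠ 4 →
      (Subgroup.centralizer ({QuotientGroup.mk' (Subgroup.center SLF) g} : Set PSLF)).index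
        = Fintype.card F * (Fintype.card F - 1)
          + Nat.card {a : F // a * (Matrix.trace (g : MF) - a) = 1} * Fintype.card F := by
    intro g ht0 ht4
    rw [h8_psl2_index_of_tr_ne g h2 ht0, h8_sl2_odd_index hodd h2 g ht4]
  -- a generator of the multiplicative group
  obtain ⟨a, ha⟩ := IsCyclic.exists_ofOrder_eq_natCard (α := Fˣ)
  have ha4 : (a : F) ^ 4 ≠ 1 := by
    intro h0
    have h1 : a ^ 4 = 1 := Units.ext (by rw [Units.val_pow_eq_pow_val, Units.val_one]; exact h0)
    have h3 := orderOf_dvd_of_pow_eq_one h1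
    rw [ha, Nat.card_units, Nat.card_eq_fintype_card] at h3
    have h5 := Nat.le_of_dvd (by norm_num) h3
    omega
  ext n
  simp only [Set.mem_range, Set.mem_insert_iff, Set.mem_singleton_iff]
  constructor
  · rintro ⟨x, rfl⟩
    obtain ⟨g, rfl⟩ := hπs x
    by_cases hg1 : g = 1
    · left; exact I1 g (Or.inl hg1)
    by_cases hgn : g = h8negOne
    · left; exact I1 g (Or.inr hgn)
    by_cases ht0 : Matrix.trace (g : MF) = 0
    · right; right; left; exact I3 g ht0
    by_cases ht4 : Matrix.trace (g : MF) * Matrix.trace (g : MF) = 4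
    · right; left; exact I2 g hg1 hgn ht4
    rw [I4 g ht0 ht4]
    by_cases hroot : ∃ a : F, a * (Matrix.trace (g : MF) - a) = 1
    · obtain ⟨a₁, ha₁⟩ := hroot
      right; right; right; right
      rw [h8_card_roots_two_odd ht4 a₁ ha₁, hq2]
    · right; right; right; left
      haveI : IsEmpty {a : F // a * (Matrix.trace (g : MF) - a) = 1} :=
        ⟨fun a => hroot ⟨a.1, a.2⟩⟩
      rw [Nat.card_of_isEmpty, zero_mul, add_zero]
  · rintro (rfl | rfl | rfl | rfl | rfl)
    · exact ⟨QuotientGroup.mk' (Subgroup.center SLF) 1, I1 1 (Or.inl rfl)⟩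
    · refine ⟨QuotientGroup.mk' (Subgroup.center SLF) (h8uni 1),
        I2 (h8uni 1) (h8uni_ne_one one_ne_zero) ?_ ?_⟩
      · intro h0
        have h1 := congrArg (fun g : SLF => (g : MF) 0 1) h0
        simp [h8uni, h8negOne] at h1
      · rw [h8uni_val, Matrix.trace_fin_two_of]; norm_num
    · exact ⟨QuotientGroup.mk' (Subgroup.center SLF) (h8compT 1 0), I3 _ (h8compT_trace 1 0)⟩
    · -- a non-split trace
      obtain ⟨ε, hε⟩ := FiniteField.exists_nonsquare hF
      have hε0 : ε ≠ 0 := by
        rintro rfl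
        exact hε ⟨0, by simp⟩
      have ha2 : (a : F) * a ≠ 1 := by
        intro h0
        apply ha4
        linear_combination ((a : F) * a + 1) * h0
      obtain ⟨v, hv0, hv⟩ : ∃ v : F, v ≠ 0 ∧ 1 + ε * v * v ≠ 0 := by
        by_cases h1 : 1 + ε = 0
        · refine ⟨a, a.ne_zero, ?_⟩
          intro h0
          apply ha2
          linear_combination (-1 : F) * h0 + (a : F) * a * h1
        · exact ⟨1, one_ne_zero, by rw [mul_one, mul_one]; exact h1⟩
      obtain ⟨w, hw⟩ : ∃ w : F, w * v = 1 := ⟨v⁻¹, inv_mul_cancel₀ hv0⟩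
      have hD : 1 - ε * v * v ≠ 0 := by
        intro h0
        apply hε
        refine ⟨w, ?_⟩
        linear_combination (-(ε * (w * v + 1))) * hw - w * w * h0
      obtain ⟨d, hd⟩ : ∃ d : F, d * (1 - ε * v * v) = 1 := ⟨_, inv_mul_cancel₀ hD⟩
      have hd0 : d ≠ 0 := by
        rintro rfl
        rw [zero_mul] at hd
        exact zero_ne_one hd
      obtain ⟨f, hf⟩ : ∃ f : F, f * 4 = 1 := ⟨_, inv_mul_cancel₀ h4⟩
      obtain ⟨t, ht⟩ : ∃ t : F, t = 2 * (1 + ε * v * v) * d := ⟨_, rfl⟩
      have ht0 : t ≠ 0 := by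
        rw [ht]
        exact mul_ne_zero (mul_ne_zero h2 hv) hd0
      have e2 : t ^ 2 - 4 = 4 * 4 * ε * v * v * d * d := by
        rw [ht]
        linear_combination (4 * (d * (1 - ε * v * v) + 1)) * hd
      have ht4 : t * t ≠ 4 := by
        intro h0
        have h5 : 4 * 4 * ε * v * v * d * d = 0 := by rw [← e2]; linear_combination h0
        exact (mul_ne_zero (mul_ne_zero (mul_ne_zero (mul_ne_zero (mul_ne_zero
          (mul_ne_zero h4 h4) hε0) hv0) hv0) hd0) hd0) h5
      have hno : ¬ ∃ a₁ : F, a₁ * (t - a₁) = 1 := by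
        rintro ⟨a₁, ha₁⟩
        apply hε
        refine ⟨(2 * a₁ - t) * w * (1 - ε * v * v) * f, ?_⟩
        have e1 : (2 * a₁ - t) ^ 2 = t ^ 2 - 4 := by linear_combination (-4 : F) * ha₁
        symm
        calc (2 * a₁ - t) * w * (1 - ε * v * v) * f * ((2 * a₁ - t) * w * (1 - ε * v * v) * f)
            = (2 * a₁ - t) ^ 2 * (w * (1 - ε * v * v) * f) ^ 2 := by ring
          _ = (4 * 4 * ε * v * v * d * d) * (w * (1 - ε * v * v) * f) ^ 2 := by rw [e1, e2]
          _ = ε * (w * v) ^ 2 * (d * (1 - ε * v * v)) ^ 2 * (f * 4) ^ 2 := by ring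
          _ = ε := by rw [hw, hd, hf]; ring
      refine ⟨QuotientGroup.mk' (Subgroup.center SLF) (h8compT 1 t), ?_⟩
      rw [I4 (h8compT 1 t) (by rw [h8compT_trace]; exact ht0) (by rw [h8compT_trace]; exact ht4),
        h8compT_trace]
      haveI : IsEmpty {a : F // a * (t - a) = 1} := ⟨fun a => hno ⟨a.1, a.2⟩⟩
      rw [Nat.card_of_isEmpty, zero_mul, add_zero]
    · -- a split trace
      obtain ⟨l, hl⟩ : ∃ l : F, (a : F) * l = 1 := ⟨(a : F)⁻¹, mul_inv_cancel₀ a.ne_zero⟩
      have ht0 : (a : F) + l ≠ 0 := by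
        intro h0
        apply ha4
        linear_combination ((a : F) ^ 2 - 1) * (a : F) * h0 - ((a : F) ^ 2 - 1) * hl
      have ht4 : ((a : F) + l) * ((a : F) + l) ≠ 4 := by
        intro h0
        have h5 : ((a : F) - l) ^ 2 = 0 := by linear_combination h0 - 4 * hl
        have h6 : (a : F) - l = 0 := by simpa using h5
        apply ha4
        linear_combination ((a : F) ^ 2 + 1) * (a : F) * h6 + ((a : F) ^ 2 + 1) * hl
      refine ⟨QuotientGroup.mk' (Subgroup.center SLF) (h8compT 1 ((a : F) + l)), ?_⟩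
      rw [I4 (h8compT 1 ((a : F) + l)) (by rw [h8compT_trace]; exact ht0)
        (by rw [h8compT_trace]; exact ht4), h8compT_trace,
        h8_card_roots_two_odd ht4 (a : F) (by linear_combination hl), hq2]

theorem h8_s2508 [Fintype F] (hodd : ¬ 2 ∣ Fintype.card F) (h7 : 7 ≤ Fintype.card F) :
    (Fintype.card F % 4 = 1 →
      Set.range (fun g : PSLF => (Subgroup.centralizer ({g} : Set PSLF)).index) =
        {1, (Fintype.card F ^ 2 - 1) / 2, Fintype.card F * (Fintype.card F + 1) / 2,
          Fintype.card F * (Fintype.card F - 1), Fintype.card F * (Fintype.card F + 1)}) ∧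
    (Fintype.card F % 4 = 3 →
      Set.range (fun g : PSLF => (Subgroup.centralizer ({g} : Set PSLF)).index) =
        {1, (Fintype.card F ^ 2 - 1) / 2, Fintype.card F * (Fintype.card F - 1) / 2,
          Fintype.card F * (Fintype.card F + 1), Fintype.card F * (Fintype.card F - 1)}) := by
  have hodd' : Fintype.card F % 2 = 1 := by omega
  have hF : ringChar F ≠ 2 := by
    intro h0
    have := FiniteField.even_card_iff_char_two.mp h0
    omega
  have h2 : (2 : F) ≠ 0 := Ring.two_ne_zero hF
  have h4 : (4 : F) ≠ 0 := by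
    intro h0
    have h5 : (2 : F) * 2 = 0 := by linear_combination h0
    rcases mul_eq_zero.mp h5 with h | h <;> exact h2 h
  have hcs := h8_psl2_odd_cs hodd' h7
  obtain ⟨k, hk⟩ : ∃ k, Fintype.card F = k + 1 := ⟨Fintype.card F - 1, by omega⟩
  have hq2 : Fintype.card F * (Fintype.card F - 1) + 2 * Fintype.card F
      = Fintype.card F * (Fintype.card F + 1) := by
    rw [hk, Nat.add_sub_cancel]; ring
  constructor
  · intro h41
    have hsq : IsSquare (-1 : F) := FiniteField.isSquare_neg_one_iff.mpr (by omega)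
    obtain ⟨i, hi⟩ := hsq
    have hr : Nat.card {a : F // a * (0 - a) = 1} = 2 :=
      h8_card_roots_two_odd (t := 0) (by rw [mul_zero]; exact h4.symm) i
        (by linear_combination hi)
    rw [hcs, hr, hq2]
  · intro h43
    have hnsq : ¬ IsSquare (-1 : F) := fun h => (FiniteField.isSquare_neg_one_iff.mp h) h43
    haveI : IsEmpty {a : F // a * (0 - a) = 1} :=
      ⟨fun a => hnsq ⟨a.1, by linear_combination a.2⟩⟩
    rw [hcs, Nat.card_of_isEmpty, zero_mul, add_zero]
    ext n
    simp only [Set.mem_insert_iff, Set.mem_singleton_iff]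
    tauto

end

end Cfsg.Agent.Lib.Helper8
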