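import Mathlib
import Cfsg.Prelude.Def_OddOrderLocal
import Cfsg.Agent.Lib.Helper8.SL2Odd

set_option autoImplicit false
set_option linter.style.haveILetI false
set_option linter.unusedSectionVars false
set_option linter.unusedVariables false

universe u

namespace Cfsg.Agent.Lib.Helper8

open Matrix

/-- in a group where commuting is transitive on non-identity elements, centralizers are TI -/
theorem h8_ti_of_comm_trans {G : Type u} [Group G]
    (hct : ∀ a b c : G, b ≠ 1 → a * b = b * a → b * c = c * b → a * c = c * a) (x₀ : G) :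
    Cfsg.IsTISubset (Subgroup.centralizer ({x₀} : Set G) : Set G) := by
  intro g hg x hx hgx
  by_contra hx1
  apply hg
  rw [Subgroup.mem_set_normalizer_iff]
  intro n
  have hmem : ∀ y : G, y ∈ (Subgroup.centralizer ({x₀} : Set G) : Set G) ↔ y * x₀ = x₀ * y := by
    intro y
    rw [SetLike.mem_coe, Subgroup.mem_centralizer_singleton_iff]
  rw [hmem] at hx hgx
  rw [hmem, hmem]
  by_cases h0 : x₀ = 1
  · subst h0; simp
  · have hxc : x * (g⁻¹ * x₀ * g) = (g⁻¹ * x₀ * g) * x := by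
      calc x * (g⁻¹ * x₀ * g) = g⁻¹ * (g * x * g⁻¹ * x₀) * g := by group
        _ = g⁻¹ * (x₀ * (g * x * g⁻¹)) * g := by rw [hgx]
        _ = (g⁻¹ * x₀ * g) * x := by group
    have hy1 : g⁻¹ * x₀ * g ≠ 1 := by
      intro h; apply h0
      calc x₀ = g * (g⁻¹ * x₀ * g) * g⁻¹ := by group
        _ = 1 := by rw [h]; group
    have h1 : x₀ * (g⁻¹ * x₀ * g) = (g⁻¹ * x₀ * g) * x₀ :=
      hct x₀ x (g⁻¹ * x₀ * g) hx1 hx.symm hxc
    have key : (g * n * g⁻¹ * x₀ = x₀ * (g * n * g⁻¹))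
        ↔ n * (g⁻¹ * x₀ * g) = (g⁻¹ * x₀ * g) * n := by
      constructor
      · intro h
        calc n * (g⁻¹ * x₀ * g) = g⁻¹ * (g * n * g⁻¹ * x₀) * g := by group
          _ = g⁻¹ * (x₀ * (g * n * g⁻¹)) * g := by rw [h]
          _ = (g⁻¹ * x₀ * g) * n := by group
      · intro h
        calc g * n * g⁻¹ * x₀ = g * (n * (g⁻¹ * x₀ * g)) * g⁻¹ := by group
          _ = g * ((g⁻¹ * x₀ * g) * n) * g⁻¹ := by rw [h]
          _ = x₀ * (g * n * g⁻¹) := by group
    rw [key]
    constructor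
    · intro hn
      exact hct n x₀ (g⁻¹ * x₀ * g) h0 hn h1
    · intro hn
      exact hct n (g⁻¹ * x₀ * g) x₀ hy1 hn h1.symm

section
variable {F : Type u} [Field F]

local notation "SLF" => Matrix.SpecialLinearGroup (Fin 2) F
local notation "MF" => Matrix (Fin 2) (Fin 2) F
local notation "PSLF" => Matrix.ProjectiveSpecialLinearGroup (Fin 2) F

/-- a matrix commuting with a non-scalar 2×2 matrix is a polynomial in it -/
theorem h8_comm_nonscalar {p q r s a b c d : F} (hns : q ≠ 0 ∨ r ≠ 0 ∨ p ≠ s)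
    (e00 : b * r = q * c) (e01 : q * (a - d) = b * (p - s)) (e10 : c * (p - s) = r * (a - d)) :
    ∃ x y : F, a = x + y * p ∧ b = y * q ∧ c = y * r ∧ d = x + y * s := by
  rcases hns with hq | hr | hps
  · obtain ⟨l, hl⟩ : ∃ l : F, l * q = 1 := ⟨q⁻¹, inv_mul_cancel₀ hq⟩
    refine ⟨a - b * l * p, b * l, by ring, ?_, ?_, ?_⟩
    · linear_combination (-b) * hl
    · linear_combination (-c) * hl - l * e00
    · linear_combination (a - d) * hl - l * e01
  · obtain ⟨l, hl⟩ : ∃ l : F, l * r = 1 := ⟨r⁻¹, inv_mul_cancel₀ hr⟩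
    refine ⟨a - c * l * p, c * l, by ring, ?_, ?_, ?_⟩
    · linear_combination (-b) * hl + l * e00
    · linear_combination (-c) * hl
    · linear_combination (a - d) * hl + l * e10
  · obtain ⟨l, hl⟩ : ∃ l : F, l * (p - s) = 1 :=
      ⟨(p - s)⁻¹, inv_mul_cancel₀ (sub_ne_zero.mpr hps)⟩
    refine ⟨a - (a - d) * l * p, (a - d) * l, by ring, ?_, ?_, ?_⟩
    · linear_combination (-b) * hl - l * e01
    · linear_combination (-c) * hl + l * e10
    · linear_combination (a - d) * hl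

/-- commuting is transitive through a non-scalar element of `SL₂` -/
theorem h8_sl2_comm_trans (A B C : SLF)
    (hB : (B : MF) 0 1 ≠ 0 ∨ (B : MF) 1 0 ≠ 0 ∨ (B : MF) 0 0 ≠ (B : MF) 1 1)
    (hAB : A * B = B * A) (hBC : B * C = C * B) : A * C = C * A := by
  obtain ⟨p, q, r, s, hBm⟩ : ∃ p q r s : F, (B : MF) = !![p, q; r, s] :=
    ⟨_, _, _, _, Matrix.eta_fin_two _⟩
  obtain ⟨a, b, c, d, hAm⟩ : ∃ a b c d : F, (A : MF) = !![a, b; c, d] :=
    ⟨_, _, _, _, Matrix.eta_fin_two _⟩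
  obtain ⟨a', b', c', d', hCm⟩ : ∃ a' b' c' d' : F, (C : MF) = !![a', b'; c', d'] :=
    ⟨_, _, _, _, Matrix.eta_fin_two _⟩
  have hns : q ≠ 0 ∨ r ≠ 0 ∨ p ≠ s := by
    rw [hBm] at hB; simpa using hB
  have h1 := congrArg Subtype.val hAB
  rw [Matrix.SpecialLinearGroup.coe_mul, Matrix.SpecialLinearGroup.coe_mul, hAm, hBm,
    Matrix.mul_fin_two, Matrix.mul_fin_two] at h1
  obtain ⟨e00, e01, e10, e11⟩ := h8_fin_two_inj h1
  have h2 := congrArg Subtype.val hBC
  rw [Matrix.SpecialLinearGroup.coe_mul, Matrix.SpecialLinearGroup.coe_mul, hCm, hBm,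
    Matrix.mul_fin_two, Matrix.mul_fin_two] at h2
  obtain ⟨f00, f01, f10, f11⟩ := h8_fin_two_inj h2
  obtain ⟨x, y, ha, hb, hc, hd⟩ := h8_comm_nonscalar hns (a := a) (b := b) (c := c) (d := d)
    (by linear_combination e00) (by linear_combination e01) (by linear_combination e10)
  obtain ⟨x', y', ha', hb', hc', hd'⟩ := h8_comm_nonscalar hns (a := a') (b := b') (c := c')
    (d := d') (by linear_combination -f00) (by linear_combination -f01)
    (by linear_combination -f10)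
  apply Subtype.ext
  rw [Matrix.SpecialLinearGroup.coe_mul, Matrix.SpecialLinearGroup.coe_mul, hAm, hCm,
    Matrix.mul_fin_two, Matrix.mul_fin_two, ha, hb, hc, hd, ha', hb', hc', hd']
  refine h8_fin_two_congr ?_ ?_ ?_ ?_ <;> ring

theorem h8_sl2_nonscalar_char2 [CharP F 2] (B : SLF) (hB : B ≠ 1) :
    (B : MF) 0 1 ≠ 0 ∨ (B : MF) 1 0 ≠ 0 ∨ (B : MF) 0 0 ≠ (B : MF) 1 1 := by
  by_contra hcon
  push Not at hcon
  obtain ⟨h01, h10, h00⟩ := hcon
  apply hB
  have hdet := B.det_coe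
  rw [Matrix.det_fin_two, h01, h10, ← h00] at hdet
  have h2 : (2 : F) = 0 := CharTwo.two_eq_zero
  have h3 : ((B : MF) 0 0 - 1) ^ 2 = 0 := by
    linear_combination hdet + (1 - (B : MF) 0 0) * h2
  have h4 : (B : MF) 0 0 - 1 = 0 := by simpa using h3
  have h5 : (B : MF) 0 0 = 1 := by linear_combination h4
  apply Subtype.ext
  have h6 := Matrix.eta_fin_two (B : MF)
  rw [h01, h10, ← h00, h5] at h6
  rw [h6, Matrix.SpecialLinearGroup.coe_one, Matrix.one_fin_two]

theorem h8_sl2_center_char2 [CharP F 2] : Subgroup.center SLF = ⊥ := by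
  have h2F : (2 : F) = 0 := CharTwo.two_eq_zero
  rw [eq_bot_iff]
  intro A hA
  rw [Matrix.SpecialLinearGroup.mem_center_iff] at hA
  obtain ⟨r, hr, hA⟩ := hA
  rw [Fintype.card_fin] at hr
  have hr1 : r = 1 := by
    have h3 : (r - 1) ^ 2 = 0 := by linear_combination hr + (1 - r) * h2F
    have h4 : r - 1 = 0 := by simpa using h3
    linear_combination h4
  rw [Subgroup.mem_bot]
  apply Subtype.ext
  rw [← hA, hr1, map_one, Matrix.SpecialLinearGroup.coe_one]

theorem h8_psl2_char2_comm_trans [CharP F 2] (a b c : PSLF) (hb : b ≠ 1)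
    (hab : a * b = b * a) (hbc : b * c = c * b) : a * c = c * a := by
  have hπs : Function.Surjective (QuotientGroup.mk' (Subgroup.center SLF)) :=
    QuotientGroup.mk'_surjective _
  have hπi : Function.Injective (QuotientGroup.mk' (Subgroup.center SLF)) := by
    rw [← MonoidHom.ker_eq_bot_iff, QuotientGroup.ker_mk', h8_sl2_center_char2]
  obtain ⟨A, rfl⟩ := hπs a
  obtain ⟨B, rfl⟩ := hπs b
  obtain ⟨C, rfl⟩ := hπs c
  have hB : B ≠ 1 := by
    rintro rfl
    exact hb (map_one _)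
  have hAB : A * B = B * A := hπi (by rw [map_mul, map_mul]; exact hab)
  have hBC : B * C = C * B := hπi (by rw [map_mul, map_mul]; exact hbc)
  have h5 := h8_sl2_comm_trans A B C (h8_sl2_nonscalar_char2 B hB) hAB hBC
  rw [← map_mul, ← map_mul, h5]

theorem h8_s4065 [CharP F 2] (x : PSLF) :
    Cfsg.IsTISubset (Subgroup.centralizer ({x} : Set PSLF) : Set PSLF) :=
  h8_ti_of_comm_trans (fun a b c hb hab hbc => h8_psl2_char2_comm_trans a b c hb hab hbc) x

end

end Cfsg.Agent.Lib.Helper8
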