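import Mathlib
import Cfsg.Agent.S0242
import Cfsg.Agent.Lib.Helper8.PSL2Odd
import Cfsg.Agent.Lib.Helper8.TICent

set_option autoImplicit false
set_option linter.style.haveILetI false
set_option linter.unusedSectionVars false
set_option linter.unusedVariables false

universe u

namespace Cfsg.Agent.Lib.Helper8

open Matrix

theorem h8_pow_card_centralizer {G : Type*} [Group G] (g : G) :
    g ^ Nat.card (Subgroup.centralizer ({g} : Set G)) = 1 := by
  have hmem : g ∈ Subgroup.centralizer ({g} : Set G) :=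
    Subgroup.mem_centralizer_singleton_iff.mpr rfl
  have h := pow_card_eq_one' (G := Subgroup.centralizer ({g} : Set G)) (x := ⟨g, hmem⟩)
  have h2 := congrArg Subtype.val h
  simpa only [Subgroup.coe_pow, Subgroup.coe_one] using h2

section
variable {F : Type u} [Field F]

local notation "SLF" => Matrix.SpecialLinearGroup (Fin 2) F
local notation "MF" => Matrix (Fin 2) (Fin 2) F
local notation "PSLF" => Matrix.ProjectiveSpecialLinearGroup (Fin 2) F
local notation "πF" => QuotientGroup.mk' (Subgroup.center (Matrix.SpecialLinearGroup (Fin 2) F))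

/-- in odd characteristic the only square roots of 1 in `SL₂` are `±1` -/
theorem h8_sl2_sq_one (h2 : (2 : F) ≠ 0) (h : SLF) (hh : h * h = 1) : h = 1 ∨ h = h8negOne := by
  obtain ⟨a, b, c, d, hm⟩ : ∃ a b c d : F, (h : MF) = !![a, b; c, d] :=
    ⟨_, _, _, _, Matrix.eta_fin_two _⟩
  have hdet : a * d - b * c = 1 := by
    have h0 := h.det_coe
    rw [hm, Matrix.det_fin_two_of] at h0; exact h0
  have h0 := congrArg Subtype.val hh
  rw [Matrix.SpecialLinearGroup.coe_mul, hm, Matrix.mul_fin_two,
    Matrix.SpecialLinearGroup.coe_one, Matrix.one_fin_two] at h0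
  obtain ⟨e00, e01, e10, e11⟩ := h8_fin_two_inj h0
  have hs : a + d ≠ 0 := by
    intro hs
    apply h2
    linear_combination a * hs - e00 - hdet
  have hb : b = 0 := by
    have h5 : b * (a + d) = 0 := by linear_combination e01
    rcases mul_eq_zero.mp h5 with h | h
    · exact h
    · exact absurd h hs
  have hc : c = 0 := by
    have h5 : c * (a + d) = 0 := by linear_combination e10
    rcases mul_eq_zero.mp h5 with h | h
    · exact h
    · exact absurd h hs
  rw [hb] at e00 hdet
  have ha : (a - 1) * (a + 1) = 0 := by linear_combination e00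
  have hd : d = a := by linear_combination a * hdet - d * e00
  rcases mul_eq_zero.mp ha with h | h
  · left
    apply Subtype.ext
    rw [hm, hb, hc, hd, show a = 1 by linear_combination h, Matrix.SpecialLinearGroup.coe_one,
      Matrix.one_fin_two]
  · right
    apply Subtype.ext
    rw [hm, hb, hc, hd, show a = -1 by linear_combination h]
    rfl

theorem h8_card_SL2 [Fintype F] : Nat.card SLF = Fintype.card F * (Fintype.card F ^ 2 - 1) := by
  have h := Cfsg.Agent.S0242.result (F := F) (q := Fintype.card F) rfl 2 (by norm_num)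
  rw [Fin.prod_univ_two] at h
  simp only [Fin.val_zero, Fin.val_one, pow_zero, pow_one] at h
  obtain ⟨k, hk⟩ : ∃ k, Fintype.card F = k + 2 :=
    ⟨Fintype.card F - 2, by have := Fintype.one_lt_card (α := F); omega⟩
  rw [hk] at h ⊢
  have e1 : (k + 2) ^ 2 - (k + 2) = (k + 2) * (k + 1) := by
    apply Nat.sub_eq_of_eq_add; ring
  rw [e1, show k + 2 - 1 = k + 1 by omega] at h
  have h5 : (k + 1) * Nat.card SLF = (k + 1) * ((k + 2) * ((k + 2) ^ 2 - 1)) := by
    rw [h]; ring
  exact Nat.eq_of_mul_eq_mul_left (by omega) h5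

theorem h8_sl2_index_regular [Fintype F] (g : SLF)
    (ht : Matrix.trace (g : MF) * Matrix.trace (g : MF) ≠ 4) :
    (Subgroup.centralizer ({g} : Set SLF)).index = Fintype.card F * (Fintype.card F - 1)
      + Nat.card {a : F // a * (Matrix.trace (g : MF) - a) = 1} * Fintype.card F := by
  by_cases h2 : (2 : F) = 0
  · haveI : CharP F 2 := CharTwo.of_one_ne_zero_of_two_eq_zero one_ne_zero h2
    have ht0 : Matrix.trace (g : MF) ≠ 0 := by
      intro h0; apply ht; rw [h0, mul_zero]; linear_combination (-2 : F) * h2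
    exact h8_sl2_even_index_tr_ne g ht0
  · have hF : ringChar F ≠ 2 := by
      intro h0
      apply h2
      haveI : CharP F 2 := ringChar.of_eq h0
      exact CharTwo.two_eq_zero
    have hodd : Fintype.card F % 2 = 1 := by
      by_contra hcon
      exact hF (FiniteField.even_card_iff_char_two.mpr (by omega))
    rw [← h8_ncard_conj_eq_index]
    exact h8_sl2_odd_index hodd h2 g ht

theorem h8_sl2_card_centralizer_regular [Fintype F] (g : SLF)
    (ht : Matrix.trace (g : MF) * Matrix.trace (g : MF) ≠ 4) :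
    Nat.card (Subgroup.centralizer ({g} : Set SLF)) = Fintype.card F - 1 ∨
      Nat.card (Subgroup.centralizer ({g} : Set SLF)) = Fintype.card F + 1 := by
  have h1 := Subgroup.card_mul_index (Subgroup.centralizer ({g} : Set SLF))
  rw [h8_card_SL2, h8_sl2_index_regular g ht] at h1
  obtain ⟨k, hk⟩ : ∃ k, Fintype.card F = k + 2 :=
    ⟨Fintype.card F - 2, by have := Fintype.one_lt_card (α := F); omega⟩
  have e0 : (k + 2) ^ 2 - 1 = (k + 1) * (k + 3) := by
    apply Nat.sub_eq_of_eq_add; ring
  by_cases hroot : ∃ a : F, a * (Matrix.trace (g : MF) - a) = 1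
  · obtain ⟨a, ha⟩ := hroot
    left
    rw [h8_card_roots_two_odd ht a ha, hk, e0, show k + 2 - 1 = k + 1 by omega] at h1
    rw [hk]
    have h5 : Nat.card (Subgroup.centralizer ({g} : Set SLF)) * ((k + 2) * (k + 3))
        = (k + 1) * ((k + 2) * (k + 3)) := by
      have e : (k + 2) * (k + 1) + 2 * (k + 2) = (k + 2) * (k + 3) := by ring
      rw [e] at h1
      rw [h1]; ring
    have h6 := Nat.eq_of_mul_eq_mul_right (by positivity) h5
    omega
  · right
    haveI : IsEmpty {a : F // a * (Matrix.trace (g : MF) - a) = 1} :=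
      ⟨fun a => hroot ⟨a.1, a.2⟩⟩
    have hz : Nat.card {a : F // a * (Matrix.trace (g : MF) - a) = 1} = 0 := Nat.card_of_isEmpty
    rw [hz, zero_mul, add_zero, hk, e0, show k + 2 - 1 = k + 1 by omega] at h1
    rw [hk]
    have h5 : Nat.card (Subgroup.centralizer ({g} : Set SLF)) * ((k + 2) * (k + 1))
        = (k + 3) * ((k + 2) * (k + 1)) := by
      rw [h1]; ring
    have h6 := Nat.eq_of_mul_eq_mul_right (by positivity) h5
    omega

theorem h8_psl2_mk_eq_one_iff (g : SLF) : πF g = 1 ↔ (g = 1 ∨ g = h8negOne) := by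
  constructor
  · intro h
    exact h8_sl2_center_cases g ((QuotientGroup.eq_one_iff g).mp h)
  · rintro (rfl | rfl)
    · exact map_one _
    · exact (QuotientGroup.eq_one_iff _).mpr h8negOne_mem_center

theorem h8_psl2_orderOf_of_two_ne (h2 : (2 : F) ≠ 0) (g : SLF) (N : ℕ)
    (hN : orderOf g = 2 * N) : orderOf (πF g) = N := by
  apply Nat.dvd_antisymm
  · apply orderOf_dvd_of_pow_eq_one
    rw [← map_pow]
    have hh : g ^ N * g ^ N = 1 := by
      rw [← pow_add, ← two_mul, ← hN]; exact pow_orderOf_eq_one g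
    exact (h8_psl2_mk_eq_one_iff _).mpr (h8_sl2_sq_one h2 _ hh)
  · have h1 : (πF g) ^ orderOf (πF g) = 1 := pow_orderOf_eq_one _
    rw [← map_pow] at h1
    have h3 := (h8_psl2_mk_eq_one_iff _).mp h1
    have h4 : g ^ (2 * orderOf (πF g)) = 1 := by
      rw [two_mul, pow_add]
      rcases h3 with h | h
      · rw [h, one_mul]
      · rw [h, h8negOne_mul_self]
    have h5 := orderOf_dvd_of_pow_eq_one h4
    rw [hN] at h5
    exact Nat.dvd_of_mul_dvd_mul_left (by norm_num) h5

theorem h8_psl2_orderOf_of_two_eq (h2 : (2 : F) = 0) (g : SLF) :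
    orderOf (πF g) = orderOf g := by
  haveI : CharP F 2 := CharTwo.of_one_ne_zero_of_two_eq_zero one_ne_zero h2
  have hπi : Function.Injective πF := by
    rw [← MonoidHom.ker_eq_bot_iff, QuotientGroup.ker_mk', h8_sl2_center_char2]
  exact orderOf_injective _ hπi g

/-- the diagonal torus as a homomorphism -/
def h8dgHom : Fˣ →* SLF where
  toFun a := ⟨!![(a : F), 0; 0, ((a⁻¹ : Fˣ) : F)], by rw [Matrix.det_fin_two_of]; simp⟩
  map_one' := by
    apply Subtype.ext
    show !![((1 : Fˣ) : F), 0; 0, (((1 : Fˣ)⁻¹ : Fˣ) : F)] = ((1 : SLF) : MF)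
    rw [Matrix.SpecialLinearGroup.coe_one, Matrix.one_fin_two, inv_one, Units.val_one]
  map_mul' a b := by
    apply Subtype.ext
    show !![((a * b : Fˣ) : F), 0; 0, (((a * b)⁻¹ : Fˣ) : F)]
      = !![(a : F), 0; 0, ((a⁻¹ : Fˣ) : F)] * !![(b : F), 0; 0, ((b⁻¹ : Fˣ) : F)]
    rw [Matrix.mul_fin_two, mul_inv, Units.val_mul, Units.val_mul]
    refine h8_fin_two_congr ?_ ?_ ?_ ?_ <;> ring

theorem h8dgHom_val (a : Fˣ) :
    ((h8dgHom a : SLF) : MF) = !![(a : F), 0; 0, ((a⁻¹ : Fˣ) : F)] := rfl

theorem h8dgHom_injective : Function.Injective (h8dgHom : Fˣ →* SLF) := by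
  intro a b hab
  have h1 : ((h8dgHom a : SLF) : MF) 0 0 = ((h8dgHom b : SLF) : MF) 0 0 := by rw [hab]
  rw [h8dgHom_val, h8dgHom_val] at h1
  apply Units.ext
  simpa using h1

theorem h8_sl2_exists_order_q_add_one [Fintype F] :
    ∃ g : SLF, orderOf g = Fintype.card F + 1 := by
  classical
  obtain ⟨p, hp⟩ := CharP.exists F
  haveI := hp
  haveI : Fact p.Prime := ⟨CharP.char_is_prime F p⟩
  have hrank : Module.finrank F (FiniteField.Extension F p 2) = 2 :=
    FiniteField.finrank_extension F p 2
  obtain ⟨q, hqdef⟩ : ∃ q, q = Fintype.card F := ⟨_, rfl⟩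
  have hcardK : Nat.card (FiniteField.Extension F p 2) = q ^ 2 := by
    rw [Module.natCard_eq_pow_finrank (K := F) (V := FiniteField.Extension F p 2), hrank,
      Nat.card_eq_fintype_card, hqdef]
  obtain ⟨g0, hg0⟩ := IsCyclic.exists_ofOrder_eq_natCard (α := (FiniteField.Extension F p 2)ˣ)
  have hq2 : 2 ≤ q := by rw [hqdef]; exact Fintype.one_lt_card
  obtain ⟨k, hk⟩ : ∃ k, q = k + 1 := ⟨q - 1, by omega⟩
  have hcu : Nat.card (FiniteField.Extension F p 2)ˣ = (q - 1) * (q + 1) := by
    rw [Nat.card_units, hcardK, hk, Nat.add_sub_cancel]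
    apply Nat.sub_eq_of_eq_add; ring
  let φ : (FiniteField.Extension F p 2) →* Module.End F (FiniteField.Extension F p 2) :=
    (Algebra.lmul F (FiniteField.Extension F p 2) :
      (FiniteField.Extension F p 2) →ₐ[F] Module.End F (FiniteField.Extension F p 2)
      ).toRingHom.toMonoidHom
  have hφinj : Function.Injective φ := fun a b hab =>
    Algebra.lmul_injective (R := F) (A := FiniteField.Extension F p 2) hab
  let b : Module.Basis (Fin 2) F (FiniteField.Extension F p 2) :=
    Module.finBasisOfFinrankEq F (FiniteField.Extension F p 2) hrank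
  let e : (Module.End F (FiniteField.Extension F p 2))ˣ ≃* GL (Fin 2) F :=
    Units.mapEquiv (LinearMap.toMatrixAlgEquiv b).toMulEquiv
  obtain ⟨x, hxdef⟩ : ∃ x : GL (Fin 2) F, x = e (Units.map φ g0) := ⟨_, rfl⟩
  have hx : orderOf x = (q - 1) * (q + 1) := by
    rw [hxdef, MulEquiv.orderOf_eq, orderOf_injective (Units.map φ) (Units.map_injective hφinj),
      hg0, hcu]
  have hy : orderOf (x ^ (q - 1)) = q + 1 := by
    rw [orderOf_pow_of_dvd (by omega) (by rw [hx]; exact dvd_mul_right _ _), hx]
    exact Nat.mul_div_cancel_left _ (by omega)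
  have hdet : Matrix.GeneralLinearGroup.det (x ^ (q - 1)) = 1 := by
    rw [map_pow]
    have h5 := pow_card_eq_one' (G := Fˣ) (x := Matrix.GeneralLinearGroup.det x)
    rw [Nat.card_units, Nat.card_eq_fintype_card, ← hqdef] at h5
    exact h5
  have hdet' : ((x ^ (q - 1) : GL (Fin 2) F) : MF).det = 1 := by
    have h5 := congrArg Units.val hdet
    rw [Matrix.GeneralLinearGroup.val_det_apply] at h5
    simpa using h5
  refine ⟨⟨((x ^ (q - 1) : GL (Fin 2) F) : MF), hdet'⟩, ?_⟩
  rw [← hqdef, ← hy]
  have hto : Matrix.SpecialLinearGroup.toGL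
      (⟨((x ^ (q - 1) : GL (Fin 2) F) : MF), hdet'⟩ : SLF) = x ^ (q - 1) := by
    apply Units.ext
    rfl
  exact (orderOf_injective Matrix.SpecialLinearGroup.toGL
    Matrix.SpecialLinearGroup.toGL_injective _).symm.trans (congrArg orderOf hto)

theorem h8_s2475 [Fintype F] (p : ℕ) [Fact p.Prime] [CharP F p] (h4 : 4 ≤ Fintype.card F) :
    Set.range (orderOf : PSLF → ℕ) =
      {m : ℕ | m ∣ p ∨ m ∣ (Fintype.card F - 1) / Nat.gcd 2 (Fintype.card F - 1) ∨
        m ∣ (Fintype.card F + 1) / Nat.gcd 2 (Fintype.card F - 1)} := by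
  classical
  have hp := (Fact.out : p.Prime)
  obtain ⟨q, hq⟩ : ∃ q, q = Fintype.card F := ⟨_, rfl⟩
  rw [← hq] at h4 ⊢
  have hπs : Function.Surjective πF := QuotientGroup.mk'_surjective _
  have hdown : ∀ x : PSLF, orderOf x ≠ 0 → ∀ m, m ∣ orderOf x →
      m ∈ Set.range (orderOf : PSLF → ℕ) := by
    intro x hx m hm
    obtain ⟨k, hk⟩ := hm
    refine ⟨x ^ k, ?_⟩
    have hk0 : k ≠ 0 := by
      rintro rfl
      rw [mul_zero] at hk; exact hx hk
    rw [orderOf_pow_of_dvd hk0 (by rw [hk]; exact dvd_mul_left _ _), hk]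
    exact Nat.mul_div_cancel _ (Nat.pos_of_ne_zero hk0)
  have hpow : ∀ g : SLF, g ≠ 1 → Matrix.trace (g : MF) = 2 → g ^ p = 1 := by
    intro g hg1 ht
    have h5 := pow_orderOf_eq_one g
    rw [(h8_sl2_orderOf_iff p g).mpr ⟨hg1, ht⟩] at h5
    exact h5
  have hxp : orderOf (πF (h8uni 1)) = p := by
    apply orderOf_eq_prime
    · rw [← map_pow]
      have h5 : h8uni (1 : F) ^ p = 1 := by
        have h6 := pow_orderOf_eq_one (h8uni (1 : F))
        rw [h8uni_orderOf p one_ne_zero] at h6
        exact h6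
      rw [h5, map_one]
    · intro h0
      rcases (h8_psl2_mk_eq_one_iff _).mp h0 with h | h
      · exact h8uni_ne_one one_ne_zero h
      · have h1 := congrArg (fun g : SLF => (g : MF) 0 1) h
        simp [h8uni, h8negOne] at h1
  obtain ⟨a, ha⟩ := IsCyclic.exists_ofOrder_eq_natCard (α := Fˣ)
  have hga : orderOf (h8dgHom a) = q - 1 := by
    rw [orderOf_injective h8dgHom h8dgHom_injective, ha, Nat.card_units,
      Nat.card_eq_fintype_card, hq]
  obtain ⟨g₁, hg₁⟩ := h8_sl2_exists_order_q_add_one (F := F)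
  rw [← hq] at hg₁
  by_cases hp2 : p = 2
  · subst hp2
    have h2 : (2 : F) = 0 := CharTwo.two_eq_zero
    have hqe : q % 2 = 0 := by
      rw [hq]; exact FiniteField.even_card_iff_char_two.mp (ringChar.eq F 2)
    have hgcd : Nat.gcd 2 (q - 1) = 1 := by
      have hd : Nat.gcd 2 (q - 1) ∣ 2 := Nat.gcd_dvd_left _ _
      have hd2 : Nat.gcd 2 (q - 1) ∣ q - 1 := Nat.gcd_dvd_right _ _
      rcases (Nat.dvd_prime Nat.prime_two).mp hd with h | h
      · exact h
      · exfalso; rw [h] at hd2; omega
    rw [hgcd, Nat.div_one, Nat.div_one]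
    have hord : ∀ g : SLF, orderOf (πF g) = orderOf g := fun g => h8_psl2_orderOf_of_two_eq h2 g
    ext m
    constructor
    · rintro ⟨x, rfl⟩
      obtain ⟨g, rfl⟩ := hπs x
      show orderOf (πF g) ∣ 2 ∨ orderOf (πF g) ∣ q - 1 ∨ orderOf (πF g) ∣ q + 1
      rw [hord]
      by_cases ht : Matrix.trace (g : MF) * Matrix.trace (g : MF) = 4
      · left
        have ht2 : Matrix.trace (g : MF) = 2 := by
          have h5 : Matrix.trace (g : MF) * Matrix.trace (g : MF) = 0 := by
            rw [ht]; linear_combination (2 : F) * h2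
          have h6 := mul_self_eq_zero.mp h5
          rw [h6]; exact h2.symm
        by_cases hg1 : g = 1
        · rw [hg1, orderOf_one]; exact one_dvd _
        · exact dvd_of_eq ((h8_sl2_orderOf_iff 2 g).mpr ⟨hg1, ht2⟩)
      · right
        have hc := h8_pow_card_centralizer g
        rcases h8_sl2_card_centralizer_regular g ht with h | h
        · left; rw [h, ← hq] at hc; exact orderOf_dvd_of_pow_eq_one hc
        · right; rw [h, ← hq] at hc; exact orderOf_dvd_of_pow_eq_one hc
    · rintro (hm | hm | hm)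
      · exact hdown _ (by rw [hxp]; norm_num) m (by rw [hxp]; exact hm)
      · exact hdown (πF (h8dgHom a)) (by rw [hord, hga]; omega) m (by rw [hord, hga]; exact hm)
      · exact hdown (πF g₁) (by rw [hord, hg₁]; omega) m (by rw [hord, hg₁]; exact hm)
  · have hF : ringChar F ≠ 2 := by rw [ringChar.eq F p]; exact hp2
    have h2 : (2 : F) ≠ 0 := Ring.two_ne_zero hF
    have hqo : q % 2 = 1 := by
      by_contra hcon
      apply hF
      rw [hq] at hcon
      exact FiniteField.even_card_iff_char_two.mpr (by omega)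
    have hgcd : Nat.gcd 2 (q - 1) = 2 := Nat.gcd_eq_left (by omega)
    rw [hgcd]
    ext m
    constructor
    · rintro ⟨x, rfl⟩
      obtain ⟨g, rfl⟩ := hπs x
      show orderOf (πF g) ∣ p ∨ orderOf (πF g) ∣ (q - 1) / 2 ∨ orderOf (πF g) ∣ (q + 1) / 2
      by_cases ht : Matrix.trace (g : MF) * Matrix.trace (g : MF) = 4
      · left
        apply orderOf_dvd_of_pow_eq_one
        have ht' : Matrix.trace (g : MF) = 2 ∨ Matrix.trace (g : MF) = -2 := by
          have h5 : (Matrix.trace (g : MF) - 2) * (Matrix.trace (g : MF) + 2) = 0 := by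
            linear_combination ht
          rcases mul_eq_zero.mp h5 with h | h
          · left; linear_combination h
          · right; linear_combination h
        rcases ht' with h | h
        · by_cases hg1 : g = 1
          · rw [hg1, map_one, one_pow]
          · rw [← map_pow, hpow g hg1 h, map_one]
        · have hπ : πF g = πF (h8negOne * g) := by
            rw [map_mul, (h8_psl2_mk_eq_one_iff _).mpr (Or.inr rfl), one_mul]
          rw [hπ]
          have htr : Matrix.trace ((h8negOne * g : SLF) : MF) = 2 := by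
            rw [h8negOne_mul_trace, h]; ring
          by_cases hg1 : h8negOne * g = 1
          · rw [hg1, map_one, one_pow]
          · rw [← map_pow, hpow _ hg1 htr, map_one]
      · right
        have hc := h8_pow_card_centralizer g
        have key : ∀ N : ℕ, g ^ (2 * N) = 1 → (πF g) ^ N = 1 := by
          intro N hN
          rw [← map_pow]
          apply (h8_psl2_mk_eq_one_iff _).mpr
          apply h8_sl2_sq_one h2
          rw [← pow_add, ← two_mul]; exact hN
        rcases h8_sl2_card_centralizer_regular g ht with h | h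
        · left
          apply orderOf_dvd_of_pow_eq_one
          apply key
          rw [h, ← hq] at hc
          rw [show 2 * ((q - 1) / 2) = q - 1 by omega]; exact hc
        · right
          apply orderOf_dvd_of_pow_eq_one
          apply key
          rw [h, ← hq] at hc
          rw [show 2 * ((q + 1) / 2) = q + 1 by omega]; exact hc
    · rintro (hm | hm | hm)
      · exact hdown _ (by rw [hxp]; exact hp.ne_zero) m (by rw [hxp]; exact hm)
      · have ho : orderOf (πF (h8dgHom a)) = (q - 1) / 2 :=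
          h8_psl2_orderOf_of_two_ne h2 _ _ (by rw [hga]; omega)
        exact hdown _ (by rw [ho]; omega) m (by rw [ho]; exact hm)
      · have ho : orderOf (πF g₁) = (q + 1) / 2 :=
          h8_psl2_orderOf_of_two_ne h2 _ _ (by rw [hg₁]; omega)
        exact hdown _ (by rw [ho]; omega) m (by rw [ho]; exact hm)

end

end Cfsg.Agent.Lib.Helper8
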