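import Mathlib
import Cfsg.Agent.Lib.Helper8.PSL2Spec

set_option autoImplicit false
set_option linter.style.haveILetI false
set_option linter.unusedSectionVars false
set_option linter.unusedVariables false

universe u

namespace Cfsg.Agent.Lib.Helper8

open Matrix

section gen
variable {G : Type u} [Group G]

theorem h8_exists_conj_mem_sylow' [Finite G] (p : ℕ) [Fact p.Prime] (P : Sylow p G)
    (H : Subgroup G) (hH : IsPGroup p H) :
    ∃ g : G, ∀ h ∈ H, g * h * g⁻¹ ∈ (P : Subgroup G) := by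
  obtain ⟨Q, hQ⟩ := hH.exists_le_sylow
  obtain ⟨g, hg⟩ := MulAction.exists_smul_eq G Q P
  refine ⟨g, fun h hh => ?_⟩
  rw [← hg, Sylow.coe_subgroup_smul]
  have h1 := Subgroup.smul_mem_pointwise_smul h (MulAut.conj g) (Q : Subgroup G) (hQ hh)
  exact h1

theorem h8_sylow_card_of_factor' [Finite G] (p : ℕ) [Fact p.Prime] (P : Sylow p G) (k w : ℕ)
    (hw : ¬ p ∣ w) (hG : Nat.card G = p ^ k * w) : Nat.card P = p ^ k := by
  have hp := (Fact.out : p.Prime)
  rw [Sylow.card_eq_multiplicity, hG]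
  congr 1
  have hw0 : w ≠ 0 := by
    rintro rfl
    exact hw (dvd_zero _)
  rw [Nat.factorization_mul (pow_ne_zero _ hp.ne_zero) hw0, Finsupp.add_apply,
    Nat.Prime.factorization_pow hp, Finsupp.single_eq_same,
    Nat.factorization_eq_zero_of_not_dvd hw, add_zero]

theorem h8_conj_mem_zpowers (y u : G) (hy : y * u * y⁻¹ ∈ Subgroup.zpowers u) (n : G)
    (hn : n ∈ Subgroup.zpowers u) : y * n * y⁻¹ ∈ Subgroup.zpowers u := by
  obtain ⟨j, rfl⟩ := Subgroup.mem_zpowers_iff.mp hn
  rw [← conj_zpow]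
  exact Subgroup.zpow_mem _ hy j

theorem h8_centralizer_zpowers (u : G) :
    Subgroup.centralizer ((Subgroup.zpowers u : Subgroup G) : Set G)
      = Subgroup.centralizer ({u} : Set G) := by
  ext y
  rw [Subgroup.mem_centralizer_iff, Subgroup.mem_centralizer_singleton_iff]
  constructor
  · intro h
    exact (h u (Subgroup.mem_zpowers u)).symm
  · intro h n hn
    obtain ⟨j, rfl⟩ := Subgroup.mem_zpowers_iff.mp hn
    have hc : Commute y u := h
    exact (hc.zpow_right j).symm

end gen

section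
variable {F : Type u} [Field F]

local notation "SLF" => Matrix.SpecialLinearGroup (Fin 2) F
local notation "MF" => Matrix (Fin 2) (Fin 2) F

theorem h8_sl2_coe_inv (u : SLF) (p q r s : F) (hm : (u : MF) = !![p, q; r, s]) :
    ((u⁻¹ : SLF) : MF) = !![s, -q; -r, p] := by
  rw [Matrix.SpecialLinearGroup.coe_inv, hm, Matrix.adjugate_fin_two_of]

theorem h8_sl2_trace_inv (u : SLF) :
    Matrix.trace ((u⁻¹ : SLF) : MF) = Matrix.trace (u : MF) := by
  obtain ⟨p, q, r, s, hm⟩ : ∃ p q r s : F, (u : MF) = !![p, q; r, s] :=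
    ⟨_, _, _, _, Matrix.eta_fin_two _⟩
  rw [h8_sl2_coe_inv u p q r s hm, hm, Matrix.trace_fin_two_of, Matrix.trace_fin_two_of]; ring

/-- an element of the centralizer of a regular element with the same trace is the element or
its inverse -/
theorem h8_sl2_cent_same_trace (h2 : (2 : F) ≠ 0) (u h : SLF)
    (ht : Matrix.trace (u : MF) * Matrix.trace (u : MF) ≠ 4)
    (hc : h * u = u * h) (hth : Matrix.trace (h : MF) = Matrix.trace (u : MF)) :
    h = u ∨ h = u⁻¹ := by
  obtain ⟨p, q, r, s, hum⟩ : ∃ p q r s : F, (u : MF) = !![p, q; r, s] :=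
    ⟨_, _, _, _, Matrix.eta_fin_two _⟩
  obtain ⟨a, b, c, d, hhm⟩ : ∃ a b c d : F, (h : MF) = !![a, b; c, d] :=
    ⟨_, _, _, _, Matrix.eta_fin_two _⟩
  have hdu : p * s - q * r = 1 := by
    have h0 := u.det_coe
    rw [hum, Matrix.det_fin_two_of] at h0; exact h0
  have hdh : a * d - b * c = 1 := by
    have h0 := h.det_coe
    rw [hhm, Matrix.det_fin_two_of] at h0; exact h0
  have htu : Matrix.trace (u : MF) = p + s := by rw [hum, Matrix.trace_fin_two_of]
  rw [htu] at ht hth
  have hth' : a + d = p + s := by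
    rw [hhm, Matrix.trace_fin_two_of] at hth; exact hth
  have hns : q ≠ 0 ∨ r ≠ 0 ∨ p ≠ s := by
    by_contra hcon
    push Not at hcon
    obtain ⟨hq, hr, hps⟩ := hcon
    apply ht
    rw [hq, hr, ← hps] at hdu
    rw [← hps]; linear_combination 4 * hdu
  have h1 := congrArg Subtype.val hc
  rw [Matrix.SpecialLinearGroup.coe_mul, Matrix.SpecialLinearGroup.coe_mul, hhm, hum,
    Matrix.mul_fin_two, Matrix.mul_fin_two] at h1
  obtain ⟨e00, e01, e10, e11⟩ := h8_fin_two_inj h1
  obtain ⟨x, y, ha, hb, hc', hd⟩ := h8_comm_nonscalar hns (a := a) (b := b) (c := c) (d := d)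
    (by linear_combination e00) (by linear_combination e01) (by linear_combination e10)
  rw [ha, hb, hc', hd] at hdh
  rw [ha, hd] at hth'
  have hy : (y - 1) * (y + 1) = 0 := by
    have h5 : ((p + s) * (p + s) - 4) * ((y - 1) * (y + 1)) = 0 := by
      linear_combination (-4 : F) * hdh + 4 * y * y * hdu
        + (2 * x + y * (p + s) + (p + s)) * hth'
    rcases mul_eq_zero.mp h5 with h | h
    · exact absurd (by linear_combination h) ht
    · exact h
  rcases mul_eq_zero.mp hy with h | h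
  · left
    have hy1 : y = 1 := by linear_combination h
    have hx0 : x = 0 := by
      have h5 : (2 : F) * x = 0 := by rw [hy1] at hth'; linear_combination hth'
      rcases mul_eq_zero.mp h5 with h | h
      · exact absurd h h2
      · exact h
    apply Subtype.ext
    rw [hhm, hum, ha, hb, hc', hd, hy1, hx0]
    refine h8_fin_two_congr ?_ ?_ ?_ ?_ <;> ring
  · right
    have hy1 : y = -1 := by linear_combination h
    have hx0 : x = p + s := by
      have h5 : (2 : F) * (x - (p + s)) = 0 := by rw [hy1] at hth'; linear_combination hth'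
      rcases mul_eq_zero.mp h5 with h | h
      · exact absurd h h2
      · linear_combination h
    apply Subtype.ext
    rw [h8_sl2_coe_inv u p q r s hum, hhm, ha, hb, hc', hd, hy1, hx0]
    refine h8_fin_two_congr ?_ ?_ ?_ ?_ <;> ring

theorem h8_sl2_ne_inv_of_regular (h2 : (2 : F) ≠ 0) (u : SLF)
    (ht : Matrix.trace (u : MF) * Matrix.trace (u : MF) ≠ 4) : u ≠ u⁻¹ := by
  intro h0
  have huu : u * u = 1 := by
    calc u * u = u * u⁻¹ := by rw [← h0]
      _ = 1 := mul_inv_cancel u
  rcases h8_sl2_sq_one h2 u huu with h | h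
  · apply ht
    rw [h, Matrix.SpecialLinearGroup.coe_one, Matrix.trace_one, Fintype.card_fin]; norm_num
  · apply ht
    rw [h]
    show Matrix.trace (!![-1, 0; 0, -1] : MF) * Matrix.trace (!![-1, 0; 0, -1] : MF) = 4
    rw [Matrix.trace_fin_two_of]; norm_num

/-- the normalizer of the centralizer of a regular element, as a set -/
theorem h8_sl2_card_normalizer_set [Fintype F] (hodd : Fintype.card F % 2 = 1)
    (h2 : (2 : F) ≠ 0) (u : SLF)
    (ht : Matrix.trace (u : MF) * Matrix.trace (u : MF) ≠ 4) :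
    ({y : SLF | y * u * y⁻¹ = u ∨ y * u * y⁻¹ = u⁻¹}).ncard
      = 2 * Nat.card (Subgroup.centralizer ({u} : Set SLF)) := by
  have hconj : IsConj u u⁻¹ := by
    have hmem : u⁻¹ ∈ {h : SLF | IsConj u h} := by
      rw [h8_sl2_odd_class_set hodd h2 u ht]
      exact h8_sl2_trace_inv u
    exact hmem
  obtain ⟨w, hw⟩ := isConj_iff.mp hconj
  have hne : u ≠ u⁻¹ := h8_sl2_ne_inv_of_regular h2 u ht
  have hset : {y : SLF | y * u * y⁻¹ = u ∨ y * u * y⁻¹ = u⁻¹}
      = (Subgroup.centralizer ({u} : Set SLF) : Set SLF)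
        ∪ (fun c => w * c) '' (Subgroup.centralizer ({u} : Set SLF) : Set SLF) := by
    ext y
    rw [Set.mem_union, Set.mem_image]
    show (y * u * y⁻¹ = u ∨ y * u * y⁻¹ = u⁻¹) ↔ _
    constructor
    · rintro (h | h)
      · left
        rw [SetLike.mem_coe, Subgroup.mem_centralizer_singleton_iff]
        calc y * u = y * u * y⁻¹ * y := by group
          _ = u * y := by rw [h]
      · right
        refine ⟨w⁻¹ * y, ?_, by group⟩
        rw [SetLike.mem_coe, Subgroup.mem_centralizer_singleton_iff]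
        have h5 : y * u * y⁻¹ = w * u * w⁻¹ := by rw [h, hw]
        calc w⁻¹ * y * u = w⁻¹ * (y * u * y⁻¹) * y := by group
          _ = w⁻¹ * (w * u * w⁻¹) * y := by rw [h5]
          _ = u * (w⁻¹ * y) := by group
    · rintro (h | ⟨c, hc, rfl⟩)
      · left
        rw [SetLike.mem_coe, Subgroup.mem_centralizer_singleton_iff] at h
        rw [h, mul_inv_cancel_right]
      · right
        rw [SetLike.mem_coe, Subgroup.mem_centralizer_singleton_iff] at hc
        calc w * c * u * (w * c)⁻¹ = w * (c * u) * c⁻¹ * w⁻¹ := by group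
          _ = w * (u * c) * c⁻¹ * w⁻¹ := by rw [hc]
          _ = w * u * w⁻¹ := by group
          _ = u⁻¹ := hw
  have hdisj : Disjoint (Subgroup.centralizer ({u} : Set SLF) : Set SLF)
      ((fun c => w * c) '' (Subgroup.centralizer ({u} : Set SLF) : Set SLF)) := by
    rw [Set.disjoint_left]
    rintro y hy ⟨c, hc, rfl⟩
    rw [SetLike.mem_coe, Subgroup.mem_centralizer_singleton_iff] at hy hc
    apply hne
    have h6 : w * u = u * w := by
      have h5 : w * u * c = u * w * c := by
        calc w * u * c = w * (u * c) := by group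
          _ = w * (c * u) := by rw [hc]
          _ = w * c * u := by group
          _ = u * (w * c) := hy
          _ = u * w * c := by group
      exact mul_right_cancel h5
    calc u = w * u * w⁻¹ := by rw [h6]; group
      _ = u⁻¹ := hw
  rw [hset, Set.ncard_union_eq hdisj (Set.toFinite _) (Set.toFinite _),
    Set.ncard_image_of_injective _ (mul_right_injective w), two_mul]
  rfl

/-- the core of the Sylow computation -/
theorem h8_s2430_aux [Fintype F] (hodd : Fintype.card F % 2 = 1) (h2 : (2 : F) ≠ 0) (ℓ : ℕ)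
    [Fact ℓ.Prime] (hℓ : ℓ ≠ 2) (P : Sylow ℓ SLF) (c c' : ℕ)
    (hc : (c = Fintype.card F - 1 ∧ c' = Fintype.card F + 1)
      ∨ (c = Fintype.card F + 1 ∧ c' = Fintype.card F - 1))
    (hℓc : ℓ ∣ c) (g₀ : SLF) (hg₀ : orderOf g₀ = c) :
    Nat.card (Subgroup.centralizer ((P : Subgroup SLF) : Set SLF)) = c ∧
    IsCyclic (Subgroup.centralizer ((P : Subgroup SLF) : Set SLF)) ∧
    Nat.card (Subgroup.normalizer ((P : Subgroup SLF) : Set SLF)) = 2 * c := by
  classical
  have hℓp := (Fact.out : ℓ.Prime)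
  obtain ⟨q, hq⟩ : ∃ q, q = Fintype.card F := ⟨_, rfl⟩
  have hodd0 := hodd
  rw [← hq] at hc hodd
  have hq2 : 2 ≤ q := by rw [hq]; exact Fintype.one_lt_card
  have hq3 : 3 ≤ q := by omega
  have hℓ3 : 3 ≤ ℓ := by
    have := hℓp.two_le
    omega
  have hc0 : c ≠ 0 := by rcases hc with ⟨h, _⟩ | ⟨h, _⟩ <;> omega
  have hc3 : 3 ≤ c := le_trans hℓ3 (Nat.le_of_dvd (Nat.pos_of_ne_zero hc0) hℓc)
  have hcc : c * c' = q ^ 2 - 1 := by
    obtain ⟨k, rfl⟩ : ∃ k, q = k + 1 := ⟨q - 1, by omega⟩
    rcases hc with ⟨h, h'⟩ | ⟨h, h'⟩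
    · rw [h, h', Nat.add_sub_cancel]; symm; apply Nat.sub_eq_of_eq_add; ring
    · rw [h, h', Nat.add_sub_cancel]; symm; apply Nat.sub_eq_of_eq_add; ring
  -- ℓ does not divide c' or q
  have hℓc' : ¬ ℓ ∣ c' := by
    intro h0
    have h5 : ℓ ∣ 2 := by
      rcases hc with ⟨h, h'⟩ | ⟨h, h'⟩
      · rw [h] at hℓc; rw [h'] at h0
        have h6 := Nat.dvd_sub h0 hℓc
        rwa [show q + 1 - (q - 1) = 2 by omega] at h6
      · rw [h] at hℓc; rw [h'] at h0
        have h6 := Nat.dvd_sub hℓc h0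
        rwa [show q + 1 - (q - 1) = 2 by omega] at h6
    have := Nat.le_of_dvd (by norm_num) h5
    omega
  have hℓq : ¬ ℓ ∣ q := by
    intro h0
    have h5 : ℓ ∣ 1 := by
      rcases hc with ⟨h, h'⟩ | ⟨h, h'⟩
      · rw [h] at hℓc
        have h6 := Nat.dvd_sub h0 hℓc
        rwa [show q - (q - 1) = 1 by omega] at h6
      · rw [h] at hℓc
        have h6 := Nat.dvd_sub hℓc h0
        rwa [show q + 1 - q = 1 by omega] at h6
    have := Nat.le_of_dvd (by norm_num) h5
    omega
  obtain ⟨k, m, hm, hkm⟩ := Nat.exists_eq_pow_mul_and_not_dvd hc0 ℓ hℓp.ne_one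
  have hk1 : 1 ≤ k := by
    rcases k with _ | k
    · exfalso
      rw [pow_zero, one_mul] at hkm
      rw [hkm] at hℓc
      exact hm hℓc
    · omega
  have hm0 : m ≠ 0 := by
    rintro rfl
    exact hm (dvd_zero _)
  have hℓk3 : 3 ≤ ℓ ^ k := le_trans hℓ3 (Nat.le_self_pow (by omega) ℓ)
  have hcardG : Nat.card SLF = ℓ ^ k * (m * c' * q) := by
    rw [h8_card_SL2, ← hq, ← hcc, hkm]; ring
  have hw : ¬ ℓ ∣ m * c' * q := by
    intro h0
    rcases (Nat.Prime.dvd_mul hℓp).mp h0 with h | h
    · rcases (Nat.Prime.dvd_mul hℓp).mp h with h | h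
      · exact hm h
      · exact hℓc' h
    · exact hℓq h
  have hcardP : Nat.card P = ℓ ^ k := h8_sylow_card_of_factor' ℓ P k _ hw hcardG
  have hu₀ : orderOf (g₀ ^ m) = ℓ ^ k := by
    rw [orderOf_pow_of_dvd hm0 (by rw [hg₀, hkm]; exact dvd_mul_left _ _), hg₀, hkm]
    exact Nat.mul_div_cancel _ (Nat.pos_of_ne_zero hm0)
  have hH : IsPGroup ℓ (Subgroup.zpowers (g₀ ^ m)) :=
    IsPGroup.of_card (n := k) (by rw [Nat.card_zpowers, hu₀])
  obtain ⟨x, hx⟩ := h8_exists_conj_mem_sylow' ℓ P _ hH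
  obtain ⟨g, hgdef⟩ : ∃ g : SLF, g = x * g₀ * x⁻¹ := ⟨_, rfl⟩
  obtain ⟨u, hudef⟩ : ∃ u : SLF, u = g ^ m := ⟨_, rfl⟩
  have hu_conj : u = x * g₀ ^ m * x⁻¹ := by rw [hudef, hgdef, conj_pow]
  have huP : u ∈ (P : Subgroup SLF) := by
    rw [hu_conj]; exact hx _ (Subgroup.mem_zpowers _)
  have hog : orderOf g = c := by
    rw [← hg₀]
    have hs : x * g₀ = g * x := by rw [hgdef]; group
    exact (SemiconjBy.orderOf_eq x (show SemiconjBy x g₀ g from hs)).symm
  have hou : orderOf u = ℓ ^ k := by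
    rw [← hu₀]
    have hs : x * g₀ ^ m = u * x := by rw [hu_conj]; group
    exact (SemiconjBy.orderOf_eq x (show SemiconjBy x (g₀ ^ m) u from hs)).symm
  have hP : Subgroup.zpowers u = (P : Subgroup SLF) := by
    apply Subgroup.eq_of_le_of_card_ge
    · rw [Subgroup.zpowers_le]; exact huP
    · rw [Nat.card_zpowers, hou]; exact hcardP.le
  -- u is regular
  obtain ⟨p, hp⟩ := CharP.exists F
  haveI := hp
  haveI : Fact p.Prime := ⟨CharP.char_is_prime F p⟩
  have hpp := (Fact.out : p.Prime)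
  have hpq : p ∣ q := by
    obtain ⟨n, _, hn⟩ := FiniteField.card F p
    rw [hq, hn]
    exact dvd_pow_self p n.ne_zero
  have hu1 : u ≠ 1 := by
    rintro rfl
    rw [orderOf_one] at hou
    omega
  have hreg : Matrix.trace (u : MF) * Matrix.trace (u : MF) ≠ 4 := by
    intro ht
    have ht' : Matrix.trace (u : MF) = 2 ∨ Matrix.trace (u : MF) = -2 := by
      have h5 : (Matrix.trace (u : MF) - 2) * (Matrix.trace (u : MF) + 2) = 0 := by
        linear_combination ht
      rcases mul_eq_zero.mp h5 with h | h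
      · left; linear_combination h
      · right; linear_combination h
    have hu2p : u ^ (2 * p) = 1 := by
      rcases ht' with h | h
      · have h5 := pow_orderOf_eq_one u
        rw [(h8_sl2_orderOf_iff p u).mpr ⟨hu1, h⟩] at h5
        rw [mul_comm, pow_mul, h5, one_pow]
      · have htr : Matrix.trace ((h8negOne * u : SLF) : MF) = 2 := by
          rw [h8negOne_mul_trace, h]; ring
        have hcomm : Commute (h8negOne : SLF) u :=
          (Subgroup.mem_center_iff.mp h8negOne_mem_center u).symm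
        have hz2 : (h8negOne : SLF) ^ (2 * p) = 1 := by
          rw [pow_mul, pow_two, h8negOne_mul_self, one_pow]
        by_cases hg1 : h8negOne * u = 1
        · have h6 : (h8negOne * u) ^ (2 * p) = 1 := by rw [hg1, one_pow]
          rw [hcomm.mul_pow, hz2, one_mul] at h6
          exact h6
        · have h5 := pow_orderOf_eq_one (h8negOne * u)
          rw [(h8_sl2_orderOf_iff p _).mpr ⟨hg1, htr⟩] at h5
          have h6 : (h8negOne * u) ^ (2 * p) = 1 := by rw [mul_comm, pow_mul, h5, one_pow]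
          rw [hcomm.mul_pow, hz2, one_mul] at h6
          exact h6
    have h7 := orderOf_dvd_of_pow_eq_one hu2p
    rw [hou] at h7
    have h8 : ℓ ∣ 2 * p := dvd_trans (dvd_pow_self ℓ (by omega)) h7
    rcases (Nat.Prime.dvd_mul hℓp).mp h8 with h | h
    · have := Nat.le_of_dvd (by norm_num) h
      omega
    · have h9 := (Nat.prime_dvd_prime_iff_eq hℓp hpp).mp h
      rw [h9] at hℓq
      exact hℓq hpq
  -- the centralizer of u
  have hgu : g ∈ Subgroup.centralizer ({u} : Set SLF) := by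
    rw [Subgroup.mem_centralizer_singleton_iff, hudef, ← pow_succ, ← pow_succ']
  have hle : Subgroup.zpowers g ≤ Subgroup.centralizer ({u} : Set SLF) := by
    rw [Subgroup.zpowers_le]; exact hgu
  have hdvd : c ∣ Nat.card (Subgroup.centralizer ({u} : Set SLF)) := by
    have h5 := Subgroup.card_dvd_of_le hle
    rwa [Nat.card_zpowers, hog] at h5
  have hcardC : Nat.card (Subgroup.centralizer ({u} : Set SLF)) = c := by
    rcases h8_sl2_card_centralizer_regular u hreg with h | h
    · rw [h, ← hq] at hdvd ⊢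
      rcases hc with ⟨h5, _⟩ | ⟨h5, _⟩
      · exact h5.symm
      · exfalso
        rw [h5] at hdvd
        have := Nat.le_of_dvd (by omega) hdvd
        omega
    · rw [h, ← hq] at hdvd ⊢
      rcases hc with ⟨h5, _⟩ | ⟨h5, _⟩
      · exfalso
        rw [h5] at hdvd hc3
        have h6 := Nat.dvd_sub hdvd (dvd_refl (q - 1))
        rw [show q + 1 - (q - 1) = 2 by omega] at h6
        have := Nat.le_of_dvd (by norm_num) h6
        omega
      · exact h5.symm
  have hCeq : Subgroup.zpowers g = Subgroup.centralizer ({u} : Set SLF) := by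
    apply Subgroup.eq_of_le_of_card_ge hle
    rw [Nat.card_zpowers, hog, hcardC]
  have hcentP : Subgroup.centralizer ((P : Subgroup SLF) : Set SLF)
      = Subgroup.centralizer ({u} : Set SLF) := by
    rw [← hP]; exact h8_centralizer_zpowers u
  -- the normalizer
  have hnorm : ((Subgroup.normalizer ((P : Subgroup SLF) : Set SLF) : Subgroup SLF) : Set SLF)
      = {y : SLF | y * u * y⁻¹ = u ∨ y * u * y⁻¹ = u⁻¹} := by
    ext y
    rw [SetLike.mem_coe, Subgroup.mem_set_normalizer_iff, ← hP]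
    show (∀ n, n ∈ ((Subgroup.zpowers u : Subgroup SLF) : Set SLF)
      ↔ y * n * y⁻¹ ∈ ((Subgroup.zpowers u : Subgroup SLF) : Set SLF))
      ↔ (y * u * y⁻¹ = u ∨ y * u * y⁻¹ = u⁻¹)
    constructor
    · intro h
      have h5 : y * u * y⁻¹ ∈ Subgroup.zpowers u := (h u).mp (Subgroup.mem_zpowers u)
      obtain ⟨j, hj⟩ := Subgroup.mem_zpowers_iff.mp h5
      have hcomm : (y * u * y⁻¹) * u = u * (y * u * y⁻¹) := by
        rw [← hj]
        exact ((Commute.refl u).zpow_left j).eq
      have htr : Matrix.trace ((y * u * y⁻¹ : SLF) : MF) = Matrix.trace (u : MF) :=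
        h8_sl2_trace_conj y u
      exact h8_sl2_cent_same_trace h2 u _ hreg hcomm htr
    · intro h n
      have h5 : y * u * y⁻¹ ∈ Subgroup.zpowers u := by
        rcases h with h | h
        · rw [h]; exact Subgroup.mem_zpowers u
        · rw [h]; exact Subgroup.inv_mem _ (Subgroup.mem_zpowers u)
      have h6 : y⁻¹ * u * y⁻¹⁻¹ ∈ Subgroup.zpowers u := by
        rcases h with h | h
        · have h7 : y⁻¹ * u * y⁻¹⁻¹ = u := by
            calc y⁻¹ * u * y⁻¹⁻¹ = y⁻¹ * (y * u * y⁻¹) * y := by rw [h, inv_inv]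
              _ = u := by group
          rw [h7]; exact Subgroup.mem_zpowers u
        · have h7 : y⁻¹ * u * y⁻¹⁻¹ = u⁻¹ := by
            have h8 : u = (y * u * y⁻¹)⁻¹ := by rw [h, inv_inv]
            calc y⁻¹ * u * y⁻¹⁻¹ = y⁻¹ * (y * u * y⁻¹)⁻¹ * y := by rw [← h8, inv_inv]
              _ = u⁻¹ := by group
          rw [h7]; exact Subgroup.inv_mem _ (Subgroup.mem_zpowers u)
      constructor
      · intro hn
        exact h8_conj_mem_zpowers y u h5 n hn
      · intro hn
        have h7 := h8_conj_mem_zpowers y⁻¹ u h6 _ hn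
        have h8 : y⁻¹ * (y * n * y⁻¹) * y⁻¹⁻¹ = n := by group
        rw [h8] at h7
        exact h7
  refine ⟨?_, ?_, ?_⟩
  · rw [hcentP, hcardC]
  · rw [hcentP, ← hCeq]
    infer_instance
  · have e0 : Nat.card (Subgroup.normalizer ((P : Subgroup SLF) : Set SLF))
        = ((Subgroup.normalizer ((P : Subgroup SLF) : Set SLF) : Subgroup SLF) : Set SLF).ncard :=
      Nat.card_coe_set_eq _
    rw [e0, hnorm, h8_sl2_card_normalizer_set hodd0 h2 u hreg, hcardC]

theorem h8_s2430 [Fintype F] (hodd : Odd (Fintype.card F)) (ℓ : ℕ) [Fact ℓ.Prime] (hℓ : ℓ ≠ 2)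
    (P : Sylow ℓ SLF) :
    (ℓ ∣ Fintype.card F - 1 →
      Nat.card (Subgroup.centralizer ((P : Subgroup SLF) : Set SLF)) = Fintype.card F - 1 ∧
      IsCyclic (Subgroup.centralizer ((P : Subgroup SLF) : Set SLF)) ∧
      Nat.card (Subgroup.normalizer ((P : Subgroup SLF) : Set SLF))
        = 2 * (Fintype.card F - 1)) ∧
    (ℓ ∣ Fintype.card F + 1 →
      Nat.card (Subgroup.centralizer ((P : Subgroup SLF) : Set SLF)) = Fintype.card F + 1 ∧
      IsCyclic (Subgroup.centralizer ((P : Subgroup SLF) : Set SLF)) ∧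
      Nat.card (Subgroup.normalizer ((P : Subgroup SLF) : Set SLF))
        = 2 * (Fintype.card F + 1)) := by
  have hodd' : Fintype.card F % 2 = 1 := Nat.odd_iff.mp hodd
  have hF : ringChar F ≠ 2 := by
    intro h0
    have := FiniteField.even_card_iff_char_two.mp h0
    omega
  have h2 : (2 : F) ≠ 0 := Ring.two_ne_zero hF
  constructor
  · intro hd
    obtain ⟨a, ha⟩ := IsCyclic.exists_ofOrder_eq_natCard (α := Fˣ)
    have hga : orderOf (h8dgHom a) = Fintype.card F - 1 := by
      rw [orderOf_injective h8dgHom h8dgHom_injective, ha, Nat.card_units,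
        Nat.card_eq_fintype_card]
    exact h8_s2430_aux hodd' h2 ℓ hℓ P (Fintype.card F - 1) (Fintype.card F + 1)
      (Or.inl ⟨rfl, rfl⟩) hd (h8dgHom a) hga
  · intro hd
    obtain ⟨g₁, hg₁⟩ := h8_sl2_exists_order_q_add_one (F := F)
    exact h8_s2430_aux hodd' h2 ℓ hℓ P (Fintype.card F + 1) (Fintype.card F - 1)
      (Or.inr ⟨rfl, rfl⟩) hd g₁ hg₁

end

end Cfsg.Agent.Lib.Helper8
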