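import Mathlib
import Cfsg.Agent.Lib.Helper8.SL2Torus

set_option autoImplicit false
set_option linter.style.haveILetI false
set_option linter.unusedSectionVars false
set_option linter.unusedVariables false

universe u

namespace Cfsg.Agent.Lib.Helper8

open Matrix

/-- counting the image of a set under a map whose fibres (inside the set) are the orbits of a
fixed-point-free involution -/
theorem h8_ncard_image_two' {α β : Type*} (f : α → β) (S : Set α) (hS : S.Finite) (σ : α → α)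
    (hσS : ∀ a ∈ S, σ a ∈ S) (hσne : ∀ a ∈ S, σ a ≠ a)
    (hf : ∀ a ∈ S, ∀ b ∈ S, f a = f b ↔ (b = a ∨ b = σ a)) : S.ncard = (f '' S).ncard * 2 := by
  classical
  let s : Finset α := hS.toFinset
  let t : Finset β := s.image f
  have hst : ∀ a ∈ s, f a ∈ t := fun a ha => Finset.mem_image_of_mem f ha
  have h1 := Finset.card_eq_sum_card_fiberwise hst
  have hfib : ∀ b ∈ t, (s.filter (fun a => f a = b)).card = 2 := by
    intro b hb
    obtain ⟨a, ha, rfl⟩ := Finset.mem_image.mp hb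
    have haS : a ∈ S := hS.mem_toFinset.mp ha
    have hset : s.filter (fun x => f x = f a) = {a, σ a} := by
      ext x
      rw [Finset.mem_filter, Finset.mem_insert, Finset.mem_singleton]
      constructor
      · rintro ⟨hxs, hx⟩
        exact (hf a haS x (hS.mem_toFinset.mp hxs)).mp hx.symm
      · intro hx
        have hxS : x ∈ S := by
          rcases hx with rfl | rfl
          · exact haS
          · exact hσS a haS
        exact ⟨hS.mem_toFinset.mpr hxS, ((hf a haS x hxS).mpr hx).symm⟩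
    rw [hset, Finset.card_pair (hσne a haS).symm]
  rw [Finset.sum_congr rfl hfib, Finset.sum_const, smul_eq_mul] at h1
  have e1 : S.ncard = s.card := Set.ncard_eq_toFinset_card S hS
  have e2 : (f '' S).ncard = t.card := by
    have h3 : (f '' S) = (↑t : Set β) := by
      rw [Finset.coe_image, Set.Finite.coe_toFinset]
    rw [h3, Set.ncard_coe_finset]
  rw [e1, e2, h1]

section
variable {F : Type u} [Field F]

local notation "SLF" => Matrix.SpecialLinearGroup (Fin 2) F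
local notation "MF" => Matrix (Fin 2) (Fin 2) F

theorem h8_sl2_trace_one : Matrix.trace ((1 : SLF) : MF) = 2 := by
  rw [Matrix.SpecialLinearGroup.coe_one, Matrix.trace_one, Fintype.card_fin]; norm_num

theorem h8_sl2_trace_negOne : Matrix.trace ((h8negOne : SLF) : MF) = -2 := by
  show Matrix.trace (!![-1, 0; 0, -1] : MF) = -2
  rw [Matrix.trace_fin_two_of]; ring

theorem h8_two_ne_neg_two (h2 : (2 : F) ≠ 0) : (2 : F) ≠ -2 := by
  intro h
  apply h2
  have h5 : (2 : F) * 2 = 0 := by linear_combination h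
  exact mul_self_eq_zero.mp h5

theorem h8negOne_ne_one (h2 : (2 : F) ≠ 0) : (h8negOne : SLF) ≠ 1 := by
  intro h
  have h1 : Matrix.trace ((h8negOne : SLF) : MF) = Matrix.trace ((1 : SLF) : MF) := by rw [h]
  rw [h8_sl2_trace_one, h8_sl2_trace_negOne] at h1
  exact h8_two_ne_neg_two h2 h1.symm

theorem h8_sl2_pow_two_p_of_irregular (p : ℕ) [Fact p.Prime] [CharP F p] (u : SLF)
    (ht : Matrix.trace (u : MF) * Matrix.trace (u : MF) = 4) : u ^ (2 * p) = 1 := by
  have ht' : Matrix.trace (u : MF) = 2 ∨ Matrix.trace (u : MF) = -2 := by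
    have h5 : (Matrix.trace (u : MF) - 2) * (Matrix.trace (u : MF) + 2) = 0 := by
      linear_combination ht
    rcases mul_eq_zero.mp h5 with h | h
    · left; linear_combination h
    · right; linear_combination h
  rcases ht' with h | h
  · by_cases hu1 : u = 1
    · rw [hu1, one_pow]
    · have h5 := pow_orderOf_eq_one u
      rw [(h8_sl2_orderOf_iff p u).mpr ⟨hu1, h⟩] at h5
      rw [mul_comm, pow_mul, h5, one_pow]
  · have htr : Matrix.trace ((h8negOne * u : SLF) : MF) = 2 := by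
      rw [h8negOne_mul_trace, h]; ring
    have hcomm : Commute (h8negOne : SLF) u :=
      (Subgroup.mem_center_iff.mp h8negOne_mem_center u).symm
    have hz2 : (h8negOne : SLF) ^ (2 * p) = 1 := by
      rw [pow_mul, pow_two, h8negOne_mul_self, one_pow]
    by_cases hg1 : h8negOne * u = 1
    · have h6 : (h8negOne * u) ^ (2 * p) = 1 := by rw [hg1, one_pow]
      rw [hcomm.mul_pow, hz2, one_mul] at h6
      exact h6
    · have h5 := pow_orderOf_eq_one (h8negOne * u)
      rw [(h8_sl2_orderOf_iff p _).mpr ⟨hg1, htr⟩] at h5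
      have h6 : (h8negOne * u) ^ (2 * p) = 1 := by rw [mul_comm, pow_mul, h5, one_pow]
      rw [hcomm.mul_pow, hz2, one_mul] at h6
      exact h6

/-- irregular elements of a cyclic `p'`-subgroup are `±1` -/
theorem h8_torus_irregular (h2 : (2 : F) ≠ 0) (p : ℕ) [Fact p.Prime] [CharP F p] (g₀ : SLF)
    (c : ℕ) (hc : orderOf g₀ = c) (hpc : ¬ p ∣ c) (t : SLF) (ht : t ∈ Subgroup.zpowers g₀)
    (htr : Matrix.trace (t : MF) * Matrix.trace (t : MF) = 4) : t = 1 ∨ t = h8negOne := by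
  have hpp := (Fact.out : p.Prime)
  have h1 : t ^ (2 * p) = 1 := h8_sl2_pow_two_p_of_irregular p t htr
  have h3 : t ^ c = 1 := by
    obtain ⟨j, rfl⟩ := Subgroup.mem_zpowers_iff.mp ht
    rw [← _root_.zpow_natCast, ← _root_.zpow_mul, mul_comm, _root_.zpow_mul, _root_.zpow_natCast,
      ← hc, pow_orderOf_eq_one, _root_.one_zpow]
  have h4 : t ^ (Nat.gcd (2 * p) c) = 1 := pow_gcd_eq_one.mpr ⟨h1, h3⟩
  have hcop : Nat.Coprime p c := (Nat.Prime.coprime_iff_not_dvd hpp).mpr hpc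
  have h5 : Nat.gcd (2 * p) c ∣ 2 := by
    rw [Nat.Coprime.gcd_mul_right_cancel 2 hcop]
    exact Nat.gcd_dvd_left 2 c
  obtain ⟨e, he⟩ := h5
  have h6 : t ^ ((2 * p).gcd c * e) = 1 := by rw [pow_mul, h4, one_pow]
  rw [← he] at h6
  have h7 : t * t = 1 := by rw [← pow_two]; exact h6
  exact h8_sl2_sq_one h2 t h7

theorem h8_torus_same_trace (h2 : (2 : F) ≠ 0) (p : ℕ) [Fact p.Prime] [CharP F p] (g₀ : SLF)
    (c : ℕ) (hc : orderOf g₀ = c) (hpc : ¬ p ∣ c) (t t' : SLF) (ht : t ∈ Subgroup.zpowers g₀)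
    (ht' : t' ∈ Subgroup.zpowers g₀)
    (htr : Matrix.trace (t' : MF) = Matrix.trace (t : MF)) : t' = t ∨ t' = t⁻¹ := by
  by_cases hreg : Matrix.trace (t : MF) * Matrix.trace (t : MF) = 4
  · have hreg' : Matrix.trace (t' : MF) * Matrix.trace (t' : MF) = 4 := by rw [htr]; exact hreg
    left
    rcases h8_torus_irregular h2 p g₀ c hc hpc t ht hreg with h | h <;>
    rcases h8_torus_irregular h2 p g₀ c hc hpc t' ht' hreg' with h' | h'
    · rw [h, h']
    · exfalso
      rw [h, h', h8_sl2_trace_one, h8_sl2_trace_negOne] at htr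
      exact h8_two_ne_neg_two h2 htr.symm
    · exfalso
      rw [h, h', h8_sl2_trace_one, h8_sl2_trace_negOne] at htr
      exact h8_two_ne_neg_two h2 htr
    · rw [h, h']
  · have hcomm : t' * t = t * t' := by
      obtain ⟨j, rfl⟩ := Subgroup.mem_zpowers_iff.mp ht
      obtain ⟨j', rfl⟩ := Subgroup.mem_zpowers_iff.mp ht'
      rw [← _root_.zpow_add, ← _root_.zpow_add, add_comm]
    exact h8_sl2_cent_same_trace h2 t t' hreg hcomm htr

/-- the number of traces on a cyclic `p'`-subgroup of even order containing `-1` -/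
theorem h8_torus_trace_card [Fintype F] (h2 : (2 : F) ≠ 0) (p : ℕ) [Fact p.Prime] [CharP F p]
    (g₀ : SLF) (c : ℕ) (hc : orderOf g₀ = c) (hpc : ¬ p ∣ c) (hce : 2 ∣ c)
    (hneg : h8negOne ∈ Subgroup.zpowers g₀) :
    ((fun t : SLF => Matrix.trace (t : MF)) ''
      ((Subgroup.zpowers g₀ : Subgroup SLF) : Set SLF)).ncard = c / 2 + 1 := by
  classical
  have hTcard : (((Subgroup.zpowers g₀ : Subgroup SLF) : Set SLF)).ncard = c := by
    have e : Nat.card (Subgroup.zpowers g₀)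
        = (((Subgroup.zpowers g₀ : Subgroup SLF) : Set SLF)).ncard := Nat.card_coe_set_eq _
    rw [← e, Nat.card_zpowers, hc]
  have hne1 : (h8negOne : SLF) ≠ 1 := h8negOne_ne_one h2
  have hZsub : ({1, h8negOne} : Set SLF) ⊆ ((Subgroup.zpowers g₀ : Subgroup SLF) : Set SLF) := by
    intro x hx
    rcases hx with rfl | rfl
    · exact Subgroup.one_mem _
    · exact hneg
  have hScard : (((Subgroup.zpowers g₀ : Subgroup SLF) : Set SLF)
      \ ({1, h8negOne} : Set SLF)).ncard = c - 2 := by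
    rw [Set.ncard_sdiff hZsub, hTcard, Set.ncard_pair (Ne.symm hne1)]
  have hc0 : 0 < c := by rw [← hc]; exact orderOf_pos g₀
  have himg : (fun t : SLF => Matrix.trace (t : MF)) ''
        ((Subgroup.zpowers g₀ : Subgroup SLF) : Set SLF)
      = ({2, -2} : Set F) ∪ (fun t : SLF => Matrix.trace (t : MF)) ''
        (((Subgroup.zpowers g₀ : Subgroup SLF) : Set SLF) \ ({1, h8negOne} : Set SLF)) := by
    ext x
    constructor
    · rintro ⟨t, ht, rfl⟩
      by_cases h1 : t = 1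
      · left
        show Matrix.trace (t : MF) ∈ ({2, -2} : Set F)
        rw [h1, h8_sl2_trace_one]; exact Set.mem_insert _ _
      · by_cases hn : t = h8negOne
        · left
          show Matrix.trace (t : MF) ∈ ({2, -2} : Set F)
          rw [hn, h8_sl2_trace_negOne]; exact Set.mem_insert_of_mem _ rfl
        · right
          refine ⟨t, ⟨ht, ?_⟩, rfl⟩
          intro hz
          rcases hz with h | h
          · exact h1 h
          · exact hn h
    · rintro (hx | ⟨t, ht, rfl⟩)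
      · rcases hx with rfl | rfl
        · exact ⟨1, Subgroup.one_mem _, h8_sl2_trace_one⟩
        · exact ⟨h8negOne, hneg, h8_sl2_trace_negOne⟩
      · exact ⟨t, ht.1, rfl⟩
  have hdisj : Disjoint ({2, -2} : Set F) ((fun t : SLF => Matrix.trace (t : MF)) ''
        (((Subgroup.zpowers g₀ : Subgroup SLF) : Set SLF) \ ({1, h8negOne} : Set SLF))) := by
    rw [Set.disjoint_left]
    rintro x hx ⟨t, ht, rfl⟩
    have h4 : Matrix.trace (t : MF) * Matrix.trace (t : MF) = 4 := by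
      rcases hx with h | h
      · have h' : Matrix.trace (t : MF) = 2 := h
        rw [h']; norm_num
      · have h' : Matrix.trace (t : MF) = -2 := h
        rw [h']; norm_num
    rcases h8_torus_irregular h2 p g₀ c hc hpc t ht.1 h4 with h | h
    · exact ht.2 (Or.inl h)
    · exact ht.2 (Or.inr h)
  have hσS : ∀ a ∈ (((Subgroup.zpowers g₀ : Subgroup SLF) : Set SLF) \ ({1, h8negOne} : Set SLF)),
      a⁻¹ ∈ (((Subgroup.zpowers g₀ : Subgroup SLF) : Set SLF) \ ({1, h8negOne} : Set SLF)) := by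
    intro a ha
    refine ⟨Subgroup.inv_mem _ ha.1, ?_⟩
    intro hz
    rcases hz with h | h
    · exact ha.2 (Or.inl (inv_eq_one.mp h))
    · apply ha.2
      right
      have h5 : a = h8negOne⁻¹ := by rw [← h, inv_inv]
      have h6 : (h8negOne : SLF)⁻¹ = h8negOne := inv_eq_of_mul_eq_one_left h8negOne_mul_self
      rw [h5, h6]; rfl
  have hσne : ∀ a ∈ (((Subgroup.zpowers g₀ : Subgroup SLF) : Set SLF)
      \ ({1, h8negOne} : Set SLF)), a⁻¹ ≠ a := by
    intro a ha h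
    have h5 : a * a = 1 := by
      calc a * a = a * a⁻¹ := by rw [h]
        _ = 1 := mul_inv_cancel a
    rcases h8_sl2_sq_one h2 a h5 with h' | h'
    · exact ha.2 (Or.inl h')
    · exact ha.2 (Or.inr h')
  have hf : ∀ a ∈ (((Subgroup.zpowers g₀ : Subgroup SLF) : Set SLF) \ ({1, h8negOne} : Set SLF)),
      ∀ b ∈ (((Subgroup.zpowers g₀ : Subgroup SLF) : Set SLF) \ ({1, h8negOne} : Set SLF)),
      (fun t : SLF => Matrix.trace (t : MF)) a = (fun t : SLF => Matrix.trace (t : MF)) b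
        ↔ (b = a ∨ b = a⁻¹) := by
    intro a ha b hb
    show Matrix.trace (a : MF) = Matrix.trace (b : MF) ↔ (b = a ∨ b = a⁻¹)
    constructor
    · intro h
      exact h8_torus_same_trace h2 p g₀ c hc hpc a b ha.1 hb.1 h.symm
    · rintro (rfl | rfl)
      · rfl
      · exact (h8_sl2_trace_inv a).symm
  have himg2 := h8_ncard_image_two' (fun t : SLF => Matrix.trace (t : MF))
    (((Subgroup.zpowers g₀ : Subgroup SLF) : Set SLF) \ ({1, h8negOne} : Set SLF))
    (Set.toFinite _) (fun t => t⁻¹) hσS hσne hf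
  rw [himg, Set.ncard_union_eq hdisj (Set.toFinite _) (Set.toFinite _),
    Set.ncard_pair (h8_two_ne_neg_two h2)]
  rw [hScard] at himg2
  obtain ⟨m, rfl⟩ := hce
  omega

/-- the normalizer of the cyclic group generated by a regular element, as a set -/
theorem h8_sl2_normalizer_zpowers (h2 : (2 : F) ≠ 0) (u : SLF)
    (hreg : Matrix.trace (u : MF) * Matrix.trace (u : MF) ≠ 4) :
    ((Subgroup.normalizer ((Subgroup.zpowers u : Subgroup SLF) : Set SLF) : Subgroup SLF)
        : Set SLF)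
      = {y : SLF | y * u * y⁻¹ = u ∨ y * u * y⁻¹ = u⁻¹} := by
  ext y
  rw [SetLike.mem_coe, Subgroup.mem_set_normalizer_iff]
  show (∀ n, n ∈ ((Subgroup.zpowers u : Subgroup SLF) : Set SLF)
      ↔ y * n * y⁻¹ ∈ ((Subgroup.zpowers u : Subgroup SLF) : Set SLF))
      ↔ (y * u * y⁻¹ = u ∨ y * u * y⁻¹ = u⁻¹)
  constructor
  · intro h
    have h5 : y * u * y⁻¹ ∈ Subgroup.zpowers u := (h u).mp (Subgroup.mem_zpowers u)
    obtain ⟨j, hj⟩ := Subgroup.mem_zpowers_iff.mp h5
    have hcomm : (y * u * y⁻¹) * u = u * (y * u * y⁻¹) := by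
      rw [← hj]
      exact ((Commute.refl u).zpow_left j).eq
    have htr : Matrix.trace ((y * u * y⁻¹ : SLF) : MF) = Matrix.trace (u : MF) :=
      h8_sl2_trace_conj y u
    exact h8_sl2_cent_same_trace h2 u _ hreg hcomm htr
  · intro h n
    have h5 : y * u * y⁻¹ ∈ Subgroup.zpowers u := by
      rcases h with h | h
      · rw [h]; exact Subgroup.mem_zpowers u
      · rw [h]; exact Subgroup.inv_mem _ (Subgroup.mem_zpowers u)
    have h6 : y⁻¹ * u * y⁻¹⁻¹ ∈ Subgroup.zpowers u := by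
      rcases h with h | h
      · have h7 : y⁻¹ * u * y⁻¹⁻¹ = u := by
          calc y⁻¹ * u * y⁻¹⁻¹ = y⁻¹ * (y * u * y⁻¹) * y := by rw [h, inv_inv]
            _ = u := by group
        rw [h7]; exact Subgroup.mem_zpowers u
      · have h7 : y⁻¹ * u * y⁻¹⁻¹ = u⁻¹ := by
          have h8 : u = (y * u * y⁻¹)⁻¹ := by rw [h, inv_inv]
          calc y⁻¹ * u * y⁻¹⁻¹ = y⁻¹ * (y * u * y⁻¹)⁻¹ * y := by rw [← h8, inv_inv]
            _ = u⁻¹ := by group
        rw [h7]; exact Subgroup.inv_mem _ (Subgroup.mem_zpowers u)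
    constructor
    · intro hn
      exact h8_conj_mem_zpowers y u h5 n hn
    · intro hn
      have h7 := h8_conj_mem_zpowers y⁻¹ u h6 _ hn
      have h8 : y⁻¹ * (y * n * y⁻¹) * y⁻¹⁻¹ = n := by group
      rw [h8] at h7
      exact h7

theorem h8_torus_normalizer_card [Fintype F] (hodd : Fintype.card F % 2 = 1) (h2 : (2 : F) ≠ 0)
    (g₀ : SLF) (hreg : Matrix.trace (g₀ : MF) * Matrix.trace (g₀ : MF) ≠ 4)
    (hCT : Subgroup.zpowers g₀ = Subgroup.centralizer ({g₀} : Set SLF)) :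
    Nat.card (Subgroup.normalizer ((Subgroup.zpowers g₀ : Subgroup SLF) : Set SLF))
      = 2 * orderOf g₀ := by
  have e0 : Nat.card (Subgroup.normalizer ((Subgroup.zpowers g₀ : Subgroup SLF) : Set SLF))
      = ((Subgroup.normalizer ((Subgroup.zpowers g₀ : Subgroup SLF) : Set SLF) : Subgroup SLF)
        : Set SLF).ncard := Nat.card_coe_set_eq _
  rw [e0, h8_sl2_normalizer_zpowers h2 g₀ hreg, h8_sl2_card_normalizer_set hodd h2 g₀ hreg,
    ← hCT, Nat.card_zpowers]

theorem h8_torus_sq_outside (h2 : (2 : F) ≠ 0) (g₀ : SLF)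
    (hreg : Matrix.trace (g₀ : MF) * Matrix.trace (g₀ : MF) ≠ 4)
    (hCT : Subgroup.zpowers g₀ = Subgroup.centralizer ({g₀} : Set SLF)) (g : SLF)
    (hg : g ∈ Subgroup.normalizer ((Subgroup.zpowers g₀ : Subgroup SLF) : Set SLF))
    (hgT : g ∉ Subgroup.zpowers g₀) : g * g = h8negOne := by
  have hg' : g ∈ ((Subgroup.normalizer ((Subgroup.zpowers g₀ : Subgroup SLF) : Set SLF)
      : Subgroup SLF) : Set SLF) := hg
  rw [h8_sl2_normalizer_zpowers h2 g₀ hreg] at hg'
  have hinv : g * g₀ * g⁻¹ = g₀⁻¹ := by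
    rcases hg' with h | h
    · exfalso
      apply hgT
      rw [hCT, Subgroup.mem_centralizer_singleton_iff]
      calc g * g₀ = g * g₀ * g⁻¹ * g := by group
        _ = g₀ * g := by rw [h]
    · exact h
  have hgg : g * g ∈ Subgroup.zpowers g₀ := by
    rw [hCT, Subgroup.mem_centralizer_singleton_iff]
    have h5 : g * g₀⁻¹ * g⁻¹ = g₀ := by
      calc g * g₀⁻¹ * g⁻¹ = (g * g₀ * g⁻¹)⁻¹ := by group
        _ = g₀ := by rw [hinv, inv_inv]
    calc g * g * g₀ = g * (g * g₀ * g⁻¹) * g := by group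
      _ = g * g₀⁻¹ * g⁻¹ * (g * g) := by rw [hinv]; group
      _ = g₀ * (g * g) := by rw [h5]
  obtain ⟨j, hj⟩ := Subgroup.mem_zpowers_iff.mp hgg
  have h6 : g * (g * g) * g⁻¹ = (g * g)⁻¹ := by
    rw [← hj, ← conj_zpow, hinv, _root_.inv_zpow]
  have h7 : (g * g) * (g * g) = 1 := by
    have h8 : g * (g * g) * g⁻¹ = g * g := by group
    rw [h8] at h6
    calc (g * g) * (g * g) = (g * g) * (g * g)⁻¹ := by rw [← h6]
      _ = 1 := mul_inv_cancel _
  rcases h8_sl2_sq_one h2 (g * g) h7 with h | h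
  · exfalso
    apply hgT
    rw [hCT, Subgroup.mem_centralizer_singleton_iff]
    rcases h8_sl2_sq_one h2 g h with h' | h'
    · rw [h', one_mul, mul_one]
    · rw [h']
      exact (Subgroup.mem_center_iff.mp h8negOne_mem_center g₀).symm
  · exact h

/-- the number of conjugacy classes of the normalizer of a maximal torus -/
theorem h8_torus_normalizer_classes [Fintype F] (hodd : Fintype.card F % 2 = 1)
    (h2 : (2 : F) ≠ 0) (p : ℕ) [Fact p.Prime] [CharP F p] (g₀ : SLF) (c : ℕ)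
    (hc : orderOf g₀ = c) (hpc : ¬ p ∣ c) (hce : 2 ∣ c)
    (hreg : Matrix.trace (g₀ : MF) * Matrix.trace (g₀ : MF) ≠ 4)
    (hCT : Subgroup.zpowers g₀ = Subgroup.centralizer ({g₀} : Set SLF))
    (N : Subgroup SLF)
    (hN : N = Subgroup.normalizer ((Subgroup.zpowers g₀ : Subgroup SLF) : Set SLF)) :
    Nat.card (ConjClasses N) = c / 2 + 3 := by
  classical
  have hNmem : ∀ y : SLF, y ∈ N ↔ (y * g₀ * y⁻¹ = g₀ ∨ y * g₀ * y⁻¹ = g₀⁻¹) := by
    intro y
    have h5 := h8_sl2_normalizer_zpowers h2 g₀ hreg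
    rw [hN]
    constructor
    · intro hy
      have h6 : y ∈ ((Subgroup.normalizer ((Subgroup.zpowers g₀ : Subgroup SLF) : Set SLF)
          : Subgroup SLF) : Set SLF) := hy
      rw [h5] at h6
      exact h6
    · intro hy
      have h6 : y ∈ ((Subgroup.normalizer ((Subgroup.zpowers g₀ : Subgroup SLF) : Set SLF)
          : Subgroup SLF) : Set SLF) := by
        rw [h5]; exact hy
      exact h6
  have hTmem : ∀ y : SLF, y ∈ Subgroup.zpowers g₀ ↔ y * g₀ = g₀ * y := by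
    intro y
    rw [hCT, Subgroup.mem_centralizer_singleton_iff]
  have hTN : ∀ y : SLF, y ∈ Subgroup.zpowers g₀ → y ∈ N := by
    intro y hy
    rw [hNmem]
    left
    rw [(hTmem y).mp hy, mul_inv_cancel_right]
  have hinv₀ : ∀ y : SLF, y ∈ N → y ∉ Subgroup.zpowers g₀ → y * g₀ * y⁻¹ = g₀⁻¹ := by
    intro y hy hyT
    rcases (hNmem y).mp hy with h | h
    · exfalso
      apply hyT
      rw [hTmem]
      calc y * g₀ = y * g₀ * y⁻¹ * y := by group
        _ = g₀ * y := by rw [h]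
    · exact h
  have hinvT : ∀ y : SLF, y ∈ N → y ∉ Subgroup.zpowers g₀ →
      ∀ t ∈ Subgroup.zpowers g₀, y * t * y⁻¹ = t⁻¹ := by
    intro y hy hyT t ht
    obtain ⟨j, rfl⟩ := Subgroup.mem_zpowers_iff.mp ht
    rw [← conj_zpow, hinv₀ y hy hyT, _root_.inv_zpow]
  obtain ⟨w, hw⟩ : ∃ w : SLF, w * g₀ * w⁻¹ = g₀⁻¹ := by
    have hmem : g₀⁻¹ ∈ {h : SLF | IsConj g₀ h} := by
      rw [h8_sl2_odd_class_set hodd h2 g₀ hreg]
      exact h8_sl2_trace_inv g₀
    exact isConj_iff.mp hmem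
  have hne : g₀ ≠ g₀⁻¹ := h8_sl2_ne_inv_of_regular h2 g₀ hreg
  have hwN : w ∈ N := (hNmem w).mpr (Or.inr hw)
  have hwT : w ∉ Subgroup.zpowers g₀ := by
    intro h
    apply hne
    rw [hTmem] at h
    calc g₀ = w * g₀ * w⁻¹ := by rw [h]; group
      _ = g₀⁻¹ := hw
  have hprod : ∀ y z : SLF, y ∈ N → y ∉ Subgroup.zpowers g₀ → z ∈ N →
      z ∉ Subgroup.zpowers g₀ → y⁻¹ * z ∈ Subgroup.zpowers g₀ := by
    intro y z hy hyT hz hzT
    rw [hTmem]
    have h1 := hinv₀ y hy hyT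
    have h3 := hinv₀ z hz hzT
    have h4 : g₀ * y⁻¹ = y⁻¹ * g₀⁻¹ := by
      calc g₀ * y⁻¹ = y⁻¹ * (y * g₀ * y⁻¹) := by group
        _ = y⁻¹ * g₀⁻¹ := by rw [h1]
    calc y⁻¹ * z * g₀ = y⁻¹ * (z * g₀ * z⁻¹) * z := by group
      _ = y⁻¹ * g₀⁻¹ * z := by rw [h3]
      _ = g₀ * y⁻¹ * z := by rw [h4]
      _ = g₀ * (y⁻¹ * z) := by group
  -- the subgroup of squares
  have hpar : ∀ j : ℤ, g₀ ^ (2 * j) = (g₀ * g₀) ^ j := by
    intro j
    rw [(Commute.refl g₀).mul_zpow j, ← _root_.zpow_add]; congr 1; ring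
  have hsq : ∀ s : SLF, s ∈ Subgroup.zpowers g₀ → s * s ∈ Subgroup.zpowers (g₀ * g₀) := by
    intro s hs
    obtain ⟨j, rfl⟩ := Subgroup.mem_zpowers_iff.mp hs
    rw [Subgroup.mem_zpowers_iff]
    exact ⟨j, (Commute.refl g₀).mul_zpow j⟩
  have hnsq : ∀ t : SLF, t ∈ Subgroup.zpowers g₀ → t ∉ Subgroup.zpowers (g₀ * g₀) →
      g₀⁻¹ * t ∈ Subgroup.zpowers (g₀ * g₀) := by
    intro t ht htn
    obtain ⟨j, rfl⟩ := Subgroup.mem_zpowers_iff.mp ht
    rcases Int.even_or_odd' j with ⟨k, hk | hk⟩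
    · exfalso
      apply htn
      rw [hk, hpar]
      exact Subgroup.mem_zpowers_iff.mpr ⟨k, rfl⟩
    · rw [Subgroup.mem_zpowers_iff]
      refine ⟨k, ?_⟩
      rw [← hpar, hk, ← _root_.zpow_neg_one g₀, ← _root_.zpow_add]; congr 1; ring
  have hg₀T2 : g₀ ∉ Subgroup.zpowers (g₀ * g₀) := by
    intro h
    obtain ⟨k, hk⟩ := Subgroup.mem_zpowers_iff.mp h
    rw [← hpar] at hk
    have h5 : g₀ ^ (2 * k - 1) = 1 := by
      rw [_root_.zpow_sub, _root_.zpow_one, hk, mul_inv_cancel]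
    have h6 := orderOf_dvd_iff_zpow_eq_one.mpr h5
    rw [hc] at h6
    have h7 : (2 : ℤ) ∣ 2 * k - 1 := dvd_trans (by exact_mod_cast hce) h6
    omega
  have hconjout : ∀ n z : SLF, n ∈ N → z ∈ N → z ∉ Subgroup.zpowers g₀ →
      ∃ s ∈ Subgroup.zpowers g₀, n * z * n⁻¹ = z * (s * s) := by
    intro n z hn hz hzT
    by_cases hnT : n ∈ Subgroup.zpowers g₀
    · refine ⟨n⁻¹, Subgroup.inv_mem _ hnT, ?_⟩
      have h' := hinvT z hz hzT n⁻¹ (Subgroup.inv_mem _ hnT)
      calc n * z * n⁻¹ = (z * n⁻¹ * z⁻¹) * z * n⁻¹ := by rw [h', inv_inv]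
        _ = z * (n⁻¹ * n⁻¹) := by group
    · have ht := hprod z n hz hzT hn hnT
      refine ⟨z⁻¹ * n, ht, ?_⟩
      have h'' := hinvT z hz hzT (z⁻¹ * n)⁻¹ (Subgroup.inv_mem _ ht)
      calc n * z * n⁻¹ = z * (z⁻¹ * n) * (z * (z⁻¹ * n)⁻¹ * z⁻¹) := by group
        _ = z * (z⁻¹ * n) * (z⁻¹ * n)⁻¹⁻¹ := by rw [h'']
        _ = z * ((z⁻¹ * n) * (z⁻¹ * n)) := by rw [inv_inv]; group
  -- the invariant
  obtain ⟨Ψ₀, hΨ₀def⟩ : ∃ Ψ₀ : SLF → F ⊕ Bool, ∀ z : SLF, Ψ₀ z
      = if z ∈ Subgroup.zpowers g₀ then Sum.inl (Matrix.trace (z : MF))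
        else Sum.inr (decide (w⁻¹ * z ∈ Subgroup.zpowers (g₀ * g₀))) := ⟨_, fun _ => rfl⟩
  have hΨ₀ : ∀ n z : SLF, n ∈ N → z ∈ N → Ψ₀ (n * z * n⁻¹) = Ψ₀ z := by
    intro n z hn hz
    have hnz : n * z * n⁻¹ ∈ N := N.mul_mem (N.mul_mem hn hz) (N.inv_mem hn)
    by_cases hzT : z ∈ Subgroup.zpowers g₀
    · have hcT : n * z * n⁻¹ ∈ Subgroup.zpowers g₀ := by
        by_cases hnT : n ∈ Subgroup.zpowers g₀
        · exact Subgroup.mul_mem _ (Subgroup.mul_mem _ hnT hzT) (Subgroup.inv_mem _ hnT)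
        · rw [hinvT n hn hnT z hzT]; exact Subgroup.inv_mem _ hzT
      rw [hΨ₀def, hΨ₀def, if_pos hcT, if_pos hzT, h8_sl2_trace_conj n z]
    · have hcT : n * z * n⁻¹ ∉ Subgroup.zpowers g₀ := by
        intro h
        apply hzT
        have h5 : z = n⁻¹ * (n * z * n⁻¹) * n⁻¹⁻¹ := by group
        rw [h5]
        by_cases hnT : n ∈ Subgroup.zpowers g₀
        · exact Subgroup.mul_mem _ (Subgroup.mul_mem _ (Subgroup.inv_mem _ hnT) h)
            (Subgroup.inv_mem _ (Subgroup.inv_mem _ hnT))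
        · have hn' : n⁻¹ ∉ Subgroup.zpowers g₀ := by
            intro h'
            apply hnT
            have h6 := Subgroup.inv_mem _ h'
            rwa [inv_inv] at h6
          rw [hinvT n⁻¹ (N.inv_mem hn) hn' _ h]; exact Subgroup.inv_mem _ h
      obtain ⟨s, hs, hsz⟩ := hconjout n z hn hz hzT
      have hiff : (w⁻¹ * (n * z * n⁻¹) ∈ Subgroup.zpowers (g₀ * g₀))
          ↔ (w⁻¹ * z ∈ Subgroup.zpowers (g₀ * g₀)) := by
        rw [hsz, ← mul_assoc]
        exact Subgroup.mul_mem_cancel_right _ (hsq s hs)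
      rw [hΨ₀def, hΨ₀def, if_neg hcT, if_neg hzT, decide_eq_decide.mpr hiff]
  have hinjΨ : ∀ z z' : SLF, z ∈ N → z' ∈ N → Ψ₀ z = Ψ₀ z' → ∃ n ∈ N, n * z * n⁻¹ = z' := by
    intro z z' hz hz' hΨ
    rw [hΨ₀def, hΨ₀def] at hΨ
    by_cases hzT : z ∈ Subgroup.zpowers g₀
    · by_cases hzT' : z' ∈ Subgroup.zpowers g₀
      · rw [if_pos hzT, if_pos hzT'] at hΨ
        have htr : Matrix.trace (z' : MF) = Matrix.trace (z : MF) := (Sum.inl_injective hΨ).symm
        rcases h8_torus_same_trace h2 p g₀ c hc hpc z z' hzT hzT' htr with h | h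
        · exact ⟨1, N.one_mem, by rw [h]; group⟩
        · exact ⟨w, hwN, by rw [h]; exact hinvT w hwN hwT z hzT⟩
      · rw [if_pos hzT, if_neg hzT'] at hΨ
        exact absurd hΨ Sum.inl_ne_inr
    · by_cases hzT' : z' ∈ Subgroup.zpowers g₀
      · rw [if_neg hzT, if_pos hzT'] at hΨ
        exact absurd hΨ Sum.inr_ne_inl
      · rw [if_neg hzT, if_neg hzT'] at hΨ
        have hiff : (w⁻¹ * z ∈ Subgroup.zpowers (g₀ * g₀))
            ↔ (w⁻¹ * z' ∈ Subgroup.zpowers (g₀ * g₀)) :=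
          decide_eq_decide.mp (Sum.inr_injective hΨ)
        have ht : z⁻¹ * z' ∈ Subgroup.zpowers (g₀ * g₀) := by
          by_cases h1 : w⁻¹ * z ∈ Subgroup.zpowers (g₀ * g₀)
          · have h3 := hiff.mp h1
            have h4 : w⁻¹ * z' = (w⁻¹ * z) * (z⁻¹ * z') := by group
            rw [h4] at h3
            exact (Subgroup.mul_mem_cancel_left _ h1).mp h3
          · have h3 : w⁻¹ * z' ∉ Subgroup.zpowers (g₀ * g₀) := fun h => h1 (hiff.mpr h)
            have h5 := hnsq _ (hprod w z hwN hwT hz hzT) h1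
            have h6 := hnsq _ (hprod w z' hwN hwT hz' hzT') h3
            have h7 : z⁻¹ * z' = (g₀⁻¹ * (w⁻¹ * z))⁻¹ * (g₀⁻¹ * (w⁻¹ * z')) := by group
            rw [h7]
            exact Subgroup.mul_mem _ (Subgroup.inv_mem _ h5) h6
        obtain ⟨k, hk⟩ := Subgroup.mem_zpowers_iff.mp ht
        have hs : g₀ ^ k ∈ Subgroup.zpowers g₀ :=
          Subgroup.zpow_mem _ (Subgroup.mem_zpowers g₀) k
        refine ⟨(g₀ ^ k)⁻¹, hTN _ (Subgroup.inv_mem _ hs), ?_⟩
        have h8 : z' = z * (g₀ ^ k * g₀ ^ k) := by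
          rw [← (Commute.refl g₀).mul_zpow k, hk]; group
        rw [h8]
        calc (g₀ ^ k)⁻¹ * z * (g₀ ^ k)⁻¹⁻¹ = (z * g₀ ^ k * z⁻¹) * z * g₀ ^ k := by
              rw [hinvT z hz hzT _ hs, inv_inv]
          _ = z * (g₀ ^ k * g₀ ^ k) := by group
  let f : ConjClasses N → F ⊕ Bool := Quotient.lift (fun z : N => Ψ₀ (z : SLF)) (by
    intro a b hab
    obtain ⟨n, rfl⟩ := isConj_iff.mp hab
    exact (hΨ₀ (n : SLF) (a : SLF) n.2 a.2).symm)
  have hinj : Function.Injective f := by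
    intro x y hxy
    induction x using Quotient.inductionOn with | _ z =>
    induction y using Quotient.inductionOn with | _ z' =>
    change Ψ₀ (z : SLF) = Ψ₀ (z' : SLF) at hxy
    apply Quotient.sound
    show IsConj z z'
    obtain ⟨n, hn, hnz⟩ := hinjΨ (z : SLF) (z' : SLF) z.2 z'.2 hxy
    exact isConj_iff.mpr ⟨⟨n, hn⟩, Subtype.ext hnz⟩
  have hneg : h8negOne ∈ Subgroup.zpowers g₀ := by
    rw [hTmem]
    exact (Subgroup.mem_center_iff.mp h8negOne_mem_center g₀).symm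
  have hrange : Set.range f = Sum.inl '' ((fun t : SLF => Matrix.trace (t : MF)) ''
        ((Subgroup.zpowers g₀ : Subgroup SLF) : Set SLF)) ∪ Set.range Sum.inr := by
    ext v
    constructor
    · rintro ⟨x, rfl⟩
      induction x using Quotient.inductionOn with | _ z =>
      show Ψ₀ (z : SLF) ∈ _
      rw [hΨ₀def]
      by_cases hzT : (z : SLF) ∈ Subgroup.zpowers g₀
      · rw [if_pos hzT]
        left
        exact ⟨_, ⟨(z : SLF), hzT, rfl⟩, rfl⟩
      · rw [if_neg hzT]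
        right
        exact ⟨_, rfl⟩
    · rintro (⟨x, ⟨t, ht, rfl⟩, rfl⟩ | ⟨b, rfl⟩)
      · have ht' : t ∈ Subgroup.zpowers g₀ := ht
        refine ⟨ConjClasses.mk ⟨t, hTN t ht'⟩, ?_⟩
        show Ψ₀ t = Sum.inl (Matrix.trace (t : MF))
        rw [hΨ₀def, if_pos ht']
      · cases b
        · have hwgN : w * g₀ ∈ N := N.mul_mem hwN (hTN g₀ (Subgroup.mem_zpowers g₀))
          have hwgT : w * g₀ ∉ Subgroup.zpowers g₀ := by
            intro h
            apply hwT
            have h5 : w = (w * g₀) * g₀⁻¹ := by group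
            rw [h5]
            exact Subgroup.mul_mem _ h (Subgroup.inv_mem _ (Subgroup.mem_zpowers g₀))
          refine ⟨ConjClasses.mk ⟨w * g₀, hwgN⟩, ?_⟩
          show Ψ₀ (w * g₀) = _
          rw [hΨ₀def, if_neg hwgT, inv_mul_cancel_left, decide_eq_false hg₀T2]
        · refine ⟨ConjClasses.mk ⟨w, hwN⟩, ?_⟩
          show Ψ₀ w = _
          rw [hΨ₀def, if_neg hwT, inv_mul_cancel, decide_eq_true (Subgroup.one_mem _)]
  have hdisj : Disjoint (Sum.inl '' ((fun t : SLF => Matrix.trace (t : MF)) ''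
        ((Subgroup.zpowers g₀ : Subgroup SLF) : Set SLF)) : Set (F ⊕ Bool))
      (Set.range Sum.inr) := by
    rw [Set.disjoint_left]
    rintro v ⟨x, _, rfl⟩ ⟨b, hb⟩
    exact Sum.inr_ne_inl hb
  have hbool : (Set.range (Sum.inr : Bool → F ⊕ Bool)).ncard = 2 := by
    rw [← Set.image_univ, Set.ncard_image_of_injective _ Sum.inr_injective, Set.ncard_univ,
      Nat.card_eq_fintype_card, Fintype.card_bool]
  have e1 : Nat.card (ConjClasses N) = (Set.range f).ncard := by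
    rw [← Nat.card_coe_set_eq]
    exact Nat.card_congr (Equiv.ofInjective f hinj)
  rw [e1, hrange, Set.ncard_union_eq hdisj (Set.toFinite _) (Set.toFinite _),
    Set.ncard_image_of_injective _ Sum.inl_injective,
    h8_torus_trace_card h2 p g₀ c hc hpc hce hneg, hbool]

theorem h8_neg_one_fin_two : (-1 : MF) = !![-1, 0; 0, -1] := by
  ext i j; fin_cases i <;> fin_cases j <;> simp

theorem h8negOne_val : ((h8negOne : SLF) : MF) = -1 := by
  rw [h8_neg_one_fin_two]; rfl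

theorem h8_sl2_card_centralizer_of_root [Fintype F] (g : SLF)
    (ht : Matrix.trace (g : MF) * Matrix.trace (g : MF) ≠ 4) (a : F)
    (ha : a * (Matrix.trace (g : MF) - a) = 1) :
    Nat.card (Subgroup.centralizer ({g} : Set SLF)) = Fintype.card F - 1 := by
  have h1 := Subgroup.card_mul_index (Subgroup.centralizer ({g} : Set SLF))
  rw [h8_card_SL2, h8_sl2_index_regular g ht] at h1
  obtain ⟨k, hk⟩ : ∃ k, Fintype.card F = k + 2 :=
    ⟨Fintype.card F - 2, by have := Fintype.one_lt_card (α := F); omega⟩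
  have e0 : (k + 2) ^ 2 - 1 = (k + 1) * (k + 3) := by
    apply Nat.sub_eq_of_eq_add; ring
  rw [h8_card_roots_two_odd ht a ha, hk, e0, show k + 2 - 1 = k + 1 by omega] at h1
  rw [hk]
  have h5 : Nat.card (Subgroup.centralizer ({g} : Set SLF)) * ((k + 2) * (k + 3))
      = (k + 1) * ((k + 2) * (k + 3)) := by
    have e : (k + 2) * (k + 1) + 2 * (k + 2) = (k + 2) * (k + 3) := by ring
    rw [e] at h1
    rw [h1]; ring
  have h6 := Nat.eq_of_mul_eq_mul_right (by positivity) h5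
  omega

theorem h8_sl2_nonscalar_of_ne (g : SLF) (h1 : (g : MF) ≠ 1) (hn : (g : MF) ≠ -1) :
    (g : MF) 0 1 ≠ 0 ∨ (g : MF) 1 0 ≠ 0 ∨ (g : MF) 0 0 ≠ (g : MF) 1 1 := by
  obtain ⟨P, Q, R, S, hgm⟩ : ∃ P Q R S : F, (g : MF) = !![P, Q; R, S] :=
    ⟨_, _, _, _, Matrix.eta_fin_two _⟩
  have hdet : P * S - Q * R = 1 := by
    have h0 := g.det_coe
    rw [hgm, Matrix.det_fin_two_of] at h0; exact h0
  by_contra hcon
  push Not at hcon
  obtain ⟨hq, hr, hps⟩ := hcon
  rw [hgm] at hq hr hps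
  have hQ : Q = 0 := hq
  have hR : R = 0 := hr
  have hPS : P = S := hps
  rw [hQ, hR, ← hPS] at hdet
  have h5 : (P - 1) * (P + 1) = 0 := by linear_combination hdet
  rcases mul_eq_zero.mp h5 with h | h
  · apply h1
    rw [hgm, hQ, hR, ← hPS, show P = 1 by linear_combination h, Matrix.one_fin_two]
  · apply hn
    rw [hgm, hQ, hR, ← hPS, show P = -1 by linear_combination h, h8_neg_one_fin_two]

theorem h8_sl2_eigvec_of_root (g : SLF) (a : F)
    (ha : a * (Matrix.trace (g : MF) - a) = 1) :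
    ∃ v : Fin 2 → F, v ≠ 0 ∧ (g : MF).mulVec v = a • v := by
  obtain ⟨P, Q, R, S, hgm⟩ : ∃ P Q R S : F, (g : MF) = !![P, Q; R, S] :=
    ⟨_, _, _, _, Matrix.eta_fin_two _⟩
  have hdet : P * S - Q * R = 1 := by
    have h0 := g.det_coe
    rw [hgm, Matrix.det_fin_two_of] at h0; exact h0
  rw [hgm, Matrix.trace_fin_two_of] at ha
  have hM : (g : MF) - a • (1 : MF) = !![P - a, Q; R, S - a] := by
    rw [hgm]
    ext i j; fin_cases i <;> fin_cases j <;> simp
  have h0 : ((g : MF) - a • (1 : MF)).det = 0 := by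
    rw [hM, Matrix.det_fin_two_of]
    linear_combination hdet - ha
  obtain ⟨v, hv0, hv⟩ := Matrix.exists_mulVec_eq_zero_iff.mpr h0
  refine ⟨v, hv0, ?_⟩
  rw [Matrix.sub_mulVec, Matrix.smul_mulVec, Matrix.one_mulVec] at hv
  exact sub_eq_zero.mp hv

theorem h8_root_of_disc_sq (h2 : (2 : F) ≠ 0) (s w : F) (hw : s * s - 4 = w * w) :
    ∃ a : F, a * (s - a) = 1 := by
  obtain ⟨l, hl⟩ : ∃ l : F, l * 2 = 1 := ⟨2⁻¹, inv_mul_cancel₀ h2⟩
  exact ⟨(s + w) * l, by linear_combination l * l * hw + (2 * l + 1 - s * (s + w) * l) * hl⟩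

theorem h8_nonsq_ratio [Fintype F] (A B : F) (hA : ¬ IsSquare A) (hB : ¬ IsSquare B) :
    ∃ y : F, y * y * B = A := by
  classical
  have hA0 : A ≠ 0 := by rintro rfl; exact hA ⟨0, by ring⟩
  have hB0 : B ≠ 0 := by rintro rfl; exact hB ⟨0, by ring⟩
  have h1 : quadraticChar F A = -1 := quadraticChar_neg_one_iff_not_isSquare.mpr hA
  have h3 : quadraticChar F B = -1 := quadraticChar_neg_one_iff_not_isSquare.mpr hB
  have h4 : quadraticChar F (A * B) = 1 := by rw [map_mul, h1, h3]; norm_num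
  obtain ⟨z, hz⟩ := (quadraticChar_one_iff_isSquare (mul_ne_zero hA0 hB0)).mp h4
  obtain ⟨l, hl⟩ : ∃ l : F, l * B = 1 := ⟨B⁻¹, inv_mul_cancel₀ hB0⟩
  refine ⟨z * l, ?_⟩
  linear_combination (-(l * l * B)) * hz + A * (l * B + 1) * hl

/-- an elliptic element is conjugate into the centralizer of a given elliptic element -/
theorem h8_elliptic_conj_torus [Fintype F] (hodd : Fintype.card F % 2 = 1) (h2 : (2 : F) ≠ 0)
    (g₁ : SLF) (hnoroot : ∀ a : F, a * (Matrix.trace (g₁ : MF) - a) ≠ 1)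
    (g : SLF) (hg : ∀ (c : F) (v : Fin 2 → F), v ≠ 0 → (g : MF).mulVec v ≠ c • v) :
    ∃ h : SLF, h * g₁ = g₁ * h ∧ IsConj g h := by
  obtain ⟨s, hsdef⟩ : ∃ s : F, s = Matrix.trace (g : MF) := ⟨_, rfl⟩
  obtain ⟨t, htdef⟩ : ∃ t : F, t = Matrix.trace (g₁ : MF) := ⟨_, rfl⟩
  have hs : ¬ IsSquare (s * s - 4) := by
    rintro ⟨w, hw⟩
    obtain ⟨a, ha⟩ := h8_root_of_disc_sq h2 s w hw
    rw [hsdef] at ha
    obtain ⟨v, hv0, hv⟩ := h8_sl2_eigvec_of_root g a ha
    exact hg a v hv0 hv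
  have ht : ¬ IsSquare (t * t - 4) := by
    rintro ⟨w, hw⟩
    obtain ⟨a, ha⟩ := h8_root_of_disc_sq h2 t w hw
    rw [htdef] at ha
    exact hnoroot a ha
  obtain ⟨y, hy⟩ := h8_nonsq_ratio (s * s - 4) (t * t - 4) hs ht
  obtain ⟨l, hl⟩ : ∃ l : F, l * 2 = 1 := ⟨2⁻¹, inv_mul_cancel₀ h2⟩
  obtain ⟨x, hx⟩ : ∃ x : F, x = (s - t * y) * l := ⟨_, rfl⟩
  obtain ⟨P, Q, R, S, hgm⟩ : ∃ P Q R S : F, (g₁ : MF) = !![P, Q; R, S] :=
    ⟨_, _, _, _, Matrix.eta_fin_two _⟩
  have hdet : P * S - Q * R = 1 := by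
    have h0 := g₁.det_coe
    rw [hgm, Matrix.det_fin_two_of] at h0; exact h0
  have htP : t = P + S := by rw [htdef, hgm, Matrix.trace_fin_two_of]
  have key : x * x + t * x * y + y * y = 1 := by
    linear_combination (x + (s - t * y) * l + t * y) * hx
      + (2 * l + 1 - t * y * l * (s - t * y) - y * y * (2 * l + 1)) * hl - l * l * hy
  have hdeth : (!![x + y * P, y * Q; y * R, x + y * S] : MF).det = 1 := by
    rw [Matrix.det_fin_two_of]
    linear_combination key + y * y * hdet - x * y * htP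
  refine ⟨⟨!![x + y * P, y * Q; y * R, x + y * S], hdeth⟩, ?_, ?_⟩
  · apply Subtype.ext
    show (!![x + y * P, y * Q; y * R, x + y * S] : MF) * (g₁ : MF)
      = (g₁ : MF) * (!![x + y * P, y * Q; y * R, x + y * S] : MF)
    rw [hgm, Matrix.mul_fin_two, Matrix.mul_fin_two]
    refine h8_fin_two_congr ?_ ?_ ?_ ?_ <;> ring
  · have hsreg : Matrix.trace (g : MF) * Matrix.trace (g : MF) ≠ 4 := by
      rw [← hsdef]
      intro h
      apply hs
      exact ⟨0, by linear_combination h⟩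
    have hmem : (⟨!![x + y * P, y * Q; y * R, x + y * S], hdeth⟩ : SLF)
        ∈ {h : SLF | IsConj g h} := by
      rw [h8_sl2_odd_class_set hodd h2 g hsreg]
      show Matrix.trace (!![x + y * P, y * Q; y * R, x + y * S] : MF) = Matrix.trace (g : MF)
      rw [Matrix.trace_fin_two_of, ← hsdef]
      linear_combination 2 * hx + (s - t * y) * hl - y * htP
    exact hmem

theorem h8_s2429 [Fintype F] (hodd : Odd (Fintype.card F)) :
    ∃ T' : Subgroup SLF, IsCyclic T' ∧ Nat.card T' = Fintype.card F + 1 ∧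
      Subgroup.centralizer ((T' : Set SLF)) = T' ∧
      (∀ g : SLF, g ∈ T' → (g : MF) ≠ 1 → (g : MF) ≠ -1 →
        Subgroup.centralizer ({g} : Set SLF) = T') ∧
      (∀ g : SLF, (∀ (c : F) (v : Fin 2 → F), v ≠ 0 → (g : MF).mulVec v ≠ c • v) →
        ∃ h : SLF, h * g * h⁻¹ ∈ T') ∧
      Nat.card (Subgroup.normalizer (T' : Set SLF)) = 2 * (Fintype.card F + 1) ∧
      Nat.card (ConjClasses (Subgroup.normalizer (T' : Set SLF))) = (Fintype.card F + 7) / 2 ∧
      ∀ g : SLF, g ∈ Subgroup.normalizer (T' : Set SLF) → g ∉ T' →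
        (g : MF) * (g : MF) = -1 := by
  classical
  have hodd' : Fintype.card F % 2 = 1 := Nat.odd_iff.mp hodd
  have hF : ringChar F ≠ 2 := by
    intro h0
    have := FiniteField.even_card_iff_char_two.mp h0
    omega
  have h2 : (2 : F) ≠ 0 := Ring.two_ne_zero hF
  obtain ⟨p, hp⟩ := CharP.exists F
  haveI := hp
  haveI : Fact p.Prime := ⟨CharP.char_is_prime F p⟩
  have hpp := (Fact.out : p.Prime)
  have hpq : p ∣ Fintype.card F := by
    obtain ⟨n, _, hn⟩ := FiniteField.card F p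
    rw [hn]
    exact dvd_pow_self p n.ne_zero
  have hq3 : 3 ≤ Fintype.card F := by have := Fintype.one_lt_card (α := F); omega
  obtain ⟨g₁, hog⟩ := h8_sl2_exists_order_q_add_one (F := F)
  have hpc : ¬ p ∣ Fintype.card F + 1 := by
    intro h
    have h5 := Nat.dvd_sub h hpq
    rw [show Fintype.card F + 1 - Fintype.card F = 1 by omega] at h5
    exact hpp.one_lt.ne' (Nat.dvd_one.mp h5)
  have hce : 2 ∣ Fintype.card F + 1 := by omega
  have hreg : Matrix.trace (g₁ : MF) * Matrix.trace (g₁ : MF) ≠ 4 := by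
    intro ht
    have h5 := h8_sl2_pow_two_p_of_irregular p g₁ ht
    have h6 := orderOf_dvd_of_pow_eq_one h5
    rw [hog] at h6
    have hcop : Nat.Coprime (Fintype.card F + 1) p :=
      ((Nat.Prime.coprime_iff_not_dvd hpp).mpr hpc).symm
    have h7 : Fintype.card F + 1 ∣ 2 := hcop.dvd_of_dvd_mul_right h6
    have := Nat.le_of_dvd (by norm_num) h7
    omega
  have hle : Subgroup.zpowers g₁ ≤ Subgroup.centralizer ({g₁} : Set SLF) := by
    rw [Subgroup.zpowers_le, Subgroup.mem_centralizer_singleton_iff]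
  have hdvd : Fintype.card F + 1 ∣ Nat.card (Subgroup.centralizer ({g₁} : Set SLF)) := by
    have h5 := Subgroup.card_dvd_of_le hle
    rwa [Nat.card_zpowers, hog] at h5
  have hcardC : Nat.card (Subgroup.centralizer ({g₁} : Set SLF)) = Fintype.card F + 1 := by
    rcases h8_sl2_card_centralizer_regular g₁ hreg with h | h
    · exfalso
      rw [h] at hdvd
      have := Nat.le_of_dvd (by omega) hdvd
      omega
    · exact h
  have hCT : Subgroup.zpowers g₁ = Subgroup.centralizer ({g₁} : Set SLF) := by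
    apply Subgroup.eq_of_le_of_card_ge hle
    rw [Nat.card_zpowers, hog, hcardC]
  have hnoroot : ∀ a : F, a * (Matrix.trace (g₁ : MF) - a) ≠ 1 := by
    intro a ha
    have h5 := h8_sl2_card_centralizer_of_root g₁ hreg a ha
    rw [hcardC] at h5
    omega
  refine ⟨Subgroup.zpowers g₁, inferInstance, ?_, ?_, ?_, ?_, ?_, ?_, ?_⟩
  · rw [Nat.card_zpowers, hog]
  · rw [h8_centralizer_zpowers, hCT]
  · intro g hg h1 hn
    have hns := h8_sl2_nonscalar_of_ne g h1 hn
    have hgc : g * g₁ = g₁ * g := by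
      rw [hCT] at hg
      exact Subgroup.mem_centralizer_singleton_iff.mp hg
    ext x
    rw [Subgroup.mem_centralizer_singleton_iff]
    constructor
    · intro hx
      rw [hCT, Subgroup.mem_centralizer_singleton_iff]
      exact h8_sl2_comm_trans x g g₁ hns hx hgc
    · intro hx
      obtain ⟨j, rfl⟩ := Subgroup.mem_zpowers_iff.mp hg
      obtain ⟨j', rfl⟩ := Subgroup.mem_zpowers_iff.mp hx
      rw [← _root_.zpow_add, ← _root_.zpow_add, add_comm]
  · intro g hg
    obtain ⟨h, hcomm, hconj⟩ := h8_elliptic_conj_torus hodd' h2 g₁ hnoroot g hg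
    obtain ⟨c, hc⟩ := isConj_iff.mp hconj
    refine ⟨c, ?_⟩
    rw [hc, hCT, Subgroup.mem_centralizer_singleton_iff]
    exact hcomm
  · rw [h8_torus_normalizer_card hodd' h2 g₁ hreg hCT, hog]
  · rw [h8_torus_normalizer_classes hodd' h2 p g₁ _ hog hpc hce hreg hCT _ rfl]
    omega
  · intro g hg hgT
    rw [← Matrix.SpecialLinearGroup.coe_mul, h8_torus_sq_outside h2 g₁ hreg hCT g hg hgT]
    exact h8negOne_val

theorem h8_diag_centralizer (d : SLF) (hd01 : (d : MF) 0 1 = 0) (hd10 : (d : MF) 1 0 = 0)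
    (hda : (d : MF) 0 0 * (d : MF) 0 0 ≠ 1) (g : SLF) :
    g ∈ Subgroup.centralizer ({d} : Set SLF) ↔ ((g : MF) 0 1 = 0 ∧ (g : MF) 1 0 = 0) := by
  obtain ⟨a, b, c, e, hdm⟩ : ∃ a b c e : F, (d : MF) = !![a, b; c, e] :=
    ⟨_, _, _, _, Matrix.eta_fin_two _⟩
  obtain ⟨x, y, z, w, hgm⟩ : ∃ x y z w : F, (g : MF) = !![x, y; z, w] :=
    ⟨_, _, _, _, Matrix.eta_fin_two _⟩
  rw [hdm] at hd01 hd10 hda
  rw [hgm]
  have hb : b = 0 := hd01
  have hc : c = 0 := hd10
  have haa : a * a ≠ 1 := hda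
  have hdet : a * e = 1 := by
    have h0 := d.det_coe
    rw [hdm, Matrix.det_fin_two_of, hb, hc] at h0
    linear_combination h0
  have hae : a ≠ e := by
    intro h; apply haa; rw [← h] at hdet; exact hdet
  rw [Subgroup.mem_centralizer_singleton_iff]
  show g * d = d * g ↔ (y = 0 ∧ z = 0)
  constructor
  · intro h
    have h1 := congrArg Subtype.val h
    rw [Matrix.SpecialLinearGroup.coe_mul, Matrix.SpecialLinearGroup.coe_mul, hgm, hdm,
      Matrix.mul_fin_two, Matrix.mul_fin_two] at h1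
    obtain ⟨e00, e01, e10, e11⟩ := h8_fin_two_inj h1
    rw [hb] at e01
    rw [hc] at e10
    constructor
    · have h5 : y * (e - a) = 0 := by linear_combination e01
      rcases mul_eq_zero.mp h5 with h | h
      · exact h
      · exact absurd (by linear_combination -h) hae
    · have h5 : z * (a - e) = 0 := by linear_combination e10
      rcases mul_eq_zero.mp h5 with h | h
      · exact h
      · exact absurd (by linear_combination h) hae
  · rintro ⟨hy, hz⟩
    apply Subtype.ext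
    rw [Matrix.SpecialLinearGroup.coe_mul, Matrix.SpecialLinearGroup.coe_mul, hgm, hdm,
      Matrix.mul_fin_two, Matrix.mul_fin_two, hy, hz, hb, hc]
    refine h8_fin_two_congr ?_ ?_ ?_ ?_ <;> ring

theorem h8_s2428 [Fintype F] (hodd : Odd (Fintype.card F)) (d : SLF)
    (hd01 : (d : MF) 0 1 = 0) (hd10 : (d : MF) 1 0 = 0) (hda : (d : MF) 0 0 ^ 2 ≠ 1) :
    (∀ g : SLF, g ∈ Subgroup.centralizer ({d} : Set SLF)
      ↔ ((g : MF) 0 1 = 0 ∧ (g : MF) 1 0 = 0)) ∧
    Nat.card (Subgroup.normalizer ((Subgroup.centralizer ({d} : Set SLF) : Subgroup SLF)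
      : Set SLF)) = 2 * (Fintype.card F - 1) ∧
    Nat.card (ConjClasses (Subgroup.normalizer
      ((Subgroup.centralizer ({d} : Set SLF) : Subgroup SLF) : Set SLF)))
      = (Fintype.card F + 5) / 2 ∧
    ∀ g : SLF, g ∈ Subgroup.normalizer
      ((Subgroup.centralizer ({d} : Set SLF) : Subgroup SLF) : Set SLF) →
      g ∉ Subgroup.centralizer ({d} : Set SLF) → (g : MF) * (g : MF) = -1 := by
  classical
  have hodd' : Fintype.card F % 2 = 1 := Nat.odd_iff.mp hodd
  have hF : ringChar F ≠ 2 := by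
    intro h0
    have := FiniteField.even_card_iff_char_two.mp h0
    omega
  have h2 : (2 : F) ≠ 0 := Ring.two_ne_zero hF
  obtain ⟨p, hp⟩ := CharP.exists F
  haveI := hp
  haveI : Fact p.Prime := ⟨CharP.char_is_prime F p⟩
  have hpp := (Fact.out : p.Prime)
  have hpq : p ∣ Fintype.card F := by
    obtain ⟨n, _, hn⟩ := FiniteField.card F p
    rw [hn]
    exact dvd_pow_self p n.ne_zero
  have hq3 : 3 ≤ Fintype.card F := by have := Fintype.one_lt_card (α := F); omega
  have hda' : (d : MF) 0 0 * (d : MF) 0 0 ≠ 1 := by rw [← pow_two]; exact hda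
  have hpart1 := h8_diag_centralizer d hd01 hd10 hda'
  obtain ⟨a₀, ha₀⟩ := IsCyclic.exists_ofOrder_eq_natCard (α := Fˣ)
  have hd00 : (d : MF) 0 0 ≠ 0 := by
    intro h0
    have hdet := d.det_coe
    rw [Matrix.det_fin_two, h0, hd01] at hdet
    simp at hdet
  have ha₀2 : (a₀ : F) * (a₀ : F) ≠ 1 := by
    intro h
    have h5 : a₀ * a₀ = 1 := Units.ext (by rw [Units.val_mul, h, Units.val_one])
    have h6 : orderOf a₀ ∣ 2 := orderOf_dvd_of_pow_eq_one (by rw [pow_two]; exact h5)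
    have h7 : ∀ x : Fˣ, x ^ 2 = 1 := by
      intro x
      have h8 : x ^ Nat.card Fˣ = 1 := pow_card_eq_one'
      rw [← ha₀] at h8
      obtain ⟨e, he⟩ := h6
      calc x ^ 2 = x ^ (orderOf a₀ * e) := by rw [← he]
        _ = 1 := by rw [pow_mul, h8, one_pow]
    have h9 := h7 (Units.mk0 _ hd00)
    apply hda
    have h10 := congrArg Units.val h9
    rw [Units.val_pow_eq_pow_val, Units.val_mk0, Units.val_one] at h10
    exact h10
  obtain ⟨g₀, hg₀def⟩ : ∃ g₀ : SLF, g₀ = h8dgHom a₀ := ⟨_, rfl⟩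
  have hog : orderOf g₀ = Fintype.card F - 1 := by
    rw [hg₀def, orderOf_injective h8dgHom h8dgHom_injective, ha₀, Nat.card_units,
      Nat.card_eq_fintype_card]
  have hg₀m : (g₀ : MF) = !![(a₀ : F), 0; 0, ((a₀⁻¹ : Fˣ) : F)] := by rw [hg₀def]; rfl
  have hg01 : (g₀ : MF) 0 1 = 0 := by rw [hg₀m]; rfl
  have hg10 : (g₀ : MF) 1 0 = 0 := by rw [hg₀m]; rfl
  have hg00 : (g₀ : MF) 0 0 * (g₀ : MF) 0 0 ≠ 1 := by rw [hg₀m]; exact ha₀2
  have hpart1' := h8_diag_centralizer g₀ hg01 hg10 hg00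
  have hCeq : Subgroup.centralizer ({d} : Set SLF) = Subgroup.centralizer ({g₀} : Set SLF) := by
    ext g
    rw [hpart1 g, hpart1' g]
  have htr : Matrix.trace (g₀ : MF) = (a₀ : F) + ((a₀⁻¹ : Fˣ) : F) := by
    rw [hg₀m, Matrix.trace_fin_two_of]
  have hinv : (a₀ : F) * ((a₀⁻¹ : Fˣ) : F) = 1 := by
    rw [← Units.val_mul, mul_inv_cancel, Units.val_one]
  have hreg : Matrix.trace (g₀ : MF) * Matrix.trace (g₀ : MF) ≠ 4 := by
    rw [htr]
    intro h
    have h5 : ((a₀ : F) - ((a₀⁻¹ : Fˣ) : F)) * ((a₀ : F) - ((a₀⁻¹ : Fˣ) : F)) = 0 := by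
      linear_combination h - 4 * hinv
    have h6 : (a₀ : F) - ((a₀⁻¹ : Fˣ) : F) = 0 := mul_self_eq_zero.mp h5
    apply ha₀2
    linear_combination (a₀ : F) * h6 + hinv
  have hcardC : Nat.card (Subgroup.centralizer ({g₀} : Set SLF)) = Fintype.card F - 1 :=
    h8_sl2_card_centralizer_of_root g₀ hreg (a₀ : F) (by rw [htr]; linear_combination hinv)
  have hCT : Subgroup.zpowers g₀ = Subgroup.centralizer ({g₀} : Set SLF) := by
    apply Subgroup.eq_of_le_of_card_ge
    · rw [Subgroup.zpowers_le, Subgroup.mem_centralizer_singleton_iff]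
    · rw [Nat.card_zpowers, hog, hcardC]
  have hpc : ¬ p ∣ Fintype.card F - 1 := by
    intro h
    have h5 := Nat.dvd_sub hpq h
    rw [show Fintype.card F - (Fintype.card F - 1) = 1 by omega] at h5
    exact hpp.one_lt.ne' (Nat.dvd_one.mp h5)
  have hce : 2 ∣ Fintype.card F - 1 := by omega
  rw [hCeq, ← hCT]
  refine ⟨?_, ?_, ?_, ?_⟩
  · intro g; rw [hCT]; exact hpart1' g
  · rw [h8_torus_normalizer_card hodd' h2 g₀ hreg hCT, hog]
  · rw [h8_torus_normalizer_classes hodd' h2 p g₀ _ hog hpc hce hreg hCT _ rfl]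
    omega
  · intro g hg hgT
    rw [← Matrix.SpecialLinearGroup.coe_mul, h8_torus_sq_outside h2 g₀ hreg hCT g hg hgT]
    exact h8negOne_val

end

end Cfsg.Agent.Lib.Helper8
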