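import Mathlib
import Cfsg.Agent.Lib.Helper8.SL2TorusN

set_option autoImplicit false
set_option linter.style.haveILetI false
set_option linter.unusedSectionVars false
set_option linter.unusedVariables false

universe u

namespace Cfsg.Agent.Lib.Helper8

open Matrix

section
variable {F : Type u} [Field F]

local notation "SLF" => Matrix.SpecialLinearGroup (Fin 2) F
local notation "MF" => Matrix (Fin 2) (Fin 2) F
local notation "PSLF" => Matrix.ProjectiveSpecialLinearGroup (Fin 2) F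
local notation "πF" => QuotientGroup.mk' (Subgroup.center (Matrix.SpecialLinearGroup (Fin 2) F))

/-- a point on the conic governing products of two elements of trace `t` -/
theorem h8_conic_point [Fintype F] (hodd : Fintype.card F % 2 = 1) (h2 : (2 : F) ≠ 0)
    (t τ : F) (ht : t ≠ 0) (hτ : τ ≠ 2) :
    ∃ a β : F, a * a + β * β - τ * a * β - t * a + t * β + 1 = 0 := by
  by_cases hτ' : τ = -2
  · obtain ⟨m, hm⟩ : ∃ m : F, m * (2 * t) = 1 :=
      ⟨(2 * t)⁻¹, inv_mul_cancel₀ (mul_ne_zero h2 ht)⟩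
    refine ⟨m, -m, ?_⟩
    rw [hτ']
    linear_combination -hm
  · obtain ⟨l, hl⟩ : ∃ l : F, l * 2 = 1 := ⟨2⁻¹, inv_mul_cancel₀ h2⟩
    have h1 : (2 - τ) ≠ 0 := fun h => hτ (by linear_combination -h)
    have h3 : (2 + τ) ≠ 0 := fun h => hτ' (by linear_combination h)
    have hf : (Polynomial.C (2 - τ) * Polynomial.X ^ 2 : Polynomial F).degree = 2 :=
      Polynomial.degree_C_mul_X_pow 2 h1
    have hg : (Polynomial.C (2 + τ) * Polynomial.X ^ 2 + Polynomial.C (-(4 * t)) * Polynomial.X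
        + Polynomial.C 4 : Polynomial F).degree = 2 := Polynomial.degree_quadratic h3
    obtain ⟨u, v, huv⟩ := FiniteField.exists_root_sum_quadratic hf hg hodd
    simp only [Polynomial.eval_add, Polynomial.eval_mul, Polynomial.eval_C, Polynomial.eval_pow,
      Polynomial.eval_X] at huv
    refine ⟨(u + v) * l, (u - v) * l, ?_⟩
    linear_combination l * l * huv + (2 * l * t * v - (2 * l + 1)) * hl

/-- a non-central element is a product of two elements of trace `t` as soon as the conic has a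
point -/
theorem h8_sl2_prod_of_conic (t : F) (Y : SLF) (hY1 : Y ≠ 1) (hYn : Y ≠ h8negOne) (a β : F)
    (hab : a * a + β * β - Matrix.trace (Y : MF) * a * β - t * a + t * β + 1 = 0) :
    ∃ A B : SLF, Matrix.trace (A : MF) = t ∧ Matrix.trace (B : MF) = t ∧ Y = A * B := by
  obtain ⟨δ, hδ⟩ := h8_sl2_conj_some_twisted Y hY1 hYn
  obtain ⟨C, hC⟩ := isConj_iff.mp hδ
  obtain ⟨τ, hτ⟩ : ∃ τ : F, τ = Matrix.trace (Y : MF) := ⟨_, rfl⟩
  rw [← hτ] at hab hC
  have hεδ : ((δ⁻¹ : Fˣ) : F) * (δ : F) = 1 := by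
    rw [← Units.val_mul, inv_mul_cancel, Units.val_one]
  obtain ⟨ε, hε⟩ : ∃ ε : F, ε = ((δ⁻¹ : Fˣ) : F) := ⟨_, rfl⟩
  rw [← hε] at hεδ
  have hdet : (!![a, β * ε; (t - a * τ + β) * δ, t - a] : MF).det = 1 := by
    rw [Matrix.det_fin_two_of]
    linear_combination -hab - β * (t - a * τ + β) * hεδ
  obtain ⟨A₀, hA₀⟩ : ∃ A₀ : SLF, (A₀ : MF) = !![a, β * ε; (t - a * τ + β) * δ, t - a] :=
    ⟨⟨_, hdet⟩, rfl⟩
  have hY₀ : ((h8compT δ τ : SLF) : MF) = !![0, -ε; (δ : F), τ] := by rw [h8compT_val, hε]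
  refine ⟨C⁻¹ * A₀ * C⁻¹⁻¹, C⁻¹ * (A₀⁻¹ * (C * Y * C⁻¹)) * C⁻¹⁻¹, ?_, ?_, by group⟩
  · rw [h8_sl2_trace_conj, hA₀, Matrix.trace_fin_two_of]; ring
  · rw [h8_sl2_trace_conj, hC, Matrix.SpecialLinearGroup.coe_mul,
      h8_sl2_coe_inv A₀ _ _ _ _ hA₀, hY₀, Matrix.mul_fin_two, Matrix.trace_fin_two_of]
    linear_combination (t - a * τ) * hεδ

theorem h8_sl2_sq_of_trace_zero (X : SLF) (ht : Matrix.trace (X : MF) = 0) :
    X * X = h8negOne := by
  obtain ⟨P, Q, R, S, hm⟩ : ∃ P Q R S : F, (X : MF) = !![P, Q; R, S] :=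
    ⟨_, _, _, _, Matrix.eta_fin_two _⟩
  have hdet : P * S - Q * R = 1 := by
    have h0 := X.det_coe
    rw [hm, Matrix.det_fin_two_of] at h0; exact h0
  rw [hm, Matrix.trace_fin_two_of] at ht
  apply Subtype.ext
  rw [Matrix.SpecialLinearGroup.coe_mul, hm, Matrix.mul_fin_two]
  show _ = (!![-1, 0; 0, -1] : MF)
  refine h8_fin_two_congr ?_ ?_ ?_ ?_
  · linear_combination P * ht - hdet
  · linear_combination Q * ht
  · linear_combination R * ht
  · linear_combination S * ht - hdet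

theorem h8_sl2_card_centralizer_of_no_root [Fintype F] (g : SLF)
    (ht : Matrix.trace (g : MF) * Matrix.trace (g : MF) ≠ 4)
    (hroot : ∀ a : F, a * (Matrix.trace (g : MF) - a) ≠ 1) :
    Nat.card (Subgroup.centralizer ({g} : Set SLF)) = Fintype.card F + 1 := by
  have h1 := Subgroup.card_mul_index (Subgroup.centralizer ({g} : Set SLF))
  rw [h8_card_SL2, h8_sl2_index_regular g ht] at h1
  obtain ⟨k, hk⟩ : ∃ k, Fintype.card F = k + 2 :=
    ⟨Fintype.card F - 2, by have := Fintype.one_lt_card (α := F); omega⟩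
  have e0 : (k + 2) ^ 2 - 1 = (k + 1) * (k + 3) := by
    apply Nat.sub_eq_of_eq_add; ring
  haveI : IsEmpty {a : F // a * (Matrix.trace (g : MF) - a) = 1} :=
    ⟨fun a => hroot a.1 a.2⟩
  have hz : Nat.card {a : F // a * (Matrix.trace (g : MF) - a) = 1} = 0 := Nat.card_of_isEmpty
  rw [hz, zero_mul, add_zero, hk, e0, show k + 2 - 1 = k + 1 by omega] at h1
  rw [hk]
  have h5 : Nat.card (Subgroup.centralizer ({g} : Set SLF)) * ((k + 2) * (k + 1))
      = (k + 3) * ((k + 2) * (k + 1)) := by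
    rw [h1]; ring
  have h6 := Nat.eq_of_mul_eq_mul_right (by positivity) h5
  omega

theorem h8_s2455 [Fintype F] (p : ℕ) [Fact p.Prime] [CharP F p] (hp : p ≠ 2)
    (h5 : 5 ≤ Fintype.card F) (x : PSLF) (hx2 : 2 < orderOf x) (hxp : ¬ p ∣ orderOf x) :
    ∀ g : PSLF, g ≠ 1 → ∃ u v : PSLF, g = (u * x * u⁻¹) * (v * x * v⁻¹) := by
  classical
  have hpp := (Fact.out : p.Prime)
  have hF : ringChar F ≠ 2 := by rw [ringChar.eq F p]; exact hp
  have h2 : (2 : F) ≠ 0 := Ring.two_ne_zero hF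
  have hodd : Fintype.card F % 2 = 1 := by
    by_contra hcon
    exact hF (FiniteField.even_card_iff_char_two.mpr (by omega))
  have hπs : Function.Surjective πF := QuotientGroup.mk'_surjective _
  obtain ⟨X, rfl⟩ := hπs x
  have hπn : πF (h8negOne : SLF) = 1 := (h8_psl2_mk_eq_one_iff _).mpr (Or.inr rfl)
  have ht0 : Matrix.trace (X : MF) ≠ 0 := by
    intro h
    have h5 := h8_sl2_sq_of_trace_zero X h
    have h6 : (πF X) ^ 2 = 1 := by rw [← map_pow, pow_two, h5, hπn]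
    have h7 := Nat.le_of_dvd (by norm_num) (orderOf_dvd_of_pow_eq_one h6)
    omega
  have hreg : Matrix.trace (X : MF) * Matrix.trace (X : MF) ≠ 4 := by
    intro h
    have h5 := h8_sl2_pow_two_p_of_irregular p X h
    have h6 : (πF X) ^ (2 * p) = 1 := by rw [← map_pow, h5, map_one]
    have h7 := orderOf_dvd_of_pow_eq_one h6
    have hcop : Nat.Coprime (orderOf (πF X)) p :=
      ((Nat.Prime.coprime_iff_not_dvd hpp).mpr hxp).symm
    have h8 := Nat.le_of_dvd (by norm_num) (hcop.dvd_of_dvd_mul_right h7)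
    omega
  intro g hg
  obtain ⟨Y, rfl⟩ := hπs g
  have hY1 : Y ≠ 1 := by rintro rfl; exact hg (map_one _)
  have hYn : Y ≠ h8negOne := by rintro rfl; exact hg hπn
  obtain ⟨Y', hY', hY'1, hY'n, hY'τ⟩ : ∃ Y' : SLF, πF Y' = πF Y ∧ Y' ≠ 1 ∧ Y' ≠ h8negOne
      ∧ Matrix.trace (Y' : MF) ≠ 2 := by
    by_cases hτ : Matrix.trace (Y : MF) = 2
    · refine ⟨h8negOne * Y, ?_, ?_, ?_, ?_⟩
      · rw [map_mul, hπn, one_mul]
      · intro h
        apply hYn
        calc Y = h8negOne * (h8negOne * Y) := by rw [← mul_assoc, h8negOne_mul_self, one_mul]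
          _ = h8negOne := by rw [h, mul_one]
      · intro h
        apply hY1
        calc Y = h8negOne * (h8negOne * Y) := by rw [← mul_assoc, h8negOne_mul_self, one_mul]
          _ = 1 := by rw [h, h8negOne_mul_self]
      · rw [h8negOne_mul_trace, hτ]
        exact fun h => h8_two_ne_neg_two h2 h.symm
    · exact ⟨Y, rfl, hY1, hYn, hτ⟩
  obtain ⟨a, β, hab⟩ := h8_conic_point hodd h2 (Matrix.trace (X : MF))
    (Matrix.trace (Y' : MF)) ht0 hY'τ
  obtain ⟨A, B, hA, hB, hAB⟩ := h8_sl2_prod_of_conic (Matrix.trace (X : MF)) Y' hY'1 hY'n a β hab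
  have hcls := h8_sl2_odd_class_set hodd h2 X hreg
  have hAc : IsConj X A := by
    have h9 : A ∈ {h : SLF | IsConj X h} := by rw [hcls]; exact hA
    exact h9
  have hBc : IsConj X B := by
    have h9 : B ∈ {h : SLF | IsConj X h} := by rw [hcls]; exact hB
    exact h9
  obtain ⟨U, hU⟩ := isConj_iff.mp hAc
  obtain ⟨V, hV⟩ := isConj_iff.mp hBc
  refine ⟨πF U, πF V, ?_⟩
  rw [← hY', hAB, ← hU, ← hV]
  simp only [map_mul, map_inv]

theorem h8_s2456 [Fintype F] [CharP F 2] (h4 : 4 ≤ Fintype.card F) (x : PSLF)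
    (hx2 : 2 < orderOf x) (hxq : ¬ orderOf x ∣ Fintype.card F + 1) :
    ∀ g : PSLF, g ≠ 1 → ∃ u v : PSLF, g = (u * x * u⁻¹) * (v * x * v⁻¹) := by
  classical
  have h2 : (2 : F) = 0 := CharTwo.two_eq_zero
  have hπs : Function.Surjective πF := QuotientGroup.mk'_surjective _
  have hneg : (h8negOne : SLF) = 1 := by
    apply Subtype.ext
    show (!![-1, 0; 0, -1] : MF) = ((1 : SLF) : MF)
    rw [Matrix.SpecialLinearGroup.coe_one, Matrix.one_fin_two]
    have h9 : (-1 : F) = 1 := by linear_combination -h2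
    rw [h9]
  obtain ⟨X, rfl⟩ := hπs x
  rw [h8_psl2_orderOf_of_two_eq h2 X] at hx2 hxq
  have ht0 : Matrix.trace (X : MF) ≠ 0 := by
    intro h
    have h5 := h8_sl2_sq_of_trace_zero X h
    rw [hneg] at h5
    have h6 : X ^ 2 = 1 := by rw [pow_two]; exact h5
    have h7 := Nat.le_of_dvd (by norm_num) (orderOf_dvd_of_pow_eq_one h6)
    omega
  have hreg : Matrix.trace (X : MF) * Matrix.trace (X : MF) ≠ 4 := by
    intro h
    apply ht0
    have h4' : (4 : F) = 0 := by linear_combination 2 * h2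
    rw [h4'] at h
    exact mul_self_eq_zero.mp h
  have hX1 : X ≠ 1 := by
    rintro rfl
    apply ht0
    rw [h8_sl2_trace_one]; exact h2
  obtain ⟨a₀, ha₀⟩ : ∃ a₀ : F, a₀ * (Matrix.trace (X : MF) - a₀) = 1 := by
    by_contra hcon
    push Not at hcon
    have h5 : Nat.card (Subgroup.centralizer ({X} : Set SLF)) = Fintype.card F + 1 :=
      h8_sl2_card_centralizer_of_no_root X hreg hcon
    apply hxq
    rw [← h5]
    exact orderOf_dvd_of_pow_eq_one (h8_pow_card_centralizer X)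
  intro g hg
  obtain ⟨Y, rfl⟩ := hπs g
  have hY1 : Y ≠ 1 := by rintro rfl; exact hg (map_one _)
  have hYn : Y ≠ h8negOne := by rw [hneg]; exact hY1
  obtain ⟨A, B, hA, hB, hAB⟩ := h8_sl2_prod_of_conic (Matrix.trace (X : MF)) Y hY1 hYn 0 (-a₀)
    (by linear_combination -ha₀)
  have hcls := h8_sl2_even_class_set X hX1
  have hne1 : ∀ Z : SLF, Matrix.trace (Z : MF) = Matrix.trace (X : MF) → Z ≠ 1 := by
    intro Z hZ h
    apply ht0
    rw [← hZ, h, h8_sl2_trace_one]; exact h2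
  have hAc : IsConj X A := by
    have h9 : A ∈ {h : SLF | IsConj X h} := by rw [hcls]; exact ⟨hne1 A hA, hA⟩
    exact h9
  have hBc : IsConj X B := by
    have h9 : B ∈ {h : SLF | IsConj X h} := by rw [hcls]; exact ⟨hne1 B hB, hB⟩
    exact h9
  obtain ⟨U, hU⟩ := isConj_iff.mp hAc
  obtain ⟨V, hV⟩ := isConj_iff.mp hBc
  refine ⟨πF U, πF V, ?_⟩
  rw [hAB, ← hU, ← hV]
  simp only [map_mul, map_inv]

end

end Cfsg.Agent.Lib.Helper8
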