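import Mathlib
import Cfsg.Agent.Lib.Helper8.CoprimeHall
import Cfsg.Agent.Lib.Helper7.Hall
import Cfsg.Agent.Lib.Helper7.PCore

set_option autoImplicit false

universe u

namespace Cfsg.Agent.Lib.Helper8

/-- Norm argument for a Frobenius-like group `Q ⋊ ⟨z⟩` acting on an abelian group. -/
theorem h8_frob_norm {F V : Type*} [Group F] [CommGroup V] (φ : F →* MulAut V)
    (Q : Subgroup F) [Finite Q] (z : F) (r : ℕ) (hr : r.Prime) (hz : z ^ r = 1)
    (hzQ : ∀ x ∈ Q, z * x * z⁻¹ ∈ Q)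
    (hzfix : ∀ x ∈ Q, z * x = x * z → x = 1)
    (hzV : ∀ v : V, φ z v = v → v = 1)
    (hQV : ∀ v : V, (∀ x ∈ Q, φ x v = v) → v = 1)
    (v : V) : v ^ Nat.card Q = 1 := by
  classical
  have : Fintype Q := Fintype.ofFinite Q
  -- Step A
  have hA : ∀ u : V, ∏ y : Q, φ (y : F) u = 1 := by
    intro u
    apply hQV
    intro x hx
    rw [map_prod]
    have h1 : ∀ y : Q, φ x (φ (y : F) u) = φ (((⟨x, hx⟩ : Q) * y : Q) : F) u := by
      intro y
      rw [Subgroup.coe_mul, map_mul]; rfl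
    simp_rw [h1]
    exact Function.Bijective.prod_comp (Group.mulLeft_bijective (⟨x, hx⟩ : Q))
      (fun y : Q => φ (y : F) u)
  -- Step B
  have hB : ∀ (x : F) (u : V), ∏ i ∈ Finset.range r, φ (x * z ^ i * x⁻¹) u = 1 := by
    intro x u
    have h1 : ∀ i, φ (x * z ^ i * x⁻¹) u = φ x (φ (z ^ i) (φ x⁻¹ u)) := by
      intro i
      rw [map_mul, map_mul]; rfl
    simp_rw [h1]
    rw [← map_prod]
    have h2 : ∏ i ∈ Finset.range r, φ (z ^ i) (φ x⁻¹ u) = 1 := by
      apply hzV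
      rw [map_prod]
      have h3 : ∀ i, φ z (φ (z ^ i) (φ x⁻¹ u)) = φ (z ^ (i + 1)) (φ x⁻¹ u) := by
        intro i
        rw [pow_succ', map_mul]; rfl
      simp_rw [h3]
      have h4 := Finset.prod_range_succ (fun i => φ (z ^ i) (φ x⁻¹ u)) r
      have h5 := Finset.prod_range_succ' (fun i => φ (z ^ i) (φ x⁻¹ u)) r
      rw [h4] at h5
      simp only [hz, pow_zero] at h5
      exact (mul_right_cancel h5).symm
    rw [h2, map_one]
  -- powers of z normalize Q
  have hzn : ∀ (n : ℕ), ∀ x ∈ Q, z ^ n * x * (z ^ n)⁻¹ ∈ Q := by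
    intro n
    induction n with
    | zero => intro x hx; simpa using hx
    | succ n ih =>
      intro x hx
      have h1 := hzQ _ (ih x hx)
      have h2 : z ^ (n + 1) * x * (z ^ (n + 1))⁻¹ = z * (z ^ n * x * (z ^ n)⁻¹) * z⁻¹ := by
        rw [pow_succ']; group
      rw [h2]; exact h1
  have hC : ∏ x : Q, ∏ i ∈ Finset.range r, φ ((x : F) * z ^ i * (x : F)⁻¹) v = 1 := by
    apply Finset.prod_eq_one
    intro x _
    exact hB x v
  rw [Finset.prod_comm] at hC
  rw [Finset.prod_eq_single 0] at hC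
  · simpa using hC
  · intro i hi hi0
    have hlt : i < r := Finset.mem_range.1 hi
    have hcop : Nat.Coprime i (orderOf z) := by
      have h1 : Nat.Coprime r i :=
        (Nat.Prime.coprime_iff_not_dvd hr).2 (Nat.not_dvd_of_pos_of_lt (Nat.pos_of_ne_zero hi0) hlt)
      exact Nat.Coprime.coprime_dvd_right (orderOf_dvd_of_pow_eq_one hz) h1.symm
    obtain ⟨j, hj⟩ := exists_pow_eq_self_of_coprime hcop
    have hmem : ∀ x : Q, (x : F) * z ^ i * (x : F)⁻¹ * (z ^ i)⁻¹ ∈ Q := by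
      intro x
      have h1 := hzn i _ (Q.inv_mem x.2)
      have h2 : (x : F) * z ^ i * (x : F)⁻¹ * (z ^ i)⁻¹ = (x : F) * (z ^ i * (x : F)⁻¹ * (z ^ i)⁻¹) := by
        group
      rw [h2]; exact Q.mul_mem x.2 h1
    have hinj : Function.Injective
        (fun x : Q => (⟨(x : F) * z ^ i * (x : F)⁻¹ * (z ^ i)⁻¹, hmem x⟩ : Q)) := by
      intro x y hxy
      have h1 : (x : F) * z ^ i * (x : F)⁻¹ * (z ^ i)⁻¹ = (y : F) * z ^ i * (y : F)⁻¹ * (z ^ i)⁻¹ :=
        congrArg Subtype.val hxy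
      have h2 : (x : F) * z ^ i * (x : F)⁻¹ = (y : F) * z ^ i * (y : F)⁻¹ := mul_right_cancel h1
      have h3 : Commute ((y : F)⁻¹ * (x : F)) (z ^ i) := by
        have : (y : F)⁻¹ * (x : F) * z ^ i = z ^ i * ((y : F)⁻¹ * (x : F)) := by
          calc (y : F)⁻¹ * (x : F) * z ^ i = (y : F)⁻¹ * ((x : F) * z ^ i * (x : F)⁻¹) * (x : F) := by
                group
            _ = (y : F)⁻¹ * ((y : F) * z ^ i * (y : F)⁻¹) * (x : F) := by rw [h2]
            _ = z ^ i * ((y : F)⁻¹ * (x : F)) := by group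
        exact this
      have h4 : Commute ((y : F)⁻¹ * (x : F)) z := by
        have := h3.pow_right j
        rwa [hj] at this
      have h5 := hzfix _ (Q.mul_mem (Q.inv_mem y.2) x.2) h4.eq.symm
      have h6 : (x : F) = (y : F) := by
        have := inv_mul_eq_one.1 h5
        exact this.symm
      exact Subtype.ext h6
    have hbij := Finite.injective_iff_bijective.1 hinj
    have h7 : ∀ x : Q, φ ((x : F) * z ^ i * (x : F)⁻¹) v
        = φ (((⟨(x : F) * z ^ i * (x : F)⁻¹ * (z ^ i)⁻¹, hmem x⟩ : Q)) : F) (φ (z ^ i) v) := by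
      intro x
      have h8 : (x : F) * z ^ i * (x : F)⁻¹ = ((x : F) * z ^ i * (x : F)⁻¹ * (z ^ i)⁻¹) * z ^ i := by
        group
      conv_lhs => rw [h8, map_mul]
      rfl
    simp_rw [h7]
    rw [Function.Bijective.prod_comp hbij (fun y : Q => φ (y : F) (φ (z ^ i) v))]
    exact hA _
  · intro h0
    exact absurd (Finset.mem_range.2 hr.pos) h0

/-- Commuting elements with orders divisible by distinct primes give an element of order `p*q`. -/
theorem h8_exists_order_mul {G : Type*} [Group G] [Finite G] (p q : ℕ) (hp : p.Prime) (hq : q.Prime)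
    (hpq : p ≠ q) (a b : G) (hab : Commute a b) (ha : p ∣ orderOf a) (hb : q ∣ orderOf b) :
    ∃ x : G, orderOf x = p * q := by
  have ha' := orderOf_pow_orderOf_div (orderOf_pos a).ne' ha
  have hb' := orderOf_pow_orderOf_div (orderOf_pos b).ne' hb
  refine ⟨a ^ (orderOf a / p) * b ^ (orderOf b / q), ?_⟩
  rw [(hab.pow_pow _ _).orderOf_mul_eq_mul_orderOf_of_coprime (by
    rw [ha', hb']; exact (Nat.coprime_primes hp hq).2 hpq), ha', hb']

theorem h8_prime_dvd_orderOf_of_mem {G : Type*} [Group G] {q : ℕ} (hq : q.Prime) {Q : Subgroup G}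
    (hQ : IsPGroup q Q) {x : G} (hx : x ∈ Q) (hx1 : x ≠ 1) : q ∣ orderOf x := by
  obtain ⟨k, hk⟩ := hQ ⟨x, hx⟩
  have h1 : x ^ q ^ k = 1 := by
    have := congrArg Subtype.val hk
    simpa using this
  obtain ⟨j, hj, hj2⟩ := (Nat.dvd_prime_pow hq).1 (orderOf_dvd_of_pow_eq_one h1)
  rcases Nat.eq_zero_or_pos j with h0 | h0
  · rw [h0, pow_zero] at hj2
    exact absurd (orderOf_eq_one_iff.1 hj2) hx1
  · rw [hj2]; exact dvd_pow_self q h0.ne'

/-- The tower lemma: `P ⊲ G` a `p`-group, `Q` a `q`-group, `z` of order `r` normalizing `Q`. -/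
theorem h8_three_tower {G : Type u} [Group G] [Finite G] (p q r : ℕ) (hp : p.Prime) (hq : q.Prime)
    (hr : r.Prime) (hpq : p ≠ q) (hpr : p ≠ r) (hqr : q ≠ r)
    (P : Subgroup G) [P.Normal] (hP : IsPGroup p P) (hP1 : P ≠ ⊥)
    (Q : Subgroup G) (hQ : IsPGroup q Q) (hQ1 : Q ≠ ⊥)
    (z : G) (hz : orderOf z = r) (hzQ : ∀ x ∈ Q, z * x * z⁻¹ ∈ Q) :
    (∃ x : G, orderOf x = p * q) ∨ (∃ x : G, orderOf x = p * r) ∨ (∃ x : G, orderOf x = q * r) := by
  by_contra hcon
  push Not at hcon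
  obtain ⟨h1, h2, h3⟩ := hcon
  have hpf : Fact p.Prime := ⟨hp⟩
  have hqf : Fact q.Prime := ⟨hq⟩
  obtain ⟨V, hVdef⟩ : ∃ V : Subgroup G, V = P ⊓ Subgroup.centralizer (P : Set G) := ⟨_, rfl⟩
  have hVn : V.Normal := by rw [hVdef]; infer_instance
  have hVP : V ≤ P := by rw [hVdef]; exact inf_le_left
  have hVcomm : ∀ a ∈ V, ∀ b ∈ V, a * b = b * a := by
    intro a ha b hb
    rw [hVdef] at ha
    have := Subgroup.mem_centralizer_iff.1 (Subgroup.mem_inf.1 ha).2 b (hVP hb)
    exact this.symm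
  -- V nontrivial
  obtain ⟨c, hcV, hc1⟩ : ∃ c ∈ V, c ≠ 1 := by
    have hnt : Nontrivial P := (Subgroup.nontrivial_iff_ne_bot P).2 hP1
    have hcn := IsPGroup.center_nontrivial hP
    obtain ⟨c, hc⟩ := exists_ne (1 : Subgroup.center P)
    refine ⟨c.1.1, ?_, ?_⟩
    · rw [hVdef]
      refine Subgroup.mem_inf.2 ⟨c.1.2, ?_⟩
      rw [Subgroup.mem_centralizer_iff]
      intro h hh
      have := Subgroup.mem_center_iff.1 c.2 ⟨h, hh⟩
      exact congrArg Subtype.val this
    · intro h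
      apply hc
      apply Subtype.ext
      apply Subtype.ext
      simpa using h
  let cg : CommGroup V :=
    { (inferInstance : Group V) with mul_comm := fun a b => Subtype.ext (hVcomm a.1 a.2 b.1 b.2) }
  have hQfin : Finite Q := inferInstance
  have hzr : z ^ r = 1 := by rw [← hz]; exact pow_orderOf_eq_one z
  have hzo : r ∣ orderOf z := by rw [hz]
  have key := @h8_frob_norm G V _ cg (MulAut.conjNormal (H := V)) Q hQfin z r hr hzr hzQ
    (by
      intro x hx hcomm
      by_contra hx1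
      have hqx := h8_prime_dvd_orderOf_of_mem hq hQ hx hx1
      obtain ⟨y, hy⟩ := h8_exists_order_mul q r hq hr hqr x z (Commute.symm hcomm) hqx hzo
      exact h3 y hy)
    (by
      intro v hv
      by_contra hv1
      have hv1' : (v : G) ≠ 1 := fun h => hv1 (Subtype.ext h)
      have hpv := h8_prime_dvd_orderOf_of_mem hp hP (hVP v.2) hv1'
      have hcomm : z * (v : G) * z⁻¹ = (v : G) := by
        have := congrArg Subtype.val hv
        rwa [MulAut.conjNormal_apply] at this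
      have hcomm' : Commute (v : G) z := by
        have : z * (v : G) = (v : G) * z := by
          calc z * (v : G) = z * (v : G) * z⁻¹ * z := by group
            _ = (v : G) * z := by rw [hcomm]
        exact this.symm
      obtain ⟨y, hy⟩ := h8_exists_order_mul p r hp hr hpr (v : G) z hcomm' hpv hzo
      exact h2 y hy)
    (by
      intro v hv
      by_contra hv1
      have hv1' : (v : G) ≠ 1 := fun h => hv1 (Subtype.ext h)
      have hpv := h8_prime_dvd_orderOf_of_mem hp hP (hVP v.2) hv1'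
      obtain ⟨x, hxQ, hx1⟩ : ∃ x ∈ Q, x ≠ 1 := by
        by_contra hno
        push Not at hno
        exact hQ1 ((Subgroup.eq_bot_iff_forall Q).2 hno)
      have hqx := h8_prime_dvd_orderOf_of_mem hq hQ hxQ hx1
      have hcomm : x * (v : G) * x⁻¹ = (v : G) := by
        have := congrArg Subtype.val (hv x hxQ)
        rwa [MulAut.conjNormal_apply] at this
      have hcomm' : Commute (v : G) x := by
        have : x * (v : G) = (v : G) * x := by
          calc x * (v : G) = x * (v : G) * x⁻¹ * x := by group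
            _ = (v : G) * x := by rw [hcomm]
        exact this.symm
      obtain ⟨y, hy⟩ := h8_exists_order_mul p q hp hq hpq (v : G) x hcomm' hpv hqx
      exact h1 y hy)
    ⟨c, hcV⟩
  have hc2 : c ^ Nat.card Q = 1 := by
    have := congrArg Subtype.val key
    simpa using this
  have hpc := h8_prime_dvd_orderOf_of_mem hp hP (hVP hcV) hc1
  have h4 : p ∣ Nat.card Q := hpc.trans (orderOf_dvd_of_pow_eq_one hc2)
  obtain ⟨n, hn⟩ := IsPGroup.iff_card.1 hQ
  rw [hn] at h4
  exact hpq ((Nat.prime_dvd_prime_iff_eq hp hq).1 (hp.dvd_of_dvd_pow h4))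

theorem h8_three_stage2 {G : Type u} [Group G] [Finite G] (p q r : ℕ) (hp : p.Prime) (hq : q.Prime)
    (hr : r.Prime) (hpq : p ≠ q) (hpr : p ≠ r) (hqr : q ≠ r)
    (P : Subgroup G) [P.Normal] (hP : IsPGroup p P) (hP1 : P ≠ ⊥)
    (M : Subgroup G) [M.Normal] (hqM : q ∣ Nat.card M) (hrM : r ∣ M.index) :
    (∃ x : G, orderOf x = p * q) ∨ (∃ x : G, orderOf x = p * r) ∨ (∃ x : G, orderOf x = q * r) := by
  have hqf : Fact q.Prime := ⟨hq⟩
  have hrf : Fact r.Prime := ⟨hr⟩
  obtain ⟨Q₀⟩ : Nonempty (Sylow q M) := inferInstance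
  have hQ0 : (Q₀ : Subgroup M) ≠ ⊥ := Sylow.ne_bot_of_dvd_card Q₀ hqM
  have hfr := Sylow.normalizer_sup_eq_top Q₀
  obtain ⟨Q, hQdef⟩ : ∃ Q : Subgroup G, Q = Subgroup.map M.subtype (Q₀ : Subgroup M) := ⟨_, rfl⟩
  rw [← hQdef] at hfr
  have hQ : IsPGroup q Q := by rw [hQdef]; exact Q₀.isPGroup'.map M.subtype
  have hQ1 : Q ≠ ⊥ := by
    rw [hQdef]
    intro h
    exact hQ0 ((Subgroup.map_eq_bot_iff_of_injective _ M.subtype_injective).1 h)
  have h1 : Nat.card (M ⊔ Subgroup.normalizer (Q : Set G) : Subgroup G) ∣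
      Nat.card M * Nat.card (Subgroup.normalizer (Q : Set G)) :=
    Helper7.card_sup_dvd_of_normal M _
  rw [sup_comm, hfr, Subgroup.card_top, ← M.card_mul_index] at h1
  have h2 : M.index ∣ Nat.card (Subgroup.normalizer (Q : Set G)) :=
    Nat.dvd_of_mul_dvd_mul_left Nat.card_pos h1
  obtain ⟨z, hz⟩ := exists_prime_orderOf_dvd_card' r (hrM.trans h2)
  refine h8_three_tower p q r hp hq hr hpq hpr hqr P hP hP1 Q hQ hQ1 z.1 ?_ ?_
  · rw [← hz]; exact (Subgroup.orderOf_coe z)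
  · intro x hx
    exact (Subgroup.mem_normalizer_iff.1 z.2 x).1 hx

theorem h8_s3634 {G : Type u} [Group G] [Finite G] (K M : Subgroup G) [K.Normal] [M.Normal]
    (hKM : K ≤ M)
    (p q r : ℕ) (hp : p.Prime) (hq : q.Prime) (hr : r.Prime) (hpq : p ≠ q) (hpr : p ≠ r)
    (hqr : q ≠ r)
    (hpK : p ∣ Nat.card ↥K) (hqM : q ∣ Nat.card ↥M / Nat.card ↥K)
    (hrG : r ∣ Nat.card G / Nat.card ↥M) :
    (∃ x : G, orderOf x = p * q) ∨ (∃ x : G, orderOf x = p * r) ∨ (∃ x : G, orderOf x = q * r) := by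
  have hpf : Fact p.Prime := ⟨hp⟩
  obtain ⟨P₀⟩ : Nonempty (Sylow p K) := inferInstance
  have hP0 : (P₀ : Subgroup K) ≠ ⊥ := Sylow.ne_bot_of_dvd_card P₀ hpK
  have hfr := Sylow.normalizer_sup_eq_top P₀
  obtain ⟨P, hPdef⟩ : ∃ P : Subgroup G, P = Subgroup.map K.subtype (P₀ : Subgroup K) := ⟨_, rfl⟩
  rw [← hPdef] at hfr
  have hP : IsPGroup p P := by rw [hPdef]; exact P₀.isPGroup'.map K.subtype
  have hP1 : P ≠ ⊥ := by
    rw [hPdef]
    intro h
    exact hP0 ((Subgroup.map_eq_bot_iff_of_injective _ K.subtype_injective).1 h)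
  have hPK : P ≤ K := by
    rw [hPdef]; exact Subgroup.map_subtype_le _
  obtain ⟨N, hNdef⟩ : ∃ N : Subgroup G, N = Subgroup.normalizer (P : Set G) := ⟨_, rfl⟩
  rw [← hNdef] at hfr
  have hPN : P ≤ N := by rw [hNdef]; exact Subgroup.le_normalizer
  have hP'n : (P.subgroupOf N).Normal := by
    rw [hNdef]; exact Subgroup.normal_in_normalizer
  have hP' : IsPGroup p (P.subgroupOf N) := hP.comap_subtype
  have hP'1 : P.subgroupOf N ≠ ⊥ := by
    obtain ⟨x, hxP, hx1⟩ : ∃ x ∈ P, x ≠ 1 := by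
      by_contra hno
      push Not at hno
      exact hP1 ((Subgroup.eq_bot_iff_forall P).2 hno)
    intro h
    have h1 : (⟨x, hPN hxP⟩ : N) ∈ P.subgroupOf N := Subgroup.mem_subgroupOf.2 hxP
    rw [h] at h1
    exact hx1 (congrArg Subtype.val (Subgroup.mem_bot.1 h1))
  -- q divides |M ⊓ N|
  have hq' : q ∣ Nat.card (M.subgroupOf N) := by
    have h1 : (M ⊓ N) ⊔ K = M := by
      apply le_antisymm (sup_le inf_le_left hKM)
      intro m hm
      have hm' : m ∈ ((N ⊔ K : Subgroup G) : Set G) := by rw [hfr]; exact Subgroup.mem_top m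
      rw [Subgroup.mul_normal] at hm'
      obtain ⟨n, hn, k, hk, hnk⟩ := Set.mem_mul.1 hm'
      have hnM : n ∈ M := by
        have : n = m * k⁻¹ := by rw [← hnk]; group
        rw [this]; exact M.mul_mem hm (M.inv_mem (hKM hk))
      rw [← hnk]
      exact Subgroup.mul_mem_sup (Subgroup.mem_inf.2 ⟨hnM, hn⟩) hk
    have h2 : K.relIndex (M ⊓ N) = K.relIndex M := by
      rw [← Subgroup.relIndex_sup_right (M ⊓ N) K, h1]
    have h3 : Nat.card K * K.relIndex M = Nat.card M := Helper7.card_mul_relIndex_of_le hKM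
    have h4 : Nat.card M / Nat.card K = K.relIndex M := by
      rw [← h3]; exact Nat.mul_div_cancel_left _ Nat.card_pos
    rw [h4, ← h2] at hqM
    have h5 : Nat.card (M.subgroupOf N) = Nat.card (M ⊓ N : Subgroup G) := by
      rw [← Subgroup.inf_subgroupOf_right]
      exact Nat.card_congr (Subgroup.subgroupOfEquivOfLe inf_le_right).toEquiv
    rw [h5]
    exact hqM.trans (Subgroup.relIndex_dvd_card _ _)
  have hr' : r ∣ (M.subgroupOf N).index := by
    have h1 : N ⊔ M = ⊤ := by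
      apply top_le_iff.1
      rw [← hfr]
      exact sup_le_sup_left hKM N
    have h2 : M.relIndex N = M.index := by
      rw [← Subgroup.relIndex_sup_right N M, h1, Subgroup.relIndex_top_right]
    have h3 : Nat.card G / Nat.card M = M.index := by
      rw [← M.card_mul_index]; exact Nat.mul_div_cancel_left _ Nat.card_pos
    rw [h3, ← h2] at hrG
    exact hrG
  have hM'n : (M.subgroupOf N).Normal := inferInstance
  rcases h8_three_stage2 (G := N) p q r hp hq hr hpq hpr hqr (P.subgroupOf N) hP' hP'1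
    (M.subgroupOf N) hq' hr' with ⟨x, hx⟩ | ⟨x, hx⟩ | ⟨x, hx⟩
  · exact Or.inl ⟨x.1, by rw [Subgroup.orderOf_coe]; exact hx⟩
  · exact Or.inr (Or.inl ⟨x.1, by rw [Subgroup.orderOf_coe]; exact hx⟩)
  · exact Or.inr (Or.inr ⟨x.1, by rw [Subgroup.orderOf_coe]; exact hx⟩)

end Cfsg.Agent.Lib.Helper8
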